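import Groth.Agent.Lib.DiagGrp.ActionFibres
import Groth.Prelude.Def_SGA3x

/-!
Conjugation and translation actions attached to a homomorphism; homomorphisms from groups of
multiplicative type which are trivial or central on every fibre.
-/

universe u

open CategoryTheory MonoidalCategory CartesianMonoidalCategory MonObj GrpObj AlgebraicGeometry

namespace GrothLib.DiagGrp

variable {S : Scheme.{u}} {G H : Over S} [GrpObj G] [GrpObj H]

theorem lift_conj (u : G ⟶ H) {T : Over S} (g : T ⟶ G) (h : T ⟶ H) :
    lift g h ≫ ((fst G H ≫ u) * snd G H * (fst G H ≫ u)⁻¹) = (g ≫ u) * h * (g ≫ u)⁻¹ := by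
  rw [MonObj.comp_mul, MonObj.comp_mul, GrpObj.comp_inv, lift_fst_assoc, lift_snd]

/-- Conjugation through a homomorphism. -/
noncomputable def conjAction (u : G ⟶ H) [IsMonHom u] : AlgGrp.Action G H :=
    { act := (fst G H ≫ u) * snd G H * (fst G H ≫ u)⁻¹
      one_act := by
        have h1 : (η[G] ▷ H) = lift (fst _ _ ≫ η[G]) (snd _ _) := by
          apply CartesianMonoidalCategory.hom_ext <;> simp
        rw [h1, lift_conj u, show fst (𝟙_ (Over S)) H ≫ η[G] = 1 from (by
          rw [toUnit_unique (fst (𝟙_ (Over S)) H) (toUnit _)]; rfl), MonObj.one_comp, _root_.one_mul, inv_one,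
          _root_.mul_one, leftUnitor_hom]
      mul_act := by
        have h1 : (μ[G] ▷ H) = lift ((fst (G ⊗ G) H ≫ fst G G) * (fst (G ⊗ G) H ≫ snd G G)) (snd _ _) := by
          apply CartesianMonoidalCategory.hom_ext
          · rw [lift_fst, whiskerRight_fst, ← MonObj.comp_mul]
            congr 1
            rw [Hom.mul_def, lift_fst_snd, Category.id_comp]
          · simp
        have h2 : (α_ G G H).hom ≫ (G ◁ ((fst G H ≫ u) * snd G H * (fst G H ≫ u)⁻¹)) =
            lift (fst (G ⊗ G) H ≫ fst G G) (lift (fst (G ⊗ G) H ≫ snd G G) (snd _ _) ≫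
              ((fst G H ≫ u) * snd G H * (fst G H ≫ u)⁻¹)) := by
          apply CartesianMonoidalCategory.hom_ext
          · simp
          · rw [lift_snd, Category.assoc, whiskerLeft_snd, ← Category.assoc]
            congr 1
            apply CartesianMonoidalCategory.hom_ext <;> simp
        rw [h1, lift_conj u, ← Category.assoc, h2, lift_conj u, lift_conj u, MonObj.mul_comp, _root_.mul_inv_rev]
        simp only [_root_.mul_assoc] }


theorem lift_transl (u : G ⟶ H) {T : Over S} (g : T ⟶ G) (h : T ⟶ H) :
    lift g h ≫ ((fst G H ≫ u) * snd G H) = (g ≫ u) * h := by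
  rw [MonObj.comp_mul, lift_fst_assoc, lift_snd]

/-- Left translation through a homomorphism. -/
noncomputable def translAction (u : G ⟶ H) [IsMonHom u] : AlgGrp.Action G H :=
    { act := (fst G H ≫ u) * snd G H
      one_act := by
        have h1 : (η[G] ▷ H) = lift (fst _ _ ≫ η[G]) (snd _ _) := by
          apply CartesianMonoidalCategory.hom_ext <;> simp
        rw [h1, lift_transl u, show fst (𝟙_ (Over S)) H ≫ η[G] = 1 from (by
          rw [toUnit_unique (fst (𝟙_ (Over S)) H) (toUnit _)]; rfl), MonObj.one_comp, _root_.one_mul,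
          leftUnitor_hom]
      mul_act := by
        have h1 : (μ[G] ▷ H) = lift ((fst (G ⊗ G) H ≫ fst G G) * (fst (G ⊗ G) H ≫ snd G G)) (snd _ _) := by
          apply CartesianMonoidalCategory.hom_ext
          · rw [lift_fst, whiskerRight_fst, ← MonObj.comp_mul]
            congr 1
            rw [Hom.mul_def, lift_fst_snd, Category.id_comp]
          · simp
        have h2 : (α_ G G H).hom ≫ (G ◁ ((fst G H ≫ u) * snd G H)) =
            lift (fst (G ⊗ G) H ≫ fst G G) (lift (fst (G ⊗ G) H ≫ snd G G) (snd _ _) ≫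
              ((fst G H ≫ u) * snd G H)) := by
          apply CartesianMonoidalCategory.hom_ext
          · simp
          · rw [lift_snd, Category.assoc, whiskerLeft_snd, ← Category.assoc]
            congr 1
            apply CartesianMonoidalCategory.hom_ext <;> simp
        rw [h1, lift_transl u, ← Category.assoc, h2, lift_transl u, lift_transl u, MonObj.mul_comp]
        simp only [_root_.mul_assoc] }


theorem locally_of_isMultTypeFT (hG : SGA3x.IsMultTypeFT G) :
    TwC.Locally S TwC.Topology.fpqc (fun S' f => ∃ (M : Type) (_ : AddCommGroup M),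
      Nonempty (Grp.mk (Red.bc f G) ≅ Grp.mk (Red.DS S' M))) := by
  obtain ⟨S', f, h1, h2, h3, h4⟩ := hG
  exact ⟨S', f, h1, h2, h3, fun s' => by
    obtain ⟨U, hU, M, inst, -, e⟩ := h4 s'
    exact ⟨U, hU, M, inst, e⟩⟩

/-- A homomorphism of fibres computed on points: equality after base change gives equality of points. -/
theorem comp_eq_of_bc {A B : Over S} {S' : Scheme.{u}} (f : S' ⟶ S) {u v : A ⟶ B}
    (h : (Over.pullback f).map u = (Over.pullback f).map v) {Y : Over S} (σ : Y.left ⟶ S') (hσ : σ ≫ f = Y.hom)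
    (g : Y ⟶ A) : g ≫ u = g ≫ v := by
  let k : (Over.map f).obj (Over.mk σ) ≅ Y := Over.isoMk (Iso.refl _) (by
    change 𝟙 _ ≫ Y.hom = σ ≫ f
    rw [Category.id_comp, hσ])
  rw [← cancel_epi k.hom]
  apply (bcPoint f B (Over.mk σ)).injective
  rw [← Category.assoc, ← Category.assoc]
  exact (bcPoint_comp_right f _ u).trans ((congrArg (_ ≫ ·) h).trans (bcPoint_comp_right f _ v).symm)

/-- A homomorphism from a group of multiplicative type trivial on every fibre is trivial. -/
theorem hom_trivial_of_fibres [LocallyOfFiniteType H.hom]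
    (hG : TwC.Locally S TwC.Topology.fpqc (fun S' f => ∃ (M : Type) (_ : AddCommGroup M),
      Nonempty (Grp.mk (Red.bc f G) ≅ Grp.mk (Red.DS S' M))))
    (u : G ⟶ H) [IsMonHom u] (h0 : ∀ s : S, (Over.pullback (S.fromSpecResidueField s)).map u = 1) : u = 1 := by
  have key := action_trivial_of_fibres hG (translAction u) (fun s Y σ hσ g h => by
    refine (lift_transl u g h).trans ?_
    rw [comp_eq_of_bc (S.fromSpecResidueField s) (u := u) (v := 1) (by rw [h0 s, Functor.map_one]) σ hσ g,
      MonObj.comp_one, _root_.one_mul]) G (𝟙 G) 1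
  have h1 := (lift_transl u (𝟙 G) (1 : G ⟶ H)).symm.trans key
  rwa [Category.id_comp, _root_.mul_one] at h1

/-- A homomorphism from a group of multiplicative type central on every fibre is central. -/
theorem central_of_fibres [LocallyOfFiniteType H.hom]
    (hG : TwC.Locally S TwC.Topology.fpqc (fun S' f => ∃ (M : Type) (_ : AddCommGroup M),
      Nonempty (Grp.mk (Red.bc f G) ≅ Grp.mk (Red.DS S' M))))
    (u : G ⟶ H) [IsMonHom u]
    (h0 : ∀ (s : S) (X : Over (Spec (S.residueField s))) (h : X ⟶ Red.bc (S.fromSpecResidueField s) H)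
      (g : X ⟶ Red.bc (S.fromSpecResidueField s) G),
      h * (g ≫ (Over.pullback (S.fromSpecResidueField s)).map u) =
        (g ≫ (Over.pullback (S.fromSpecResidueField s)).map u) * h) :
    ∀ (Y : Over S) (g : Y ⟶ G) (h : Y ⟶ H), h * (g ≫ u) = (g ≫ u) * h := by
  intro Y g h
  have key := action_trivial_of_fibres hG (conjAction u) (fun s Y σ hσ g h => by
    refine (lift_conj u g h).trans ?_
    let k : (Over.map (S.fromSpecResidueField s)).obj (Over.mk σ) ≅ Y := Over.isoMk (Iso.refl _) (by
      change 𝟙 _ ≫ Y.hom = σ ≫ S.fromSpecResidueField s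
      rw [Category.id_comp, hσ])
    rw [mul_inv_eq_iff_eq_mul, ← cancel_epi k.hom, MonObj.comp_mul, MonObj.comp_mul, ← Category.assoc]
    apply (bcPointMulEquiv (S.fromSpecResidueField s) H (Over.mk σ)).injective
    rw [map_mul, map_mul]
    change bcPoint _ H _ ((k.hom ≫ g) ≫ u) * _ = _ * bcPoint _ H _ ((k.hom ≫ g) ≫ u)
    rw [bcPoint_comp_right]
    exact (h0 s _ _ _).symm) Y g h
  exact (mul_inv_eq_iff_eq_mul.mp ((lift_conj u g h).symm.trans key)).symm

end GrothLib.DiagGrp
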