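import Groth.Agent.Lib.DiagGrp.ChartCover
import Groth.Agent.Lib.DiagGrp.Homs

/-!
A homomorphism is trivial over a scheme over the base if it kills all points lying over it.
-/

universe u

open CategoryTheory MonoidalCategory CartesianMonoidalCategory MonObj GrpObj AlgebraicGeometry
open CategoryTheory.Limits

namespace GrothLib.DiagGrp

variable {S : Scheme.{u}} {H G : Over S} [GrpObj H] [GrpObj G]

/-- `u` kills every point of `H` lying over `z`. -/
def TrivOver (u : H ⟶ G) {Z : Scheme.{u}} (z : Z ⟶ S) : Prop :=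
  ∀ (Y : Over S) (τ : Y.left ⟶ Z), τ ≫ z = Y.hom → ∀ g : Y ⟶ H, g ≫ u = 1

theorem TrivOver.precomp {u : H ⟶ G} {Z Z' : Scheme.{u}} {z : Z ⟶ S} (h : TrivOver u z) (a : Z' ⟶ Z)
    (z' : Z' ⟶ S) (hz : z' = a ≫ z) : TrivOver u z' :=
  fun Y τ hτ g => h Y (τ ≫ a) (by rw [Category.assoc, ← hz, hτ]) g

theorem trivOver_iff_pullback_eq_one (u : H ⟶ G) [IsMonHom u] {Z : Scheme.{u}} (z : Z ⟶ S) :
    (Over.pullback z).map u = 1 ↔ TrivOver u z := by
  constructor
  · intro h Y τ hτ g
    rw [comp_eq_of_bc z (u := u) (v := 1) (by rw [h, Functor.map_one]) τ hτ g, MonObj.comp_one]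
  · intro h
    have h1 := h ((Over.map z).obj (Red.bc z H)) (Red.bc z H).hom rfl ((bcPoint z H (Red.bc z H)).symm (𝟙 _))
    have h2 := congrArg (bcPoint z G (Red.bc z H)) h1
    rw [bcPoint_comp_right, Equiv.apply_symm_apply, Category.id_comp] at h2
    exact h2.trans (map_one (bcPointMulEquiv z G (Red.bc z H)))

theorem eq_one_of_epi (u : H ⟶ G) {Y' Y : Over S} (j : Y' ⟶ Y) [Epi j.left] (g : Y ⟶ H)
    (h : (j ≫ g) ≫ u = 1) : g ≫ u = 1 := by
  apply Over.OverMorphism.ext
  rw [← cancel_epi j.left, ← Over.comp_left, ← Over.comp_left, ← Category.assoc, h, MonObj.comp_one]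

theorem trivOver_of_surjective_flat (u : H ⟶ G) {Z Z' : Scheme.{u}} (a : Z' ⟶ Z) [Flat a] [Surjective a]
    (z : Z ⟶ S) (h : TrivOver u (a ≫ z)) : TrivOver u z := by
  intro Y τ hτ g
  have : Epi (pullback.fst τ a) := Flat.epi_of_flat_of_surjective _
  let j : Over.mk (pullback.fst τ a ≫ Y.hom) ⟶ Y := Over.homMk (pullback.fst τ a) rfl
  have : Epi j.left := ‹Epi (pullback.fst τ a)›
  exact eq_one_of_epi u j g (h _ (pullback.snd τ a) (by
    change pullback.snd τ a ≫ a ≫ z = pullback.fst τ a ≫ Y.hom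
    rw [← hτ, ← pullback.condition_assoc]) _)

theorem trivOver_of_local (u : H ⟶ G) {Z : Scheme.{u}} (z : Z ⟶ S)
    (h : ∀ p : Z, ∃ V : Z.Opens, p ∈ V ∧ TrivOver u (V.ι ≫ z)) : TrivOver u z := by
  intro Y τ hτ g
  apply Over.OverMorphism.ext
  refine Scheme.hom_ext_of_forall _ _ fun P => ?_
  obtain ⟨V, hPV, hV⟩ := h (τ.base P)
  refine ⟨τ ⁻¹ᵁ V, hPV, ?_⟩
  let j : Over.mk ((τ ⁻¹ᵁ V).ι ≫ Y.hom) ⟶ Y := Over.homMk (τ ⁻¹ᵁ V).ι rfl
  have h1 := hV _ (τ ∣_ V) (by
    change (τ ∣_ V) ≫ V.ι ≫ z = (τ ⁻¹ᵁ V).ι ≫ Y.hom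
    rw [← hτ, morphismRestrict_ι_assoc]) (j ≫ g)
  rw [Category.assoc j g u, ← MonObj.comp_one j] at h1
  exact congrArg (fun t => t.left) h1

/-- Triviality may be checked on affine points. -/
theorem trivOver_of_affine (u : H ⟶ G) {Z : Scheme.{u}} (z : Z ⟶ S)
    (h : ∀ (C : Type u) [CommRing C] (t : Spec (CommRingCat.of C) ⟶ Z) (g : Over.mk (t ≫ z) ⟶ H), g ≫ u = 1) :
    TrivOver u z := by
  intro Y τ hτ g
  apply Over.OverMorphism.ext
  refine Scheme.Cover.hom_ext Y.left.affineCover _ _ fun i => ?_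
  let j : Over.mk ((Y.left.affineCover.f i ≫ τ) ≫ z) ⟶ Y := Over.homMk (Y.left.affineCover.f i) (by
    change Y.left.affineCover.f i ≫ Y.hom = (Y.left.affineCover.f i ≫ τ) ≫ z
    rw [Category.assoc, hτ])
  have h1 : (j ≫ g) ≫ u = 1 := h _ (Y.left.affineCover.f i ≫ τ) (j ≫ g)
  have h2 : j ≫ g ≫ u = j ≫ 1 := ((Category.assoc j g u).symm.trans h1).trans (MonObj.comp_one j).symm
  exact congrArg (fun t => t.left) h2

theorem flat_of_field {L : Type u} [Field L] {Z : Scheme.{u}} (a : Z ⟶ Spec (CommRingCat.of L)) : Flat a := by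
  have : Subsingleton ↥(Spec (CommRingCat.of L)) := inferInstanceAs (Subsingleton (PrimeSpectrum L))
  have : IsIntegral (Spec (CommRingCat.of L)) := inferInstance
  infer_instance

/-- A point of the base lies in the trivial locus iff the homomorphism is trivial over some field point above it. -/
theorem trivOver_field_iff (u : H ⟶ G) {L : Type u} [Field L] (m : Spec (CommRingCat.of L) ⟶ S) :
    TrivOver u m ↔ TrivOver u (S.fromSpecResidueField (m.base (IsLocalRing.closedPoint L))) := by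
  have key : ∀ p : (x : S) × (S.residueField x ⟶ CommRingCat.of L),
      TrivOver u (Spec.map p.2 ≫ S.fromSpecResidueField p.1) ↔ TrivOver u (S.fromSpecResidueField p.1) := by
    intro p
    refine ⟨fun h => ?_, fun h => h.precomp (Spec.map p.2) _ rfl⟩
    have : Flat (Spec.map p.2) := flat_of_field (L := S.residueField p.1) _
    have : Surjective (Spec.map p.2) := ⟨fun x => ⟨IsLocalRing.closedPoint L, Subsingleton.elim (α := PrimeSpectrum (S.residueField p.1)) _ _⟩⟩
    exact trivOver_of_surjective_flat u (Spec.map p.2) _ h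
  have h2 := key (Scheme.SpecToEquivOfField L S m)
  have h3 : Spec.map (Scheme.SpecToEquivOfField L S m).2 ≫
      S.fromSpecResidueField (Scheme.SpecToEquivOfField L S m).1 = m :=
    (Scheme.SpecToEquivOfField L S).symm_apply_apply m
  rw [h3] at h2
  exact h2

end GrothLib.DiagGrp
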