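import Groth.Agent.Lib.DiagGrp.ChartCover
import Mathlib.RingTheory.Finiteness.Basic
import Mathlib.RingTheory.Noetherian.Basic

/-!
Tori have diagonalisable charts with finitely generated character groups.
-/

universe u

open CategoryTheory AlgebraicGeometry

namespace GrothLib.DiagGrp

variable {S : Scheme.{u}}

theorem fg_int_pi (r : ℕ) : AddGroup.FG (Fin r → ℤ) :=
  Module.Finite.iff_addGroup_fg.mp inferInstance

theorem hasChartsFpqc_of_isTorus {T : Over S} [GrpObj T] (hT : Red.IsTorus T) : HasChartsFpqc fgM T := by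
  obtain ⟨S', f, h1, h2, h3, h4⟩ := hT
  exact ⟨S', f, h1, h2, h3, fun s' => by
    obtain ⟨U, hU, r, e⟩ := h4 s'
    exact ⟨U, hU, _, _, fg_int_pi r, e⟩⟩

theorem hasChartsFpqc_of_isTorus_any {T : Over S} [GrpObj T] (hT : Red.IsTorus T) : HasChartsFpqc anyM T :=
  (hasChartsFpqc_of_isTorus hT).mono fun _ _ _ => trivial

end GrothLib.DiagGrp
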