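import Groth.Agent.Lib.DiagGrp.CharProps
import Groth.Agent.Lib.DiagGrp.Torus

/-!
Comparing two subgroups of multiplicative type, one of which is central.
-/

universe u

open CategoryTheory MonoidalCategory CartesianMonoidalCategory MonObj GrpObj AlgebraicGeometry
open CategoryTheory.Limits

namespace GrothLib.DiagGrp

theorem bcGrpComp_naturality {S₁ S₂ S₃ : Scheme.{u}} {K K' : Over S₁} [GrpObj K] [GrpObj K'] (u : K ⟶ K')
    (f : S₂ ⟶ S₁) (g : S₃ ⟶ S₂) (h : S₃ ⟶ S₁) (hh : h = g ≫ f) :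
    (Over.pullback h).map u ≫ ((Grp.forget _).mapIso (bcGrpComp K' f g h hh)).hom =
      ((Grp.forget _).mapIso (bcGrpComp K f g h hh)).hom ≫ (Over.pullback g).map ((Over.pullback f).map u) := by
  subst hh
  exact (congrArg (_ ≫ ·) (by simp [bcGrpComp] <;> rfl :
      ((Grp.forget _).mapIso (bcGrpComp K' f g _ rfl)).hom = (Over.pullbackComp g f).hom.app K')).trans
    (((Over.pullbackComp g f).hom.naturality u).trans (congrArg (· ≫ _) (by simp [bcGrpComp] <;> rfl :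
      ((Grp.forget _).mapIso (bcGrpComp K f g _ rfl)).hom = (Over.pullbackComp g f).hom.app K)).symm)

theorem isMonHom_of_points {S : Scheme.{u}} {A B : Over S} [GrpObj A] [GrpObj B] (f : A ⟶ B)
    (h : ∀ (Y : Over S) (a b : Y ⟶ A), (a * b) ≫ f = (a ≫ f) * (b ≫ f)) : IsMonHom f := by
  apply GrothLib.GrpSchField.isMonHom_of_mul
  have h2 := h _ (fst A A) (snd A A)
  rw [Hom.mul_def, lift_fst_snd, Category.id_comp, Hom.mul_def, ← lift_map] at h2
  rw [h2, lift_fst_snd, Category.id_comp]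

/-- A quotient of homomorphisms, the second with central image, is a homomorphism. -/
theorem isMonHom_mul_inv_central {W : Scheme.{u}} {A B : Over W} [GrpObj A] [GrpObj B] (v w : A ⟶ B)
    [IsMonHom v] [IsMonHom w] (hw : ∀ (Y : Over W) (g : Y ⟶ B) (h : Y ⟶ A), g * (h ≫ w) = (h ≫ w) * g) :
    IsMonHom (v * w⁻¹) := isMonHom_of_points _ fun Y a b => by
  simp only [MonObj.comp_mul, GrpObj.comp_inv, MonObj.mul_comp, _root_.mul_inv_rev]
  have h1 : Commute (a ≫ w) (b ≫ v) := (hw Y (b ≫ v) a).symm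
  have h2 : Commute (a ≫ w) (b ≫ w) := (hw Y (b ≫ w) a).symm
  have h3 : Commute (a ≫ w)⁻¹ ((b ≫ v) * (b ≫ w)⁻¹) := (h1.mul_right h2.inv_right).inv_left
  calc (a ≫ v) * (b ≫ v) * ((b ≫ w)⁻¹ * (a ≫ w)⁻¹)
      = (a ≫ v) * (((b ≫ v) * (b ≫ w)⁻¹) * (a ≫ w)⁻¹) := by simp only [_root_.mul_assoc]
    _ = (a ≫ v) * ((a ≫ w)⁻¹ * ((b ≫ v) * (b ≫ w)⁻¹)) := by rw [h3.eq]
    _ = (a ≫ v) * (a ≫ w)⁻¹ * ((b ≫ v) * (b ≫ w)⁻¹) := by simp only [_root_.mul_assoc]

/-- Right factor of a homomorphism through a monomorphism. -/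
theorem isMonHom_of_comp_mono {S : Scheme.{u}} {A B C : Over S} [GrpObj A] [GrpObj B] [GrpObj C] (f : A ⟶ B)
    (j : B ⟶ C) [IsMonHom j] [Mono j] [IsMonHom (f ≫ j)] : IsMonHom f :=
  isMonHom_of_points _ fun Y a b => by
    rw [← cancel_mono j, Category.assoc, MonObj.mul_comp, MonObj.mul_comp, Category.assoc, Category.assoc]

variable {S : Scheme.{u}} {H H' G : Over S}

/-- Every point of the first subgroup over `z` is a point of the second. -/
def Factor (i : H ⟶ G) (i' : H' ⟶ G) {Z : Scheme.{u}} (z : Z ⟶ S) : Prop :=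
  ∀ (Y : Over S) (τ : Y.left ⟶ Z), τ ≫ z = Y.hom → ∀ g : Y ⟶ H, ∃ y : Y ⟶ H', y ≫ i' = g ≫ i

theorem Factor.precomp {i : H ⟶ G} {i' : H' ⟶ G} {Z Z' : Scheme.{u}} {z : Z ⟶ S} (h : Factor i i' z) (a : Z' ⟶ Z)
    (z' : Z' ⟶ S) (hz : z' = a ≫ z) : Factor i i' z' :=
  fun Y τ hτ g => h Y (τ ≫ a) (by rw [Category.assoc, ← hz, hτ]) g

theorem factor_iff_exists (i : H ⟶ G) (i' : H' ⟶ G) {Z : Scheme.{u}} (z : Z ⟶ S) :
    Factor i i' z ↔ ∃ y : Red.bc z H ⟶ Red.bc z H', y ≫ (Over.pullback z).map i' = (Over.pullback z).map i := by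
  constructor
  · intro h
    obtain ⟨y, hy⟩ := h ((Over.map z).obj (Red.bc z H)) (Red.bc z H).hom rfl ((bcPoint z H _).symm (𝟙 _))
    refine ⟨bcPoint z H' _ y, ?_⟩
    rw [← bcPoint_comp_right, hy, bcPoint_comp_right, Equiv.apply_symm_apply, Category.id_comp]
  · rintro ⟨y, hy⟩ Y τ hτ g
    let k : (Over.map z).obj (Over.mk τ) ≅ Y := Over.isoMk (Iso.refl _) (by
      change 𝟙 _ ≫ Y.hom = τ ≫ z
      rw [Category.id_comp, hτ])
    refine ⟨k.inv ≫ (bcPoint z H' _).symm (bcPoint z H _ (k.hom ≫ g) ≫ y), ?_⟩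
    rw [Category.assoc, Iso.inv_comp_eq, ← (bcPoint z G (Over.mk τ)).injective.eq_iff, bcPoint_comp_right,
      Equiv.apply_symm_apply, Category.assoc, hy, ← bcPoint_comp_right, Category.assoc]

theorem exists_iso_of_factor (i : H ⟶ G) (i' : H' ⟶ G) [Mono i] [Mono i'] {Z : Scheme.{u}} (z : Z ⟶ S)
    (h : Factor i i' z) (h' : Factor i' i z) :
    ∃ ψ : Red.bc z H ≅ Red.bc z H', ψ.hom ≫ (Over.pullback z).map i' = (Over.pullback z).map i := by
  obtain ⟨y, hy⟩ := (factor_iff_exists i i' z).mp h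
  obtain ⟨y', hy'⟩ := (factor_iff_exists i' i z).mp h'
  haveI : (Over.pullback z).IsRightAdjoint := (Over.mapPullbackAdj z).isRightAdjoint
  refine ⟨⟨y, y', ?_, ?_⟩, hy⟩
  · rw [← cancel_mono ((Over.pullback z).map i), Category.assoc, hy', hy, Category.id_comp]
  · rw [← cancel_mono ((Over.pullback z).map i'), Category.assoc, hy, hy', Category.id_comp]

theorem factor_of_iso (i : H ⟶ G) (i' : H' ⟶ G) {Z : Scheme.{u}} (z : Z ⟶ S)
    (ψ : Red.bc z H ≅ Red.bc z H') (hψ : ψ.hom ≫ (Over.pullback z).map i' = (Over.pullback z).map i) :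
    Factor i i' z ∧ Factor i' i z :=
  ⟨(factor_iff_exists i i' z).mpr ⟨ψ.hom, hψ⟩,
    (factor_iff_exists i' i z).mpr ⟨ψ.inv, by rw [Iso.inv_comp_eq, hψ]⟩⟩

theorem factor_iff_isIso (i : H ⟶ G) (i' : H' ⟶ G) [Mono i'] {Z : Scheme.{u}} (z : Z ⟶ S) :
    Factor i i' z ↔ IsIso ((Over.pullback z).map (pullback.fst i i')).left := by
  haveI : (Over.pullback z).IsRightAdjoint := (Over.mapPullbackAdj z).isRightAdjoint
  constructor
  · intro h
    obtain ⟨y, hy⟩ := h ((Over.map z).obj (Red.bc z H)) (Red.bc z H).hom rfl ((bcPoint z H _).symm (𝟙 _))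
    let l : (Over.map z).obj (Red.bc z H) ⟶ pullback i i' := pullback.lift ((bcPoint z H _).symm (𝟙 _)) y hy.symm
    have hs : bcPoint z (pullback i i') _ l ≫ (Over.pullback z).map (pullback.fst i i') = 𝟙 _ := by
      rw [← bcPoint_comp_right, pullback.lift_fst, Equiv.apply_symm_apply]
    haveI : IsSplitEpi ((Over.pullback z).map (pullback.fst i i')) := IsSplitEpi.mk' ⟨_, hs⟩
    haveI : IsIso ((Over.pullback z).map (pullback.fst i i')) := isIso_of_mono_of_isSplitEpi _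
    exact inferInstanceAs (IsIso ((Over.forget Z).map ((Over.pullback z).map (pullback.fst i i'))))
  · intro h
    haveI : IsIso ((Over.forget Z).map ((Over.pullback z).map (pullback.fst i i'))) := h
    haveI : IsIso ((Over.pullback z).map (pullback.fst i i')) := isIso_of_reflects_iso _ (Over.forget Z)
    refine (factor_iff_exists i i' z).mpr ⟨inv ((Over.pullback z).map (pullback.fst i i')) ≫
      (Over.pullback z).map (pullback.snd i i'), ?_⟩
    rw [Category.assoc, ← Functor.map_comp, ← pullback.condition, Functor.map_comp, IsIso.inv_hom_id_assoc]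

/-- A descended property holds over an open if it holds on the covers lying over it. -/
theorem pAt_of_coverBy (P : MorphismProperty Scheme.{u}) [P.IsStableUnderBaseChange] [IsZariskiLocalAtTarget P]
    [P.DescendsAlong (@Surjective ⊓ @Flat ⊓ @QuasiCompact)] {A B : Over S} (u : A ⟶ B)
    {Pc : ∀ (W : Scheme.{u}), (W ⟶ S) → Prop} (hcov : ∀ V : S.Opens, IsAffineOpen V → CoverBy Pc V) (U : S.Opens)
    (h : ∀ {W : Scheme.{u}} [IsAffine W] (f : W ⟶ S), Pc W f → (∀ x, f.base x ∈ U) →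
      P ((Over.pullback f).map u).left) :
    P ((Over.pullback U.ι).map u).left := by
  choose V hV hxV hVU using fun x : (U : Scheme.{u}) => exists_isAffineOpen_mem_and_subset x.2
  refine of_baseCover P u U.ι (Scheme.openCoverOfIsOpenCover _ (fun x => U.ι ⁻¹ᵁ V x)
    (TopologicalSpace.IsOpenCover.mk (eq_top_iff.mpr fun x _ => TopologicalSpace.Opens.mem_iSup.mpr ⟨x, hxV x⟩)))
    fun x => ?_
  refine pAt_of P u (V x).ι (U.ι ∣_ V x) _ (morphismRestrict_ι _ _).symm ?_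
  obtain ⟨W, q, _, _, _, hR⟩ := hcov (V x) (hV x)
  refine pAt_descend P u (V x).ι q ?_
  choose R hR₁ hRa hR₂ using hR
  refine of_baseCover P u (q ≫ (V x).ι) (Scheme.openCoverOfIsOpenCover _ R
    (TopologicalSpace.IsOpenCover.mk (eq_top_iff.mpr fun w _ => TopologicalSpace.Opens.mem_iSup.mpr ⟨w, hR₁ w⟩)))
    fun w => ?_
  haveI : IsAffine (R w : Scheme.{u}) := hRa w
  exact h ((R w).ι ≫ q ≫ (V x).ι) (hR₂ w) fun z => hVU x (by
    rw [Scheme.Hom.comp_apply, Scheme.Hom.comp_apply]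
    exact (q.base ((R w).ι.base z)).2)

/-- Inclusion over an open may be checked on covers. -/
theorem factor_of_coverBy (i : H ⟶ G) (i' : H' ⟶ G) [Mono i']
    {Pc : ∀ (W : Scheme.{u}), (W ⟶ S) → Prop} (hcov : ∀ V : S.Opens, IsAffineOpen V → CoverBy Pc V) (U : S.Opens)
    (h : ∀ {W : Scheme.{u}} [IsAffine W] (f : W ⟶ S), Pc W f → (∀ x, f.base x ∈ U) → Factor i i' f) :
    Factor i i' U.ι :=
  (factor_iff_isIso i i' U.ι).mpr (pAt_of_coverBy (MorphismProperty.isomorphisms Scheme.{u}) (pullback.fst i i') hcov U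
    fun f hP hU => (factor_iff_isIso i i' f).mp (h f hP hU))

variable [GrpObj H] [GrpObj H'] [GrpObj G]

/-- Inclusions transported to a chart. -/
theorem factor_chart_iff {W : Scheme.{u}} (f : W ⟶ S) {A A' : Over W} (a : Red.bc f H ≅ A) (a' : Red.bc f H' ≅ A')
    (i : H ⟶ G) (i' : H' ⟶ G) {Z : Scheme.{u}} (t : Z ⟶ W) :
    Factor (a.inv ≫ (Over.pullback f).map i) (a'.inv ≫ (Over.pullback f).map i') t ↔ Factor i i' (t ≫ f) := by
  constructor
  · intro h Y τ hτ g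
    let k : (Over.map f).obj (Over.mk (τ ≫ t)) ≅ Y := Over.isoMk (Iso.refl _) (by
      change 𝟙 _ ≫ Y.hom = (τ ≫ t) ≫ f
      rw [Category.id_comp, Category.assoc, hτ])
    obtain ⟨y, hy⟩ := h (Over.mk (τ ≫ t)) τ rfl (bcPoint f H _ (k.hom ≫ g) ≫ a.hom)
    refine ⟨k.inv ≫ (bcPoint f H' _).symm (y ≫ a'.inv), ?_⟩
    rw [Category.assoc, Iso.inv_comp_eq, ← (bcPoint f G (Over.mk (τ ≫ t))).injective.eq_iff, bcPoint_comp_right,
      Equiv.apply_symm_apply, Category.assoc, hy, ← Category.assoc k.hom, bcPoint_comp_right f (k.hom ≫ g) i]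
    simp only [Category.assoc, Iso.hom_inv_id_assoc]
  · intro h Y τ hτ g
    obtain ⟨y, hy⟩ := h ((Over.map f).obj Y) τ
      (by change τ ≫ t ≫ f = Y.hom ≫ f; rw [← Category.assoc, hτ]) ((bcPoint f H Y).symm (g ≫ a.inv))
    refine ⟨bcPoint f H' Y y ≫ a'.hom, ?_⟩
    rw [Category.assoc, Iso.hom_inv_id_assoc, ← bcPoint_comp_right, hy, bcPoint_comp_right, Equiv.apply_symm_apply,
      Category.assoc]

/-- Centrality is inherited by base change. -/
theorem central_bc {W : Scheme.{u}} (f : W ⟶ S) (i : H ⟶ G)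
    (hc : ∀ (X : Over S) (g : X ⟶ G) (h : X ⟶ H), g * (h ≫ i) = (h ≫ i) * g) {A : Over W} (c : A ⟶ Red.bc f H)
    (X : Over W) (g : X ⟶ Red.bc f G) (h : X ⟶ A) :
    g * (h ≫ c ≫ (Over.pullback f).map i) = (h ≫ c ≫ (Over.pullback f).map i) * g := by
  obtain ⟨g', rfl⟩ := (bcPointMulEquiv f G X).surjective g
  obtain ⟨h', hh'⟩ := (bcPoint f H X).surjective (h ≫ c)
  have e1 : h ≫ c ≫ (Over.pullback f).map i = bcPointMulEquiv f G X (h' ≫ i) := by
    rw [← Category.assoc, ← hh']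
    exact (bcPoint_comp_right f h' i).symm
  rw [e1, ← map_mul, ← map_mul, hc]

section Chart

variable {W : Scheme.{u}} {M M' : Type} [AddCommGroup M] [AddCommGroup M'] {G' : Over W} [GrpObj G']
  (i₁ : Red.DS W M ⟶ G') (i₂ : Red.DS W M' ⟶ G')

/-- Where a homomorphism of characters identifies the two inclusions, the subgroups coincide. -/
theorem factor_of_trivOver (φ : M' →+ M) (hφ : Function.Bijective φ) {Z : Scheme.{u}} (t : Z ⟶ W)
    (h : TrivOver ((Red.DSmap W φ ≫ i₂) * i₁⁻¹) t) : Factor i₁ i₂ t ∧ Factor i₂ i₁ t := by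
  have h1 : ∀ (Y : Over W) (τ : Y.left ⟶ Z), τ ≫ t = Y.hom → ∀ g : Y ⟶ Red.DS W M,
      (g ≫ Red.DSmap W φ) ≫ i₂ = g ≫ i₁ := fun Y τ hτ g => by
    have h2 := h Y τ hτ g
    rw [MonObj.comp_mul, GrpObj.comp_inv, mul_inv_eq_one, ← Category.assoc] at h2
    exact h2
  refine ⟨fun Y τ hτ g => ⟨_, h1 Y τ hτ g⟩, fun Y τ hτ g => ?_⟩
  haveI : IsIso ((Over.forget W).map (Red.DSmap W φ)) := charCond_iso.dsmap φ hφ W
  haveI : IsIso (Red.DSmap W φ) := isIso_of_reflects_iso _ (Over.forget W)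
  refine ⟨g ≫ inv (Red.DSmap W φ), ?_⟩
  rw [← h1 Y τ hτ, Category.assoc g, IsIso.inv_hom_id, Category.comp_id]

variable [IsMonHom i₁] [IsMonHom i₂] [Mono i₁] [Mono i₂]
  (hc : ∀ (X : Over W) (g : X ⟶ G') (h : X ⟶ Red.DS W M), g * (h ≫ i₁) = (h ≫ i₁) * g)

/-- Where the subgroups coincide they are locally identified by a homomorphism of characters. -/
theorem exists_char_of_factor (hM' : AddGroup.FG M') {Z : Scheme.{u}} (t : Z ⟶ W)
    (h : Factor i₁ i₂ t) (h' : Factor i₂ i₁ t) (z : Z) :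
    ∃ φ : M' →+ M, Function.Bijective φ ∧
      ∃ U : Z.Opens, z ∈ U ∧ TrivOver ((Red.DSmap W φ ≫ i₂) * i₁⁻¹) (U.ι ≫ t) := by
  obtain ⟨ψ, hψ⟩ := exists_iso_of_factor i₁ i₂ t h h'
  have ht : t ≫ Limits.IsTerminal.from specULiftZIsTerminal W = Limits.IsTerminal.from specULiftZIsTerminal Z :=
    specULiftZIsTerminal.hom_ext _ _
  let eM := bcGrpComp (Red.diag (ULift.{u} ℤ) M) (Limits.IsTerminal.from specULiftZIsTerminal W) t
    (Limits.IsTerminal.from specULiftZIsTerminal Z) ht.symm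
  let eM' := bcGrpComp (Red.diag (ULift.{u} ℤ) M') (Limits.IsTerminal.from specULiftZIsTerminal W) t
    (Limits.IsTerminal.from specULiftZIsTerminal Z) ht.symm
  let cM : Red.DS Z M ≅ Red.bc t (Red.DS W M) := (Grp.forget _).mapIso eM
  let cM' : Red.DS Z M' ≅ Red.bc t (Red.DS W M') := (Grp.forget _).mapIso eM'
  haveI : IsMonHom cM.hom := eM.hom.hom.isMonHom_hom
  haveI : IsMonHom cM'.inv := eM'.inv.hom.isMonHom_hom
  haveI : (Over.pullback t).IsRightAdjoint := (Over.mapPullbackAdj t).isRightAdjoint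
  haveI : IsMonHom ψ.hom := by
    haveI : IsMonHom (ψ.hom ≫ (Over.pullback t).map i₂) := by rw [hψ]; infer_instance
    exact isMonHom_of_comp_mono _ ((Over.pullback t).map i₂)
  set v₀ : Red.DS Z M ⟶ Red.DS Z M' := cM.hom ≫ ψ.hom ≫ cM'.inv
  obtain ⟨φ, hφ⟩ := exists_char v₀ (L := Z.residueField z) (Z.fromSpecResidueField z)
  obtain ⟨U, -, hU, hUeq⟩ := isClopen_charLocus hM' v₀ φ
  haveI := isMonHom_mul_inv (mul_comm_of_charts (hasChartsFpqc_DS (M := M') Z fgM hM')) v₀ (Red.DSmap Z φ)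
  have hbij : Function.Bijective φ := by
    refine charCond_iso.neg (Z.residueField z) M M' φ ((pAt_dsmap_iff φ (Z.fromSpecResidueField z)).mp ?_)
    rw [← pullback_map_eq v₀ (Red.DSmap Z φ) _ hφ]
    exact inferInstanceAs (IsIso ((Over.forget _).map ((Over.pullback _).map v₀)))
  refine ⟨φ, hbij, U, (hU z).mpr hφ, ?_⟩
  have hnat : Red.DSmap Z φ ≫ cM'.hom = cM.hom ≫ (Over.pullback t).map (Red.DSmap W φ) :=
    bcGrpComp_naturality (Red.diagMap (ULift.{u} ℤ) φ) _ t _ ht.symm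
  have h1 : (Over.pullback t).map (Red.DSmap W φ) = cM.inv ≫ Red.DSmap Z φ ≫ cM'.hom := by
    rw [hnat, Iso.inv_hom_id_assoc]
  have h2 : ψ.hom = cM.inv ≫ v₀ ≫ cM'.hom := by simp [v₀]
  have h3 : (Over.pullback U.ι).map ((Over.pullback t).map (Red.DSmap W φ)) = (Over.pullback U.ι).map ψ.hom := by
    rw [h1, h2]
    simp only [Functor.map_comp]
    rw [hUeq]
  have h4 : (Over.pullback U.ι).map ((Over.pullback t).map (Red.DSmap W φ) ≫ (Over.pullback t).map i₂) =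
      (Over.pullback U.ι).map ((Over.pullback t).map i₁) := by
    rw [Functor.map_comp, h3, ← Functor.map_comp, hψ]
  intro Y τ hτ g
  rw [MonObj.comp_mul, GrpObj.comp_inv, mul_inv_eq_one]
  let k : (Over.map t).obj (Over.mk (τ ≫ U.ι)) ≅ Y := Over.isoMk (Iso.refl _) (by
    change 𝟙 _ ≫ Y.hom = (τ ≫ U.ι) ≫ t
    rw [Category.id_comp, Category.assoc, hτ])
  rw [← cancel_epi k.hom, ← Category.assoc k.hom, ← Category.assoc k.hom]
  apply (bcPoint t G' _).injective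
  rw [bcPoint_comp_right t (k.hom ≫ g), bcPoint_comp_right t (k.hom ≫ g) i₁, Functor.map_comp]
  exact comp_eq_of_bc (Y := Over.mk (τ ≫ U.ι)) U.ι h4 τ rfl _

end Chart

end GrothLib.DiagGrp
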