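import Mathlib.AlgebraicGeometry.Morphisms.ClosedImmersion

/-!
Factorisation of affine points through a closed immersion.
-/

universe u

open CategoryTheory AlgebraicGeometry

namespace GrothLib.DiagGrp

set_option backward.isDefEq.respectTransparency false in
theorem closedImmersion_app_surjective {X Y : Scheme.{u}} (f : X ⟶ Y) [IsClosedImmersion f]
    (U : Y.affineOpens) : Function.Surjective (f.app U) := by
  suffices Function.Surjective ((f.toImage ≫ f.imageι).app U) by
    rwa [f.toImage_imageι] at this
  simp only [Scheme.Hom.comp_app, CommRingCat.hom_comp, RingHom.coe_comp,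
    Scheme.Hom.image, Scheme.Hom.imageι]
  rw [f.ker.subschemeι_app U, CommRingCat.hom_comp, RingHom.coe_comp]
  exact (ConcreteCategory.bijective_of_isIso _).2.comp
    ((ConcreteCategory.bijective_of_isIso _).2.comp Ideal.Quotient.mk_surjective)

/-- An affine point in an affine open killing the ideal of a closed subscheme factors through it. -/
theorem exists_factor_closedImmersion {X Y : Scheme.{u}} (i : X ⟶ Y) [IsClosedImmersion i]
    (U : Y.affineOpens) {C : Type u} [CommRing C] (φ : Γ(Y, U) →+* C)
    (hφ : ∀ a ∈ i.ker.ideal U, φ a = 0) :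
    ∃ y : Spec (CommRingCat.of C) ⟶ X, y ≫ i = Spec.map (CommRingCat.ofHom φ) ≫ U.2.fromSpec := by
  have hsurj := closedImmersion_app_surjective i U
  have hker : RingHom.ker (i.app U).hom ≤ RingHom.ker φ := fun a ha => by
    rw [← Scheme.Hom.ker_apply] at ha
    exact hφ a ha
  let ψ : Γ(X, i ⁻¹ᵁ U) →+* C := (i.app U).hom.liftOfRightInverse _ (Function.rightInverse_surjInv hsurj) ⟨φ, hker⟩
  have hψ : ψ.comp (i.app U).hom = φ := RingHom.liftOfRightInverse_comp _ _ _ ⟨φ, hker⟩
  refine ⟨Spec.map (CommRingCat.ofHom ψ) ≫ (U.2.preimage i).fromSpec, ?_⟩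
  rw [Category.assoc, ← IsAffineOpen.SpecMap_appLE_fromSpec i U.2 (U.2.preimage i) le_rfl,
    ← Category.assoc, ← Spec.map_comp]
  congr 2
  rw [← Scheme.Hom.app_eq_appLE]
  exact CommRingCat.hom_ext hψ

end GrothLib.DiagGrp
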