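import Groth.Agent.Lib.DiagGrp.Grading
import Mathlib.AlgebraicGeometry.OpenImmersion
import Mathlib.AlgebraicGeometry.Cover.Open
import Mathlib.AlgebraicGeometry.AffineScheme
import Mathlib.AlgebraicGeometry.Gluing
import Mathlib.RingTheory.Spectrum.Prime.RingHom
import Mathlib.RingTheory.Nilpotent.Lemmas

/-!
A system of operations of characters on the points of a scheme, trivial modulo nilpotents, is trivial.
-/

universe u

open CategoryTheory AlgebraicGeometry

namespace GrothLib.DiagGrp

/-- A natural action of characters on the affine points of a scheme over `S`. -/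
structure CharAction {S X : Scheme.{u}} (q : X ⟶ S) (G : Type) [CommMonoid G] where
  /-- the operation, defined on affine points -/
  op : ∀ (C : Type u) [CommRing C], (G →* C) → (Spec (CommRingCat.of C) ⟶ X) → (Spec (CommRingCat.of C) ⟶ X)
  op_over : ∀ (C : Type u) [CommRing C] (χ : G →* C) (x : Spec (CommRingCat.of C) ⟶ X), op C χ x ≫ q = x ≫ q
  op_nat : ∀ (C C' : Type u) [CommRing C] [CommRing C'] (h : C →+* C') (χ : G →* C)
    (x : Spec (CommRingCat.of C) ⟶ X),
    op C' ((h : C →* C').comp χ) (Spec.map (CommRingCat.ofHom h) ≫ x) = Spec.map (CommRingCat.ofHom h) ≫ op C χ x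
  op_one : ∀ (C : Type u) [CommRing C] (x : Spec (CommRingCat.of C) ⟶ X), op C 1 x = x
  op_mul : ∀ (C : Type u) [CommRing C] (χ χ' : G →* C) (x : Spec (CommRingCat.of C) ⟶ X),
    op C (χ * χ') x = op C χ (op C χ' x)

variable {S X : Scheme.{u}} {q : X ⟶ S} {G : Type} [CommMonoid G] (A : CharAction q G)

theorem CharAction.trivial_on_chart {R B : Type u} [CommRing R] [CommRing B] [Algebra R B]
    (w : Spec (CommRingCat.of R) ⟶ S) [Mono w] (ι : Spec (CommRingCat.of B) ⟶ X) [IsOpenImmersion ι]
    (hι : ι ≫ q = Spec.map (CommRingCat.ofHom (algebraMap R B)) ≫ w) (I : Ideal R) (hI : IsNilpotent I)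
    (h0 : ∀ (C : Type u) [CommRing C] (σ : R →+* C), (∀ r ∈ I, σ r = 0) → ∀ (χ : G →* C)
      (x : Spec (CommRingCat.of C) ⟶ X), x ≫ q = Spec.map (CommRingCat.ofHom σ) ≫ w → A.op C χ x = x)
    {C : Type u} [CommRing C] (χ : G →* C) (h : B →+* C) :
    A.op C χ (Spec.map (CommRingCat.ofHom h) ≫ ι) = Spec.map (CommRingCat.ofHom h) ≫ ι := by
  classical
  set D := MonoidAlgebra B G with hD
  set c : B →+* D := MonoidAlgebra.singleOneRingHom with hc
  let χ₀ : G →* D := MonoidAlgebra.of B G
  set y₀ := A.op D χ₀ (Spec.map (CommRingCat.ofHom c) ≫ ι) with hy₀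
  -- topologically the universal point stays in the chart
  set J : Ideal D := I.map (algebraMap R D) with hJ
  have hJnil : IsNilpotent J := by
    obtain ⟨N, hN⟩ := hI
    exact ⟨N, by rw [hJ, ← Ideal.map_pow, hN]; exact Ideal.map_bot⟩
  set π : D →+* D ⧸ J := Ideal.Quotient.mk J
  have hred : Spec.map (CommRingCat.ofHom π) ≫ y₀ = Spec.map (CommRingCat.ofHom π) ≫ Spec.map (CommRingCat.ofHom c) ≫ ι := by
    rw [hy₀, ← A.op_nat]
    refine h0 _ ((π.comp c).comp (algebraMap R B)) (fun r hr => ?_) _ _ ?_
    · rw [RingHom.comp_apply, RingHom.comp_apply, Ideal.Quotient.eq_zero_iff_mem]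
      exact Ideal.mem_map_of_mem _ hr
    · rw [Category.assoc, Category.assoc, hι, ← Category.assoc, ← Category.assoc, ← Spec.map_comp, ← Spec.map_comp]
      rfl
  have hrange : Set.range y₀.base ⊆ Set.range ι.base := by
    rintro _ ⟨P, rfl⟩
    obtain ⟨P', hP'⟩ : ∃ P', (Spec.map (CommRingCat.ofHom π)).base P' = P := by
      have hmem : (show PrimeSpectrum D from P) ∈ Set.range (PrimeSpectrum.comap π) := by
        rw [range_comap_of_surjective _ π Ideal.Quotient.mk_surjective,
          PrimeSpectrum.mem_zeroLocus, Ideal.mk_ker, SetLike.coe_subset_coe]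
        obtain ⟨N, hN⟩ := hJnil
        exact fun r hr => P.isPrime.mem_of_pow_mem N (by
          have h1 : r ^ N ∈ J ^ N := Ideal.pow_mem_pow hr N
          rw [hN] at h1
          rw [Ideal.mem_bot.mp h1]
          exact Submodule.zero_mem _)
      exact hmem
    refine ⟨(Spec.map (CommRingCat.ofHom c)).base ((Spec.map (CommRingCat.ofHom π)).base P'), ?_⟩
    have := congrArg (fun f : Spec (CommRingCat.of (D ⧸ J)) ⟶ X => f.base P') hred
    simp only [Scheme.Hom.comp_base, TopCat.coe_comp, Function.comp_apply] at this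
    rw [hP'] at this
    rw [hP', this]
  set α₀ := IsOpenImmersion.lift ι y₀ hrange
  set α : B →+* D := (Spec.preimage α₀).hom with hα
  have hαι : Spec.map (CommRingCat.ofHom α) ≫ ι = y₀ := by
    rw [hα, CommRingCat.ofHom_hom, Spec.map_preimage, IsOpenImmersion.lift_fac]
  have hspec : ∀ {E : Type u} [CommRing E] (f g : B →+* E),
      Spec.map (CommRingCat.ofHom f) ≫ ι = Spec.map (CommRingCat.ofHom g) ≫ ι → f = g := by
    intro E _ f g hfg
    rw [cancel_mono] at hfg
    exact congrArg CommRingCat.Hom.hom (Spec.map_injective hfg)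
  -- the operation on every point of the chart
  let u : ∀ {E : Type u} [CommRing E], (G →* E) → (B →+* E) → (D →+* E) := fun {E} _ ψ g =>
    letI := g.toAlgebra
    (MonoidAlgebra.lift B E G ψ).toRingHom
  have hu_of : ∀ {E : Type u} [CommRing E] (ψ : G →* E) (g : B →+* E) (m : G) (b : B),
      u ψ g (MonoidAlgebra.single m b) = g b * ψ m := fun {E} _ ψ g m b => by
    letI := g.toAlgebra
    change MonoidAlgebra.lift B E G ψ (MonoidAlgebra.single m b) = _
    rw [MonoidAlgebra.lift_single, Algebra.smul_def]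
    rfl
  have hop : ∀ {E : Type u} [CommRing E] (ψ : G →* E) (g : B →+* E),
      A.op E ψ (Spec.map (CommRingCat.ofHom g) ≫ ι) = Spec.map (CommRingCat.ofHom ((u ψ g).comp α)) ≫ ι := by
    intro E _ ψ g
    have h1 := A.op_nat D E (u ψ g) χ₀ (Spec.map (CommRingCat.ofHom c) ≫ ι)
    have hχ : ((u ψ g : D →+* E) : D →* E).comp χ₀ = ψ := MonoidHom.ext fun m => by
      change u ψ g (MonoidAlgebra.single m 1) = ψ m
      rw [hu_of, map_one, one_mul]
    have hg : (u ψ g).comp c = g := RingHom.ext fun b => by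
      change u ψ g (MonoidAlgebra.single 1 b) = g b
      rw [hu_of, map_one, mul_one]
    rw [← Category.assoc, ← Spec.map_comp, ← CommRingCat.ofHom_comp, hg, hχ, ← hy₀, ← hαι,
      ← Category.assoc, ← Spec.map_comp, ← CommRingCat.ofHom_comp] at h1
    exact h1
  have hover : α.comp (algebraMap R B) = c.comp (algebraMap R B) := by
    have h1 : Spec.map (CommRingCat.ofHom (α.comp (algebraMap R B))) ≫ w =
        Spec.map (CommRingCat.ofHom (c.comp (algebraMap R B))) ≫ w := by
      rw [CommRingCat.ofHom_comp, CommRingCat.ofHom_comp, Spec.map_comp, Spec.map_comp, Category.assoc,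
        Category.assoc, ← hι, ← Category.assoc, hαι, hy₀, A.op_over, Category.assoc]
    rw [cancel_mono] at h1
    exact congrArg CommRingCat.Hom.hom (Spec.map_injective h1)
  let αa : B →ₐ[R] D :=
    { α with commutes' := show ∀ r : R, α (algebraMap R B r) = algebraMap R D r from fun r =>
      (RingHom.congr_fun hover r).trans rfl }
  have h1 : ∀ b, (α b).coeff.sum (fun _ x => x) = b := by
    intro b
    have h2 := hop (1 : G →* B) (RingHom.id B)
    rw [A.op_one] at h2
    have h3 := RingHom.congr_fun (hspec _ _ h2) b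
    change b = u (1 : G →* B) (RingHom.id B) (α b) at h3
    conv_rhs => rw [h3, ← MonoidAlgebra.sum_coeff_single (α b)]
    rw [Finsupp.sum, Finsupp.sum, map_sum]
    refine Finset.sum_congr rfl fun m _ => ?_
    rw [hu_of]
    simp
  have h2 : ∀ b m n, comp' αa n (comp' αa m b) = if n = m then comp' αa m b else 0 := by
    intro b m n
    let E := MonoidAlgebra B (G × G)
    let g : B →+* E := MonoidAlgebra.singleOneRingHom
    let χ₁ : G →* E := (MonoidAlgebra.of B (G × G)).comp (MonoidHom.inl G G)
    let χ₂ : G →* E := (MonoidAlgebra.of B (G × G)).comp (MonoidHom.inr G G)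
    have h4 := A.op_mul E χ₁ χ₂ (Spec.map (CommRingCat.ofHom g) ≫ ι)
    rw [hop, hop, hop] at h4
    have h5 := RingHom.congr_fun (hspec _ _ h4) b
    have e1 : ∀ y : D, u (χ₁ * χ₂) g y = y.coeff.sum fun i x => MonoidAlgebra.single (i, i) x := fun y => by
      conv_lhs => rw [← MonoidAlgebra.sum_coeff_single y]
      rw [Finsupp.sum, map_sum]
      refine Finset.sum_congr rfl fun i _ => ?_
      rw [hu_of]
      change (MonoidAlgebra.single (1 : G × G) (y.coeff i) : MonoidAlgebra B (G × G)) *
        (MonoidAlgebra.single (i, (1 : G)) 1 * MonoidAlgebra.single ((1 : G), i) 1) = MonoidAlgebra.single (i, i) (y.coeff i)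
      simp [MonoidAlgebra.single_mul_single]
    have e2 : ∀ y : D, u χ₁ ((u χ₂ g).comp α) y = y.coeff.sum fun i x =>
        (α x).coeff.sum fun j z => MonoidAlgebra.single (i, j) z := fun y => by
      conv_lhs => rw [← MonoidAlgebra.sum_coeff_single y]
      rw [Finsupp.sum, map_sum]
      refine Finset.sum_congr rfl fun i _ => ?_
      rw [hu_of, RingHom.comp_apply]
      conv_lhs => rw [← MonoidAlgebra.sum_coeff_single (α (y.coeff i))]
      simp only [Finsupp.sum, map_sum, Finset.sum_mul]
      refine Finset.sum_congr rfl fun j _ => ?_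
      rw [hu_of]
      change (MonoidAlgebra.single (1 : G × G) _ : MonoidAlgebra B (G × G)) * MonoidAlgebra.single ((1 : G), j) 1 *
        MonoidAlgebra.single (i, (1 : G)) 1 = MonoidAlgebra.single (i, j) ((α (y.coeff i)).coeff j)
      rw [MonoidAlgebra.single_mul_single, MonoidAlgebra.single_mul_single]
      simp
    simp only [RingHom.comp_apply] at h5
    rw [e1, e2] at h5
    have h6 := congrArg (fun z : E => z.coeff (m, n)) h5
    simp only [MonoidAlgebra.coeff_finsuppSum, Finsupp.sum_apply, MonoidAlgebra.coeff_single,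
      Finsupp.single_apply, Prod.mk.injEq] at h6
    change (α ((α b).coeff m)).coeff n = if n = m then (α b).coeff m else 0
    rw [Finsupp.sum, Finset.sum_eq_single m (fun i _ hi => by
        rw [if_neg (fun h => hi h.1)]) (fun hm => by simp [Finsupp.notMem_support_iff.mp hm])] at h6
    rw [Finsupp.sum, Finset.sum_eq_single m (fun i _ hi => by
        rw [Finsupp.sum]; exact Finset.sum_eq_zero fun j _ => if_neg fun h => hi h.1)
      (fun hm => by simp [Finsupp.notMem_support_iff.mp hm])] at h6
    rw [Finsupp.sum, Finset.sum_eq_single n (fun j _ hj => if_neg fun h => hj h.2)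
      (fun hn => by simp [Finsupp.notMem_support_iff.mp hn])] at h6
    simp only [true_and, and_self, if_true] at h6
    rw [← h6]
    rcases eq_or_ne m n with rfl | hmn
    · simp
    · rw [if_neg hmn, if_neg (Ne.symm hmn)]
  have h0' : ∀ b m, m ≠ 1 → (αa b).coeff m ∈ I.map (algebraMap R B) := by
    intro b m hm
    set K := I.map (algebraMap R B)
    set p : B →+* B ⧸ K := Ideal.Quotient.mk K
    let g : B →+* MonoidAlgebra (B ⧸ K) G := MonoidAlgebra.singleOneRingHom.comp p
    let ψ : G →* MonoidAlgebra (B ⧸ K) G := MonoidAlgebra.of (B ⧸ K) G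
    have h4 := hop ψ g
    rw [h0 _ (g.comp (algebraMap R B)) (fun r hr => by
      change MonoidAlgebra.single 1 (p (algebraMap R B r)) = 0
      rw [Ideal.Quotient.eq_zero_iff_mem.mpr (Ideal.mem_map_of_mem _ hr), MonoidAlgebra.single_zero]) _ _
      (by rw [Category.assoc, hι, ← Category.assoc, ← Spec.map_comp]; rfl)] at h4
    have h5 := RingHom.congr_fun (hspec _ _ h4) b
    have h6 := congrArg (fun z : MonoidAlgebra (B ⧸ K) G => z.coeff m) h5
    simp only [RingHom.comp_apply] at h6
    rw [← MonoidAlgebra.sum_coeff_single (α b), Finsupp.sum, map_sum, MonoidAlgebra.coeff_sum, Finset.sum_apply',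
      Finset.sum_eq_single m] at h6
    · rw [← Ideal.Quotient.eq_zero_iff_mem]
      refine Eq.trans ?_ (h6.symm.trans ?_)
      · rw [hu_of]
        simp [g, ψ, MonoidAlgebra.of, MonoidAlgebra.single_mul_single]
        rfl
      · simp [g, Finsupp.single_eq_of_ne hm]
    · intro i _ hi
      rw [hu_of]
      simp [g, ψ, MonoidAlgebra.of, MonoidAlgebra.single_mul_single, Finsupp.single_eq_of_ne (Ne.symm hi)]
    · intro hm'
      rw [hu_of, Finsupp.notMem_support_iff.mp hm']
      simp
  have hconst : ∀ b, α b = c b := fun b => eq_single_one αa h1 h2 I hI h0' b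
  rw [hop]
  congr 2
  refine congrArg CommRingCat.ofHom (RingHom.ext fun b => ?_)
  rw [RingHom.comp_apply, hconst, hc]
  change u χ h (MonoidAlgebra.single 1 b) = h b
  rw [hu_of, map_one, mul_one]

/-- The operation is trivial on every affine point, given nilpotent charts of the base. -/
theorem CharAction.trivial (A : CharAction q G)
    (hloc : ∀ s : S, ∃ (R : Type u) (_ : CommRing R) (w : Spec (CommRingCat.of R) ⟶ S) (_ : IsOpenImmersion w)
      (I : Ideal R), s ∈ Set.range w.base ∧ IsNilpotent I ∧
        ∀ (C : Type u) [CommRing C] (σ : R →+* C), (∀ r ∈ I, σ r = 0) → ∀ (χ : G →* C)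
          (x : Spec (CommRingCat.of C) ⟶ X), x ≫ q = Spec.map (CommRingCat.ofHom σ) ≫ w → A.op C χ x = x)
    (C : Type u) [CommRing C] (χ : G →* C) (x : Spec (CommRingCat.of C) ⟶ X) : A.op C χ x = x := by
  have hpt : ∀ P : Spec (CommRingCat.of C), ∃ r : C, P ∈ PrimeSpectrum.basicOpen r ∧
      Spec.map (CommRingCat.ofHom (algebraMap C (Localization.Away r))) ≫ A.op C χ x =
        Spec.map (CommRingCat.ofHom (algebraMap C (Localization.Away r))) ≫ x := by
    intro P
    obtain ⟨R, _, w, _, I, ⟨s', hs'⟩, hI, h0⟩ := hloc (q.base (x.base P))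
    have hmem : x.base P ∈ q ⁻¹ᵁ w.opensRange := ⟨s', hs'⟩
    obtain ⟨V, hV, hPV, hVW⟩ := exists_isAffineOpen_mem_and_subset hmem
    obtain ⟨r, hPr, hrV⟩ : ∃ r : C, P ∈ PrimeSpectrum.basicOpen r ∧
        (PrimeSpectrum.basicOpen r : Set (PrimeSpectrum C)) ⊆ x.base ⁻¹' (V : Set X) := by
      obtain ⟨_, ⟨r, rfl⟩, h1, h2⟩ := PrimeSpectrum.isTopologicalBasis_basic_opens.exists_subset_of_mem_open
        (show P ∈ x.base ⁻¹' (V : Set X) from hPV) (V.isOpen.preimage x.base.hom.continuous)
      exact ⟨r, h1, h2⟩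
    refine ⟨r, hPr, ?_⟩
    set ι := hV.fromSpec
    have hr2 : Set.range (Spec.map (CommRingCat.ofHom (algebraMap C (Localization.Away r))) ≫ x).base ⊆
        Set.range ι.base := by
      rintro _ ⟨Q, rfl⟩
      rw [show Set.range ι.base = (V : Set X) from hV.range_fromSpec]
      refine hrV ?_
      have : (Spec.map (CommRingCat.ofHom (algebraMap C (Localization.Away r)))).base Q ∈
          Set.range (PrimeSpectrum.comap (algebraMap C (Localization.Away r))) := ⟨Q, rfl⟩
      rw [PrimeSpectrum.localization_away_comap_range (Localization.Away r) r] at this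
      exact this
    set g := IsOpenImmersion.lift ι (Spec.map (CommRingCat.ofHom (algebraMap C (Localization.Away r))) ≫ x) hr2
    have hg : Spec.map (CommRingCat.ofHom (Spec.preimage g).hom) ≫ ι =
        Spec.map (CommRingCat.ofHom (algebraMap C (Localization.Away r))) ≫ x := by
      rw [CommRingCat.ofHom_hom, Spec.map_preimage, IsOpenImmersion.lift_fac]
    have hwr : Set.range (ι ≫ q).base ⊆ Set.range w.base := by
      rintro _ ⟨z, rfl⟩
      have h1 : ι.base z ∈ (V : Set X) := by
        rw [← show Set.range ι.base = (V : Set X) from hV.range_fromSpec]; exact ⟨z, rfl⟩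
      exact hVW h1
    set ρ := Spec.preimage (IsOpenImmersion.lift w (ι ≫ q) hwr)
    letI : Algebra R Γ(X, V) := ρ.hom.toAlgebra
    have hι : ι ≫ q = Spec.map (CommRingCat.ofHom (algebraMap R Γ(X, V))) ≫ w := by
      change ι ≫ q = Spec.map (CommRingCat.ofHom ρ.hom) ≫ w
      rw [CommRingCat.ofHom_hom, Spec.map_preimage, IsOpenImmersion.lift_fac]
    have h3 := A.trivial_on_chart w ι hι I hI h0
      ((algebraMap C (Localization.Away r) : C →* Localization.Away r).comp χ) (Spec.preimage g).hom
    rw [hg, A.op_nat] at h3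
    exact h3
  choose r hr1 hr2 using hpt
  have hspan : Ideal.span (Set.range r) = ⊤ := by
    rw [← PrimeSpectrum.iSup_basicOpen_eq_top_iff]
    exact eq_top_iff.mpr fun P _ => TopologicalSpace.Opens.mem_iSup.mpr ⟨P, hr1 P⟩
  let cover := (Scheme.affineOpenCoverOfSpanRangeEqTop (R := CommRingCat.of C) (ι := Spec (CommRingCat.of C)) r hspan).openCover
  refine Scheme.Cover.hom_ext cover _ _ fun P => ?_
  exact hr2 P

end GrothLib.DiagGrp
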