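import Groth.Agent.Lib.DiagGrp.Points
import Groth.Agent.Lib.DiagGrp.Trivial
import Groth.Agent.Lib.DiagGrp.Factor
import Groth.Prelude.Def_TwC
import Mathlib.AlgebraicGeometry.Morphisms.Flat
import Mathlib.AlgebraicGeometry.Morphisms.UnderlyingMap

/-!
An action of a group of multiplicative type which is trivial modulo a nilpotent ideal is trivial.
-/

universe u

open CategoryTheory MonoidalCategory CartesianMonoidalCategory MonObj GrpObj AlgebraicGeometry
open CategoryTheory.Limits

namespace GrothLib.DiagGrp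

variable {S : Scheme.{u}} {G X : Over S} [GrpObj G]

theorem act_one (a : AlgGrp.Action G X) {T : Over S} (x : T ⟶ X) : lift (1 : T ⟶ G) x ≫ a.act = x := by
  have h1 : lift (1 : T ⟶ G) x = lift (toUnit T) x ≫ (η[G] ▷ X) := by
    apply CartesianMonoidalCategory.hom_ext <;> simp [Hom.one_def]
  rw [h1, Category.assoc, a.one_act]
  simp

theorem act_mul (a : AlgGrp.Action G X) {T : Over S} (g h : T ⟶ G) (x : T ⟶ X) :
    lift (g * h) x ≫ a.act = lift g (lift h x ≫ a.act) ≫ a.act := by
  have h1 : lift (g * h) x = lift (lift g h) x ≫ (μ[G] ▷ X) := by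
    apply CartesianMonoidalCategory.hom_ext <;> simp [Hom.mul_def]
  rw [h1, Category.assoc, a.mul_act, ← Category.assoc, ← Category.assoc]
  congr 1
  apply CartesianMonoidalCategory.hom_ext <;> simp

section Chart

variable {W : Scheme.{u}} (f : W ⟶ S) {M : Type} [AddCommGroup M]
  (e : Grp.mk (Red.bc f G) ≅ Grp.mk (Red.DS W M))

/-- The `G`-point of a character over a chart. -/
noncomputable def ptG {C : Type u} [CommRing C] (p : Spec (CommRingCat.of C) ⟶ W) (χ : Multiplicative M →* C) :
    (Over.map f).obj (Over.mk p) ⟶ G :=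
  (bcPointMulEquiv f G (Over.mk p)).symm (dsPoint M p χ ≫ e.inv.hom.hom)

theorem ptG_one {C : Type u} [CommRing C] (p : Spec (CommRingCat.of C) ⟶ W) :
    ptG f e p (1 : Multiplicative M →* C) = 1 := by
  rw [ptG, map_one, MonObj.one_comp, map_one]

theorem ptG_mul {C : Type u} [CommRing C] (p : Spec (CommRingCat.of C) ⟶ W) (χ χ' : Multiplicative M →* C) :
    ptG f e p (χ * χ') = ptG f e p χ * ptG f e p χ' := by
  rw [ptG, map_mul, MonObj.mul_comp, map_mul]
  rfl

theorem exists_ptG_eq {C : Type u} [CommRing C] (p : Spec (CommRingCat.of C) ⟶ W)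
    (g : (Over.map f).obj (Over.mk p) ⟶ G) : ∃ χ : Multiplicative M →* C, ptG f e p χ = g := by
  refine ⟨(dsPoint M p).symm (bcPointMulEquiv f G (Over.mk p) g ≫ e.hom.hom.hom), ?_⟩
  rw [ptG, MulEquiv.apply_symm_apply, Category.assoc]
  have h : e.hom.hom.hom ≫ e.inv.hom.hom = 𝟙 _ := congrArg (fun t => t.hom.hom) e.hom_inv_id
  rw [h, Category.comp_id, MulEquiv.symm_apply_apply]

theorem ptG_comp {C C' : Type u} [CommRing C] [CommRing C'] (p : Spec (CommRingCat.of C) ⟶ W)
    (p' : Spec (CommRingCat.of C') ⟶ W) (h : C →+* C') (χ : Multiplicative M →* C)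
    (hp : Spec.map (CommRingCat.ofHom h) ≫ p = p') :
    (Over.map f).map (Over.homMk (Spec.map (CommRingCat.ofHom h)) hp : Over.mk p' ⟶ Over.mk p) ≫ ptG f e p χ =
      ptG f e p' ((h : C →* C').comp χ) := by
  apply (bcPointMulEquiv f G (Over.mk p')).injective
  rw [ptG, ptG, MulEquiv.apply_symm_apply]
  refine (bcPoint_comp f _ _).trans ?_
  rw [show bcPoint f G (Over.mk p) ((bcPointMulEquiv f G (Over.mk p)).symm (dsPoint M p χ ≫ e.inv.hom.hom)) =
    dsPoint M p χ ≫ e.inv.hom.hom from (bcPointMulEquiv f G (Over.mk p)).apply_symm_apply _,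
    ← Category.assoc, dsPoint_comp p p' h χ hp]

/-- The `X`-point of a point of the base change. -/
noncomputable def ptX {T : Scheme.{u}} (p : T ⟶ W) (x : T ⟶ pullback X.hom f) (hp : x ≫ pullback.snd X.hom f = p) :
    (Over.map f).obj (Over.mk p) ⟶ X :=
  Over.homMk (x ≫ pullback.fst X.hom f) (by
    change (x ≫ pullback.fst X.hom f) ≫ X.hom = p ≫ f
    rw [Category.assoc, pullback.condition, ← Category.assoc, hp])

/-- The operation of characters on affine points of the base change. -/
noncomputable def opAux (a : AlgGrp.Action G X) {C : Type u} [CommRing C] (p : Spec (CommRingCat.of C) ⟶ W)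
    (χ : Multiplicative M →* C) (x : Spec (CommRingCat.of C) ⟶ pullback X.hom f)
    (hp : x ≫ pullback.snd X.hom f = p) : Spec (CommRingCat.of C) ⟶ pullback X.hom f :=
  pullback.lift (lift (ptG f e p χ) (ptX f p x hp) ≫ a.act).left p (Over.w (lift (ptG f e p χ) (ptX f p x hp) ≫ a.act))

theorem ptX_opAux (a : AlgGrp.Action G X) {C : Type u} [CommRing C] (p : Spec (CommRingCat.of C) ⟶ W)
    (χ : Multiplicative M →* C) (x : Spec (CommRingCat.of C) ⟶ pullback X.hom f)
    (hp : x ≫ pullback.snd X.hom f = p) (hp' : opAux f e a p χ x hp ≫ pullback.snd X.hom f = p) :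
    ptX f p (opAux f e a p χ x hp) hp' = lift (ptG f e p χ) (ptX f p x hp) ≫ a.act := by
  apply Over.OverMorphism.ext
  exact pullback.lift_fst _ _ _

theorem opAux_congr (a : AlgGrp.Action G X) {C : Type u} [CommRing C] {p p' : Spec (CommRingCat.of C) ⟶ W}
    (h : p = p') (χ : Multiplicative M →* C) (x : Spec (CommRingCat.of C) ⟶ pullback X.hom f)
    (hp : x ≫ pullback.snd X.hom f = p) : opAux f e a p χ x hp = opAux f e a p' χ x (hp.trans h) := by
  subst h; rfl

theorem opAux_congr_right (a : AlgGrp.Action G X) {C : Type u} [CommRing C] (p : Spec (CommRingCat.of C) ⟶ W)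
    (χ : Multiplicative M →* C) {x x' : Spec (CommRingCat.of C) ⟶ pullback X.hom f} (h : x = x')
    (hp : x ≫ pullback.snd X.hom f = p) : opAux f e a p χ x hp = opAux f e a p χ x' (h ▸ hp) := by
  subst h; rfl

/-- The system of operations attached to an action. -/
noncomputable def charAction (a : AlgGrp.Action G X) : CharAction (pullback.snd X.hom f) (Multiplicative M) where
  op C _ χ x := opAux f e a (x ≫ pullback.snd X.hom f) χ x rfl
  op_over C _ χ x := pullback.lift_snd _ _ _
  op_nat C C' _ _ h χ x := by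
    have hp : Spec.map (CommRingCat.ofHom h) ≫ (x ≫ pullback.snd X.hom f) =
        (Spec.map (CommRingCat.ofHom h) ≫ x) ≫ pullback.snd X.hom f := (Category.assoc _ _ _).symm
    apply pullback.hom_ext
    · refine (pullback.lift_fst _ _ _).trans ?_
      refine Eq.trans ?_ (Category.assoc _ _ _).symm
      refine Eq.trans ?_ (congrArg (Spec.map (CommRingCat.ofHom h) ≫ ·) (pullback.lift_fst _ _ _)).symm
      set k : (Over.map f).obj (Over.mk ((Spec.map (CommRingCat.ofHom h) ≫ x) ≫ pullback.snd X.hom f)) ⟶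
          (Over.map f).obj (Over.mk (x ≫ pullback.snd X.hom f)) :=
        (Over.map f).map (Over.homMk (Spec.map (CommRingCat.ofHom h)) hp)
      have hx : ptX f _ (Spec.map (CommRingCat.ofHom h) ≫ x) rfl = k ≫ ptX f _ x rfl := by
        apply Over.OverMorphism.ext
        exact Category.assoc _ _ _
      rw [hx, ← ptG_comp f e _ _ h χ hp]
      exact congrArg (fun t => t.left) ((congrArg (· ≫ a.act) (comp_lift k _ _).symm).trans (Category.assoc k _ _))
    · refine (pullback.lift_snd _ _ _).trans ?_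
      refine Eq.trans ?_ (Category.assoc _ _ _).symm
      exact (Category.assoc _ _ _).trans (congrArg (Spec.map (CommRingCat.ofHom h) ≫ ·) (pullback.lift_snd _ _ _)).symm
  op_one C _ x := by
    apply pullback.hom_ext
    · rw [opAux, pullback.lift_fst, ptG_one, act_one]
      rfl
    · rw [opAux, pullback.lift_snd]
  op_mul C _ χ χ' x := by
    have hp : opAux f e a (x ≫ pullback.snd X.hom f) χ' x rfl ≫ pullback.snd X.hom f = x ≫ pullback.snd X.hom f :=
      pullback.lift_snd _ _ _
    rw [opAux_congr f e a hp χ]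
    apply pullback.hom_ext
    · rw [opAux, pullback.lift_fst, opAux, pullback.lift_fst, ptG_mul, act_mul,
        show ptX f _ (opAux f e a (x ≫ pullback.snd X.hom f) χ' x rfl) (rfl.trans hp) =
          lift (ptG f e _ χ') (ptX f _ x rfl) ≫ a.act from ptX_opAux f e a _ χ' x rfl _]
    · rw [opAux, pullback.lift_snd, opAux, pullback.lift_snd]

end Chart

/-- Trivial action modulo a nilpotent closed subscheme implies trivial action. -/
theorem action_trivial {S₀ : Scheme.{u}} (i₀ : S₀ ⟶ S) [IsClosedImmersion i₀]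
    (hnil : ∀ x : S, ∃ U : S.affineOpens, x ∈ (U : S.Opens) ∧ IsNilpotent (i₀.ker.ideal U))
    (hG : TwC.Locally S TwC.Topology.fpqc (fun S' f => ∃ (M : Type) (_ : AddCommGroup M),
      Nonempty (Grp.mk (Red.bc f G) ≅ Grp.mk (Red.DS S' M))))
    (a : AlgGrp.Action G X)
    (h0 : ∀ (Y : Over S) (_p : Y ⟶ Over.mk i₀) (g : Y ⟶ G) (x : Y ⟶ X), lift g x ≫ a.act = x) :
    ∀ (Y : Over S) (g : Y ⟶ G) (x : Y ⟶ X), lift g x ≫ a.act = x := by
  obtain ⟨S', f, hflat, hsurj, -, hloc⟩ := hG
  intro Y g x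
  haveI := hflat
  haveI := hsurj
  apply Over.OverMorphism.ext
  haveI : Epi (pullback.fst Y.hom f) := Flat.epi_of_flat_of_surjective _
  rw [← cancel_epi (pullback.fst Y.hom f)]
  set Y' := pullback Y.hom f
  choose U hU M instM hMe using hloc
  refine Scheme.hom_ext_of_forall _ _ fun P => ?_
  set s' := (pullback.snd Y.hom f).base P
  obtain ⟨V, hV, hPV, hVU⟩ := exists_isAffineOpen_mem_and_subset
    (show P ∈ (pullback.snd Y.hom f) ⁻¹ᵁ U s' from hU s')
  refine ⟨V, hPV, ?_⟩
  haveI := hV.isoSpec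
  rw [← cancel_epi hV.isoSpec.inv]
  set C := Γ(Y', V)
  set v : Spec (CommRingCat.of C) ⟶ Y' := hV.fromSpec
  have hv : hV.isoSpec.inv ≫ V.ι = v := rfl
  rw [← Category.assoc, ← Category.assoc, ← Category.assoc, ← Category.assoc, hv]
  have hr : Set.range (v ≫ pullback.snd Y.hom f).base ⊆ Set.range (U s').ι.base := by
    rintro _ ⟨z, rfl⟩
    rw [show Set.range (U s').ι.base = (U s' : Set S') from (U s').range_ι]
    have h1 : v.base z ∈ (V : Set Y') := by
      rw [← show Set.range v.base = (V : Set Y') from hV.range_fromSpec]; exact ⟨z, rfl⟩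
    exact hVU h1
  set p : Spec (CommRingCat.of C) ⟶ (U s' : Scheme.{u}) := IsOpenImmersion.lift (U s').ι _ hr
  have hp : p ≫ (U s').ι = v ≫ pullback.snd Y.hom f := IsOpenImmersion.lift_fac _ _ _
  set F := (U s').ι ≫ f
  letI := instM s'
  obtain ⟨e⟩ := hMe s'
  set T := (Over.map F).obj (Over.mk p)
  let j : T ⟶ Y := Over.homMk (v ≫ pullback.fst Y.hom f) (by
    change (v ≫ pullback.fst Y.hom f) ≫ Y.hom = p ≫ F
    rw [Category.assoc, pullback.condition, ← Category.assoc, ← hp, Category.assoc])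
  suffices hs : lift (j ≫ g) (j ≫ x) ≫ a.act = j ≫ x by
    have h1 := congrArg (fun t : T ⟶ X => t.left) hs
    rw [← comp_lift, Category.assoc] at h1
    exact h1
  obtain ⟨χ, hχ⟩ := exists_ptG_eq F e p (j ≫ g)
  set y : Spec (CommRingCat.of C) ⟶ pullback X.hom F := pullback.lift (j ≫ x).left p (Over.w (j ≫ x))
  have hy : y ≫ pullback.snd X.hom F = p := pullback.lift_snd _ _ _
  have hxy : ptX F p y hy = j ≫ x := Over.OverMorphism.ext (pullback.lift_fst _ _ _)
  have htriv := (charAction F e a).trivial (fun w => by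
    obtain ⟨U₀, hwU, hnil'⟩ := hnil (F.base w)
    obtain ⟨W₀, hW₀, hwW, hWU⟩ := exists_isAffineOpen_mem_and_subset (show w ∈ F ⁻¹ᵁ (U₀ : S.Opens) from hwU)
    refine ⟨Γ((U s' : Scheme.{u}), W₀), inferInstance, hW₀.fromSpec, inferInstance,
      (i₀.ker.ideal U₀).map (F.appLE U₀ W₀ hWU).hom, ?_, ?_, ?_⟩
    · rw [hW₀.range_fromSpec]; exact hwW
    · obtain ⟨N, hN⟩ := hnil'
      exact ⟨N, by rw [← Ideal.map_pow, hN]; exact Ideal.map_bot⟩
    · intro C' _ σ hσ χ' x' hx'
      obtain ⟨y₀, hy₀⟩ := exists_factor_closedImmersion i₀ U₀ (σ.comp (F.appLE U₀ W₀ hWU).hom)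
        (fun r hr => hσ _ (Ideal.mem_map_of_mem _ hr))
      have hy₁ : y₀ ≫ i₀ = (x' ≫ pullback.snd X.hom F) ≫ F := by
        rw [hy₀, hx', Category.assoc, ← IsAffineOpen.SpecMap_appLE_fromSpec F U₀.2 hW₀ hWU, ← Category.assoc,
          ← Spec.map_comp]
        rfl
      apply pullback.hom_ext
      · change opAux F e a _ χ' x' rfl ≫ _ = _
        rw [opAux, pullback.lift_fst, h0 _ (Over.homMk y₀ hy₁) _ _]
        rfl
      · exact pullback.lift_snd _ _ _) C χ y
  have h2 : opAux F e a p χ y hy = y := by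
    rw [← opAux_congr F e a hy χ y rfl]
    exact htriv
  have h3 := ptX_opAux F e a p χ y hy (by rw [h2]; exact hy)
  rw [← hχ, ← hxy, ← h3]
  apply Over.OverMorphism.ext
  exact congrArg (· ≫ pullback.fst X.hom F) h2

end GrothLib.DiagGrp
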