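import Groth.Agent.Lib.DiagGrp.FreeGraph

/-!
Descending properties of morphisms from the diagonalisable charts of a group of multiplicative type.
-/

universe u

open CategoryTheory MonoidalCategory CartesianMonoidalCategory MonObj GrpObj AlgebraicGeometry
open CategoryTheory.Limits

namespace GrothLib.DiagGrp

variable {S : Scheme.{u}}

/-- A property descends from the charts of a group of multiplicative type, over an affine open of the base. -/
theorem affineOpen_of_charts (P : MorphismProperty Scheme.{u}) [IsZariskiLocalAtTarget P]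
    [P.DescendsAlong (@Surjective ⊓ @Flat ⊓ @QuasiCompact)]
    {G A B : Over S} [GrpObj G] (Q : ∀ (M : Type), AddCommGroup M → Prop)
    (hG : ∃ (S' : Scheme.{u}) (f : S' ⟶ S), Flat f ∧ Surjective f ∧
      (∀ V : S.Opens, IsAffineOpen V → ∃ W : S'.Opens, IsCompact (W : Set S') ∧ f.base '' (W : Set S') = (V : Set S)) ∧
      ∀ s' : S', ∃ U : S'.Opens, s' ∈ U ∧ ∃ (M : Type) (inst : AddCommGroup M), Q M inst ∧
        Nonempty (Grp.mk (Red.bc (U.ι ≫ f) G) ≅ Grp.mk (Red.DS (U : Scheme.{u}) M)))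
    (u : A ⟶ B)
    (hchart : ∀ {W : Scheme.{u}} [IsAffine W] (f : W ⟶ S) {M : Type} [inst : AddCommGroup M], Q M inst →
      (Grp.mk (Red.bc f G) ≅ Grp.mk (Red.DS W M)) → P ((Over.pullback f).map u).left)
    (V : S.Opens) (hV : IsAffineOpen V) :
    P ((Over.pullback V.ι).map u).left := by
  obtain ⟨S', π, hflat, -, hqc, hloc⟩ := hG
  haveI := hflat
  obtain ⟨W, hWc, hWim⟩ := hqc V hV
  have hr : Set.range (W.ι ≫ π).base ⊆ Set.range V.ι.base := by
    rintro _ ⟨z, rfl⟩
    rw [V.range_ι, ← hWim]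
    exact ⟨W.ι.base z, by rw [← W.range_ι]; exact ⟨z, rfl⟩, rfl⟩
  set q : (W : Scheme.{u}) ⟶ (V : Scheme.{u}) := IsOpenImmersion.lift V.ι (W.ι ≫ π) hr
  have hq : q ≫ V.ι = W.ι ≫ π := IsOpenImmersion.lift_fac _ _ _
  haveI : IsAffine (V : Scheme.{u}) := hV
  haveI : Flat q := by
    have : Flat (q ≫ V.ι) := by rw [hq]; infer_instance
    exact MorphismProperty.of_postcomp @Flat (W' := @IsOpenImmersion) q V.ι inferInstance this
  haveI : CompactSpace (W : Scheme.{u}) := isCompact_iff_compactSpace.mp hWc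
  haveI : QuasiCompact q := (quasiCompact_iff_compactSpace q).mpr inferInstance
  haveI : Surjective q := ⟨fun v => by
    have hv : V.ι.base v ∈ π.base '' (W : Set S') := by
      rw [hWim, ← V.range_ι]; exact ⟨v, rfl⟩
    obtain ⟨w, hw, hwv⟩ := hv
    refine ⟨⟨w, hw⟩, V.ι.injective ?_⟩
    rw [← Scheme.Hom.comp_apply, hq, Scheme.Hom.comp_apply]
    exact hwv⟩
  have key : P ((Over.pullback (q ≫ V.ι)).map u).left := by
    have hpt : ∀ w : (W : Scheme.{u}), ∃ (R : (W : Scheme.{u}).Opens) (M : Type) (_ : AddCommGroup M),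
        w ∈ R ∧ IsAffineOpen R ∧ Q M ‹_› ∧
          Nonempty (Grp.mk (Red.bc (R.ι ≫ q ≫ V.ι) G) ≅ Grp.mk (Red.DS R M)) := by
      intro w
      obtain ⟨U, hwU, M, instM, hQ, ⟨e⟩⟩ := hloc (W.ι.base w)
      obtain ⟨R, hR, hwR, hRU⟩ := exists_isAffineOpen_mem_and_subset (show w ∈ W.ι ⁻¹ᵁ U from hwU)
      refine ⟨R, M, instM, hwR, hR, hQ, ?_⟩
      have hr' : Set.range (R.ι ≫ W.ι).base ⊆ Set.range U.ι.base := by
        rintro _ ⟨z, rfl⟩
        rw [U.range_ι]
        exact hRU (show R.ι.base z ∈ (R : Set (W : Scheme.{u})) by rw [← R.range_ι]; exact ⟨z, rfl⟩)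
      set r := IsOpenImmersion.lift U.ι (R.ι ≫ W.ι) hr'
      have hfac : R.ι ≫ q ≫ V.ι = r ≫ U.ι ≫ π := by
        rw [hq, ← Category.assoc r, IsOpenImmersion.lift_fac, Category.assoc]
      let e1 : Grp.mk (Red.bc r (Red.bc (U.ι ≫ π) G)) ≅ Grp.mk (Red.bc r (Red.DS U M)) :=
        (Over.pullback r).mapGrp.mapIso e
      have hterm : r ≫ Limits.IsTerminal.from specULiftZIsTerminal (U : Scheme.{u}) =
          Limits.IsTerminal.from specULiftZIsTerminal (R : Scheme.{u}) := specULiftZIsTerminal.hom_ext _ _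
      exact ⟨(bcGrpComp G (U.ι ≫ π) r (R.ι ≫ q ≫ V.ι) hfac).trans (e1.trans
        (bcGrpComp (Red.diag (ULift.{u} ℤ) M) (Limits.IsTerminal.from specULiftZIsTerminal (U : Scheme.{u})) r
          (Limits.IsTerminal.from specULiftZIsTerminal (R : Scheme.{u})) hterm.symm).symm)⟩
    choose R M instM hwR hR hQ he using hpt
    let 𝒰 : (W : Scheme.{u}).OpenCover := Scheme.openCoverOfIsOpenCover _ R
      (TopologicalSpace.IsOpenCover.mk (eq_top_iff.mpr fun w _ => TopologicalSpace.Opens.mem_iSup.mpr ⟨w, hwR w⟩))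
    refine of_baseCover P _ _ 𝒰 fun w => ?_
    letI := instM w
    obtain ⟨e⟩ := he w
    haveI : IsAffine (R w : Scheme.{u}) := hR w
    exact hchart ((R w).ι ≫ q ≫ V.ι) (hQ w) e
  exact MorphismProperty.of_isPullback_of_descendsAlong (P := P)
    (Q := @Surjective ⊓ @Flat ⊓ @QuasiCompact) (isPullback_overMap_bcMor _ V.ι q)
    (MorphismProperty.of_isPullback (P := @Surjective ⊓ @Flat ⊓ @QuasiCompact)
      (isPullback_bcMor B V.ι q).flip ⟨⟨inferInstance, inferInstance⟩, inferInstance⟩) key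

/-- A property descends from the charts of a group of multiplicative type. -/
theorem of_charts (P : MorphismProperty Scheme.{u}) [IsZariskiLocalAtTarget P] [P.IsStableUnderBaseChange]
    [P.DescendsAlong (@Surjective ⊓ @Flat ⊓ @QuasiCompact)]
    {G A B : Over S} [GrpObj G] (Q : ∀ (M : Type), AddCommGroup M → Prop)
    (hG : ∃ (S' : Scheme.{u}) (f : S' ⟶ S), Flat f ∧ Surjective f ∧
      (∀ V : S.Opens, IsAffineOpen V → ∃ W : S'.Opens, IsCompact (W : Set S') ∧ f.base '' (W : Set S') = (V : Set S)) ∧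
      ∀ s' : S', ∃ U : S'.Opens, s' ∈ U ∧ ∃ (M : Type) (inst : AddCommGroup M), Q M inst ∧
        Nonempty (Grp.mk (Red.bc (U.ι ≫ f) G) ≅ Grp.mk (Red.DS (U : Scheme.{u}) M)))
    (u : A ⟶ B)
    (hchart : ∀ {W : Scheme.{u}} [IsAffine W] (f : W ⟶ S) {M : Type} [inst : AddCommGroup M], Q M inst →
      (Grp.mk (Red.bc f G) ≅ Grp.mk (Red.DS W M)) → P ((Over.pullback f).map u).left) :
    P u.left := by
  have h := of_baseCover P u (𝟙 S) S.affineCover fun j => by
    rw [Category.comp_id]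
    have h1 := affineOpen_of_charts P Q hG u hchart (S.affineCover.f j).opensRange (isAffineOpen_opensRange _)
    have h2 : ((S.affineCover.f j).isoOpensRange.hom) ≫ (S.affineCover.f j).opensRange.ι = S.affineCover.f j :=
      Scheme.Hom.isoOpensRange_hom_ι _
    rw [← h2]
    exact MorphismProperty.of_isPullback (P := P) (isPullback_overMap_bcMor _ _ _).flip h1
  have : u.left = inv (pullback.fst A.hom (𝟙 S)) ≫ ((Over.pullback (𝟙 S)).map u).left ≫
      pullback.fst B.hom (𝟙 S) := by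
    rw [(isPullback_overMap u (𝟙 S)).w, IsIso.inv_hom_id_assoc]
  rw [this, P.cancel_left_of_respectsIso, P.cancel_right_of_respectsIso]
  exact h

end GrothLib.DiagGrp
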