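import Groth.Agent.Lib.DiagGrp.AffineCoact
import Groth.Agent.Lib.DiagGrp.ActionTrivial
import Mathlib.AlgebraicGeometry.Morphisms.ClosedImmersion

/-!
The graph of a free action of a diagonalisable group on an affine scheme, over one affine chart.
-/

universe u

open CategoryTheory MonoidalCategory CartesianMonoidalCategory MonObj GrpObj AlgebraicGeometry
open CategoryTheory.Limits

namespace GrothLib.DiagGrp

variable {S : Scheme.{u}} {G X : Over S} [GrpObj G]

theorem ptG_injective {W : Scheme.{u}} (f : W ⟶ S) {M : Type} [AddCommGroup M]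
    (e : Grp.mk (Red.bc f G) ≅ Grp.mk (Red.DS W M)) {C : Type u} [CommRing C]
    (p : Spec (CommRingCat.of C) ⟶ W) : Function.Injective (ptG f e p) := by
  intro χ χ' h
  rw [ptG, ptG] at h
  have h1 := (bcPointMulEquiv f G (Over.mk p)).symm.injective h
  have h2 : e.inv.hom.hom ≫ e.hom.hom.hom = 𝟙 _ := congrArg (fun t => t.hom.hom) e.inv_hom_id
  have h3 := congrArg (· ≫ e.hom.hom.hom) h1
  simp only [Category.assoc, h2, Category.comp_id] at h3
  exact (dsPoint M p).injective h3

theorem graph_chart (a : AlgGrp.Action G X) [IsAffineHom X.hom]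
    (hfree : ∀ (Y : Over S) (g : Y ⟶ G) (x : Y ⟶ X), lift g x ≫ a.act = x → g = 1)
    {W : Scheme.{u}} [IsAffine W] (f : W ⟶ S) {M : Type} [AddCommGroup M]
    (e : Grp.mk (Red.bc f G) ≅ Grp.mk (Red.DS W M)) :
    IsClosedImmersion ((Over.pullback f).map (lift a.act (snd G X))).left := by
  set XW := pullback X.hom f
  haveI : IsAffine XW := isAffine_of_isAffineHom (pullback.snd X.hom f)
  set B := Γ(XW, ⊤)
  set jB : Spec (CommRingCat.of B) ⟶ XW := XW.isoSpec.inv
  set A := charAction f e a
  set α := coact A jB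
  have hfree' : ∀ (C : Type u) [CommRing C] (x : B →+* C) (χ : Multiplicative M →* C),
      (∀ b, evalAt x χ (α b) = x b) → χ = 1 := by
    intro C _ x χ hx
    set z := Spec.map (CommRingCat.ofHom x) ≫ jB
    have h1 : A.op C χ z = z := by
      rw [op_eq A jB]
      exact congrArg (fun r : B →+* C => Spec.map (CommRingCat.ofHom r) ≫ jB) (RingHom.ext hx)
    have h2 : opAux f e a (z ≫ pullback.snd X.hom f) χ z rfl = z := h1
    have h3 := ptX_opAux f e a _ χ z rfl (by rw [h2])
    have h4 : ptX f (z ≫ pullback.snd X.hom f) (opAux f e a (z ≫ pullback.snd X.hom f) χ z rfl)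
        (by rw [h2]) = ptX f (z ≫ pullback.snd X.hom f) z rfl :=
      Over.OverMorphism.ext (congrArg (· ≫ pullback.fst X.hom f) h2)
    have h5 := hfree _ _ _ (h3.symm.trans h4)
    exact ptG_injective f e _ (h5.trans (ptG_one f e _).symm)
  -- source and target are affine
  haveI : IsAffine (Red.bc f G).left := by
    haveI : IsAffine (Red.diag (ULift.{u} ℤ) M).left := inferInstanceAs (IsAffine (Spec _))
    haveI : IsAffine (Red.DS W M).left :=
      inferInstanceAs (IsAffine (pullback (Red.diag (ULift.{u} ℤ) M).hom _))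
    exact @IsAffine.of_isIso _ _ ((Over.forget W).mapIso ((Grp.forget (Over W)).mapIso e)).hom inferInstance ‹IsAffine (Red.DS W M).left›
  haveI : IsAffine (pullback (G ⊗ X).hom f) := by
    haveI : IsAffine ((Red.bc f G) ⊗ (Red.bc f X)).left := by
      haveI : IsAffine (Red.bc f X).left := ‹IsAffine XW›
      exact inferInstanceAs (IsAffine (pullback (Red.bc f G).hom (Red.bc f X).hom))
    exact @IsAffine.of_isIso _ _ ((Over.forget W).mapIso (Functor.Monoidal.μIso (Over.pullback f) G X)).inv inferInstance ‹IsAffine (Red.bc f G ⊗ Red.bc f X).left›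
  haveI : IsAffine (pullback (X ⊗ X).hom f) := by
    haveI : IsAffine ((Red.bc f X) ⊗ (Red.bc f X)).left := by
      haveI : IsAffine (Red.bc f X).left := ‹IsAffine XW›
      exact inferInstanceAs (IsAffine (pullback (Red.bc f X).hom (Red.bc f X).hom))
    exact @IsAffine.of_isIso _ _ ((Over.forget W).mapIso (Functor.Monoidal.μIso (Over.pullback f) X X)).inv inferInstance ‹IsAffine (Red.bc f X ⊗ Red.bc f X).left›
  set P := pullback (G ⊗ X).hom f
  set Q := pullback (X ⊗ X).hom f
  set O := Γ(P, ⊤)
  set π : Spec (CommRingCat.of O) ⟶ P := P.isoSpec.inv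
  -- the universal point of the source
  set p : Spec (CommRingCat.of O) ⟶ W := π ≫ pullback.snd (G ⊗ X).hom f
  let t : (Over.map f).obj (Over.mk p) ⟶ G ⊗ X := Over.homMk (π ≫ pullback.fst (G ⊗ X).hom f) (by
    change (π ≫ pullback.fst (G ⊗ X).hom f) ≫ (G ⊗ X).hom = p ≫ f
    rw [Category.assoc, pullback.condition, ← Category.assoc])
  obtain ⟨χ, hχ⟩ := exists_ptG_eq f e p (t ≫ fst G X)
  set y : Spec (CommRingCat.of O) ⟶ XW := pullback.lift (t ≫ snd G X).left p (Over.w (t ≫ snd G X))
  have hy : y ≫ pullback.snd X.hom f = p := pullback.lift_snd _ _ _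
  set xB : B →+* O := (Spec.preimage (y ≫ inv jB)).hom
  have hxB : Spec.map (CommRingCat.ofHom xB) ≫ jB = y := by
    rw [CommRingCat.ofHom_hom, Spec.map_preimage, Category.assoc, IsIso.inv_hom_id, Category.comp_id]
  set D := MonoidAlgebra B (Multiplicative M)
  set c : B →+* D := MonoidAlgebra.singleOneRingHom
  set xD : Spec (CommRingCat.of D) ⟶ XW := Spec.map (CommRingCat.ofHom c) ≫ jB
  set pD : Spec (CommRingCat.of D) ⟶ W := xD ≫ pullback.snd X.hom f
  let tD := lift (ptG f e pD (MonoidAlgebra.of B (Multiplicative M))) (ptX f pD xD rfl)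
  set zD : Spec (CommRingCat.of D) ⟶ P := pullback.lift tD.left pD (Over.w tD)
  set θ : O →+* D := (Spec.preimage (zD ≫ inv π)).hom
  set ψ : D →+* O := evalAt xB χ
  have hψc : ψ.comp c = xB := RingHom.ext fun b => by
    change evalAt xB χ (MonoidAlgebra.single 1 b) = xB b
    rw [evalAt_single, map_one, _root_.mul_one]
  have hp : Spec.map (CommRingCat.ofHom ψ) ≫ pD = p := by
    simp only [pD, xD]
    rw [← Category.assoc, ← Category.assoc, ← Spec.map_comp, ← CommRingCat.ofHom_comp, hψc, hxB, hy]
  set k : (Over.map f).obj (Over.mk p) ⟶ (Over.map f).obj (Over.mk pD) :=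
    (Over.map f).map (Over.homMk (Spec.map (CommRingCat.ofHom ψ)) hp)
  have hk : k ≫ tD = t := by
    apply CartesianMonoidalCategory.hom_ext
    · rw [Category.assoc, lift_fst]
      refine (ptG_comp f e pD p ψ _ hp).trans ?_
      rw [← hχ]
      congr 1
      refine MonoidHom.ext fun m => ?_
      change evalAt xB χ (MonoidAlgebra.single m 1) = χ m
      rw [evalAt_single, map_one, _root_.one_mul]
    · rw [Category.assoc, lift_snd]
      apply Over.OverMorphism.ext
      change Spec.map (CommRingCat.ofHom ψ) ≫ xD ≫ pullback.fst X.hom f = (t ≫ snd G X).left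
      simp only [xD]
      rw [← Category.assoc, ← Category.assoc, ← Spec.map_comp, ← CommRingCat.ofHom_comp, hψc, hxB]
      exact pullback.lift_fst _ _ _
  have hz : Spec.map (CommRingCat.ofHom ψ) ≫ zD = π := by
    apply pullback.hom_ext
    · rw [Category.assoc, pullback.lift_fst]
      exact congrArg (fun s => s.left) hk
    · rw [Category.assoc, pullback.lift_snd, hp]
  have hψθ : ψ.comp θ = RingHom.id O := by
    have h : Spec.map (CommRingCat.ofHom (ψ.comp θ)) = 𝟙 _ := by
      rw [CommRingCat.ofHom_comp, Spec.map_comp, CommRingCat.ofHom_hom, Spec.map_preimage, ← Category.assoc, hz,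
        IsIso.hom_inv_id]
    rw [← Spec.map_id] at h
    exact congrArg CommRingCat.Hom.hom (Spec.map_injective h)
  -- the graph on functions
  set Φ := ((Over.pullback f).map (lift a.act (snd G X))).left with hΦ
  set φ : Γ(Q, ⊤) →+* O := (Spec.preimage (π ≫ Φ ≫ Q.isoSpec.hom)).hom
  have hφ : Spec.map (CommRingCat.ofHom φ) ≫ Q.isoSpec.inv = π ≫ Φ := by
    rw [CommRingCat.ofHom_hom, Spec.map_preimage, Category.assoc, Category.assoc, Iso.hom_inv_id, Category.comp_id]
  have hfst : Φ ≫ pullback.fst (X ⊗ X).hom f = pullback.fst (G ⊗ X).hom f ≫ (lift a.act (snd G X)).left :=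
    pullback.lift_fst _ _ _
  have hsnd : Φ ≫ pullback.snd (X ⊗ X).hom f = pullback.snd (G ⊗ X).hom f := pullback.lift_snd _ _ _
  have key : ∀ (pr : X ⊗ X ⟶ X) (r : B →+* O),
      Spec.map (CommRingCat.ofHom r) ≫ jB =
        pullback.lift (t ≫ lift a.act (snd G X) ≫ pr).left p (Over.w (t ≫ lift a.act (snd G X) ≫ pr)) →
      ∀ b, r b ∈ φ.range := by
    intro pr r hr b
    set ν : Γ(XW, ⊤) →+* Γ(Q, ⊤) := (Spec.preimage (Q.isoSpec.inv ≫
      (pullback.lift (pullback.fst (X ⊗ X).hom f ≫ pr.left) (pullback.snd (X ⊗ X).hom f)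
        (by rw [Category.assoc, Over.w pr, pullback.condition]) : Q ⟶ XW) ≫ inv jB)).hom with hνdef
    have hν : Spec.map (CommRingCat.ofHom ν) ≫ jB = Q.isoSpec.inv ≫
        pullback.lift (pullback.fst (X ⊗ X).hom f ≫ pr.left) (pullback.snd (X ⊗ X).hom f)
          (by rw [Category.assoc, Over.w pr, pullback.condition]) := by
      rw [hνdef, CommRingCat.ofHom_hom, Spec.map_preimage, Category.assoc, Category.assoc, IsIso.inv_hom_id,
        Category.comp_id]
    have he : φ.comp ν = r := by
      apply hom_eq_of_point_eq jB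
      rw [hr, CommRingCat.ofHom_comp, Spec.map_comp, Category.assoc, hν, ← Category.assoc, hφ]
      apply pullback.hom_ext
      · refine Eq.trans ?_ (pullback.lift_fst _ _ _).symm
        rw [Category.assoc, pullback.lift_fst, Category.assoc, ← Category.assoc Φ, hfst]
        rw [Category.assoc, ← Category.assoc π]
        rfl
      · refine Eq.trans ?_ (pullback.lift_snd _ _ _).symm
        rw [Category.assoc, pullback.lift_snd, Category.assoc, hsnd]
    exact ⟨ν b, RingHom.congr_fun he b⟩
  have hsurj : Function.Surjective φ := by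
    intro o
    have hy1 : ∀ b, xB b ∈ φ.range := key (snd X X) xB (by
      rw [hxB]
      refine pullback.hom_ext ?_ ?_
      · refine (pullback.lift_fst _ _ _).trans (Eq.trans ?_ (pullback.lift_fst _ _ _).symm)
        rw [lift_snd]
      · exact (pullback.lift_snd _ _ _).trans (pullback.lift_snd _ _ _).symm)
    have hy2 : ∀ b, (ψ.comp α) b ∈ φ.range := key (fst X X) (ψ.comp α) (by
      rw [show Spec.map (CommRingCat.ofHom (ψ.comp α)) ≫ jB = A.op O χ y by rw [← hxB]; exact (op_eq A jB χ xB).symm]
      change opAux f e a (y ≫ pullback.snd X.hom f) χ y rfl = _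
      rw [← opAux_congr f e a hy.symm χ y hy]
      have hx : ptX f p y hy = t ≫ snd G X := Over.OverMorphism.ext (pullback.lift_fst _ _ _)
      refine pullback.hom_ext ?_ ?_
      · refine Eq.trans ?_ (pullback.lift_fst _ _ _).symm
        rw [opAux, pullback.lift_fst, lift_fst, hx, hχ]
        congr 2
        apply CartesianMonoidalCategory.hom_ext <;> simp
      · exact (pullback.lift_snd _ _ _).trans (pullback.lift_snd _ _ _).symm)
    have hmem := (isGrading_coact A jB).mem_of_free hfree' (φ.range.comap ψ)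
      (fun b => hy2 b) (fun b => by
        change ψ (MonoidAlgebra.single 1 b) ∈ φ.range
        rw [evalAt_single, map_one, _root_.mul_one]
        exact hy1 b) (θ o)
    obtain ⟨q, hq⟩ := hmem
    exact ⟨q, hq.trans (RingHom.congr_fun hψθ o)⟩
  haveI : IsClosedImmersion (Spec.map (CommRingCat.ofHom φ)) :=
    IsClosedImmersion.spec_of_surjective _ hsurj
  have : Φ = P.isoSpec.hom ≫ Spec.map (CommRingCat.ofHom φ) ≫ Q.isoSpec.inv := by
    rw [hφ, ← Category.assoc, Iso.hom_inv_id, Category.id_comp]
  rw [this]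
  infer_instance

end GrothLib.DiagGrp
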