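import Groth.Agent.Lib.DiagGrp.ChartCover
import Groth.Agent.Lib.DiagGrp.Charts
import Groth.Agent.Lib.DiagGrp.ActionTrivial
import Groth.Agent.Lib.DiagGrp.FreeChart
import Groth.Agent.Lib.FpqcDesc.ClosedImmersion
import Mathlib.AlgebraicGeometry.Morphisms.LocalFlatDescent
import Mathlib.RingTheory.FinitePresentation

/-!
Base change and first properties of groups having diagonalisable charts.
-/

universe u

open CategoryTheory MonoidalCategory CartesianMonoidalCategory MonObj GrpObj AlgebraicGeometry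
open CategoryTheory.Limits

namespace GrothLib.DiagGrp

variable {S : Scheme.{u}}

theorem locallyOfFinitePresentation_diag (M : Type) [AddCommGroup M] (hM : AddGroup.FG M) :
    LocallyOfFinitePresentation (Red.diag (ULift.{u} ℤ) M).hom := by
  have : AddMonoid.FG M := AddGroup.fg_iff_addMonoid_fg.mp hM
  have : Monoid.FG (Multiplicative M) := AddMonoid.fg_iff_mul_fg.mp this
  have : IsNoetherianRing (ULift.{u} ℤ) :=
    isNoetherianRing_of_ringEquiv ℤ (ULift.ringEquiv (R := ℤ)).symm
  change LocallyOfFinitePresentation (Spec.map (CommRingCat.ofHom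
    (algebraMap (ULift.{u} ℤ) (MonoidAlgebra (ULift.{u} ℤ) (Multiplicative M)))))
  rw [HasRingHomProperty.Spec_iff (P := @LocallyOfFinitePresentation), CommRingCat.hom_ofHom,
    RingHom.finitePresentation_algebraMap]
  exact Algebra.FinitePresentation.of_finiteType.mp inferInstance

theorem lfp_of_isMultTypeFT {H : Over S} [GrpObj H] (hH : SGA3x.IsMultTypeFT H) :
    LocallyOfFinitePresentation H.hom := by
  obtain ⟨S', f, h1, h2, h3, h4⟩ := hH
  have h : LocallyOfFinitePresentation (toUnit H).left :=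
    of_charts @LocallyOfFinitePresentation (G := H) (fun M inst => @AddGroup.FG M (inst.toAddGroup))
      ⟨S', f, h1, h2, h3, h4⟩ (toUnit H) fun {W} _ g {M} inst hM e => by
        have := locallyOfFinitePresentation_diag.{u} M hM
        have : LocallyOfFinitePresentation (Red.DS W M).hom :=
          inferInstanceAs (LocallyOfFinitePresentation (pullback.snd (Red.diag (ULift.{u} ℤ) M).hom _))
        have : LocallyOfFinitePresentation (Red.bc g H).hom := by
          let i : Red.bc g H ≅ Red.DS W M := (Grp.forget (Over W)).mapIso e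
          have : IsIso i.hom.left := inferInstanceAs (IsIso ((Over.forget W).mapIso i).hom)
          rw [← Over.w i.hom]
          exact (MorphismProperty.cancel_left_of_respectsIso @LocallyOfFinitePresentation _ _).mpr ‹_›
        have : IsIso (pullback.snd (𝟙_ (Over S)).hom g) := inferInstanceAs (IsIso (pullback.snd (𝟙 S) g))
        rw [← MorphismProperty.cancel_right_of_respectsIso @LocallyOfFinitePresentation _ (pullback.snd (𝟙_ (Over S)).hom g)]
        have h5 : ((Over.pullback g).map (toUnit H)).left ≫ pullback.snd (𝟙_ (Over S)).hom g = (Red.bc g H).hom :=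
          pullback.lift_snd _ _ _
        rw [h5]
        infer_instance
  have e : (toUnit H).left ≫ (𝟙_ (Over S)).hom = H.hom := Over.w (toUnit H)
  rw [← e]
  exact (MorphismProperty.cancel_right_of_respectsIso @LocallyOfFinitePresentation _ (𝟙 S)).mpr h

theorem isClosedImmersion_one_of_charts {Q : ∀ (M : Type), AddCommGroup M → Prop} {H : Over S} [GrpObj H]
    (hH : HasChartsFpqc Q H) : IsClosedImmersion η[H].left := by
  refine of_charts @IsClosedImmersion (G := H) Q hH η[H] fun {W} _ g {M} inst _ e => ?_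
  have : IsSeparated (Red.DS W M).hom := by
    have : IsSeparated (Red.diag (ULift.{u} ℤ) M).hom :=
      inferInstanceAs (IsSeparated (Spec.map _))
    exact inferInstanceAs (IsSeparated (pullback.snd (Red.diag (ULift.{u} ℤ) M).hom _))
  have : IsSeparated (Red.bc g H).hom := by
    let i : Red.bc g H ≅ Red.DS W M := (Grp.forget (Over W)).mapIso e
    have : IsIso i.hom.left := inferInstanceAs (IsIso ((Over.forget W).mapIso i).hom)
    rw [← Over.w i.hom]
    infer_instance
  have h5 : ((Over.pullback g).map η[H]).left ≫ (Red.bc g H).hom = pullback.snd (𝟙_ (Over S)).hom g :=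
    pullback.lift_snd _ _ _
  have : IsClosedImmersion (((Over.pullback g).map η[H]).left ≫ (Red.bc g H).hom) := by
    rw [h5]
    have : IsIso (pullback.snd (𝟙_ (Over S)).hom g) := inferInstanceAs (IsIso (pullback.snd (𝟙 S) g))
    infer_instance
  exact IsClosedImmersion.of_comp _ (Red.bc g H).hom

theorem mul_comm_of_charts {Q : ∀ (M : Type), AddCommGroup M → Prop} {H : Over S} [GrpObj H]
    (hH : HasChartsFpqc Q H) (Y : Over S) (a b : Y ⟶ H) : a * b = b * a := by
  obtain ⟨S', π, hflat, hsurj, -, hloc⟩ := hH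
  have := hflat
  have := hsurj
  apply Over.OverMorphism.ext
  have : Epi (pullback.fst Y.hom π) := Flat.epi_of_flat_of_surjective _
  rw [← cancel_epi (pullback.fst Y.hom π)]
  refine Scheme.hom_ext_of_forall _ _ fun P => ?_
  obtain ⟨U, hU, hch⟩ := hloc ((pullback.snd Y.hom π).base P)
  obtain ⟨V, hV, hPV, hVU⟩ := exists_isAffineOpen_mem_and_subset (show P ∈ (pullback.snd Y.hom π) ⁻¹ᵁ U from hU)
  refine ⟨V, hPV, ?_⟩
  obtain ⟨M, inst, -, ⟨e⟩⟩ := hch
  letI := inst
  have hr : Set.range (hV.fromSpec ≫ pullback.snd Y.hom π).base ⊆ Set.range U.ι.base := by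
    rintro _ ⟨z, rfl⟩
    rw [U.range_ι]
    exact hVU (show hV.fromSpec.base z ∈ (V : Set _) by rw [← hV.range_fromSpec]; exact ⟨z, rfl⟩)
  set p := IsOpenImmersion.lift U.ι _ hr
  let j : (Over.map (U.ι ≫ π)).obj (Over.mk p) ⟶ Y := Over.homMk (hV.fromSpec ≫ pullback.fst Y.hom π) (by
    change (hV.fromSpec ≫ pullback.fst Y.hom π) ≫ Y.hom = p ≫ U.ι ≫ π
    rw [Category.assoc, pullback.condition, ← Category.assoc p, IsOpenImmersion.lift_fac, Category.assoc])
  obtain ⟨χ, hχ⟩ := exists_ptG_eq (U.ι ≫ π) e p (j ≫ a)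
  obtain ⟨χ', hχ'⟩ := exists_ptG_eq (U.ι ≫ π) e p (j ≫ b)
  have h : j ≫ (a * b) = j ≫ (b * a) := by
    rw [MonObj.comp_mul, MonObj.comp_mul, ← hχ, ← hχ', ← ptG_mul, ← ptG_mul, _root_.mul_comm]
  have h2 : hV.isoSpec.hom ≫ (hV.fromSpec ≫ pullback.fst Y.hom π) ≫ (a * b).left =
      hV.isoSpec.hom ≫ (hV.fromSpec ≫ pullback.fst Y.hom π) ≫ (b * a).left :=
    congrArg (fun t => hV.isoSpec.hom ≫ t.left) h
  rw [← IsAffineOpen.isoSpec_hom_fromSpec hV]
  exact (Category.assoc _ _ _).trans (((congrArg (hV.isoSpec.hom ≫ ·) (Category.assoc _ _ _)).symm.trans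
    (h2.trans (congrArg (hV.isoSpec.hom ≫ ·) (Category.assoc _ _ _)))).trans (Category.assoc _ _ _).symm)

theorem HasChart.baseChange {Q : ∀ (M : Type), AddCommGroup M → Prop} {G : Over S} [GrpObj G] {S₁ W : Scheme.{u}}
    {g : S₁ ⟶ S} {f : W ⟶ S₁} (h : HasChart Q G (f ≫ g)) : HasChart Q (Red.bc g G) f := by
  obtain ⟨M, inst, hM, ⟨e⟩⟩ := h
  exact ⟨M, inst, hM, ⟨(bcGrpComp G g f (f ≫ g) rfl).symm.trans e⟩⟩

theorem HasChartsFpqc.baseChange {Q : ∀ (M : Type), AddCommGroup M → Prop} {G : Over S} [GrpObj G]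
    (hG : HasChartsFpqc Q G) {S₁ : Scheme.{u}} (g : S₁ ⟶ S) : HasChartsFpqc Q (Red.bc g G) := by
  obtain ⟨S', π, hflat, hsurj, hqc, hloc⟩ := hG
  have := hflat
  have := hsurj
  refine ⟨pullback g π, pullback.fst g π, inferInstance, inferInstance, fun V hV => ?_, fun z => ?_⟩
  · have hsmall : ∀ x : V, ∃ (A : S₁.Opens) (T : (pullback g π).Opens), (x : S₁) ∈ A ∧ A ≤ V ∧
        IsCompact (T : Set ↥(pullback g π)) ∧ (pullback.fst g π).base '' (T : Set ↥(pullback g π)) = A := by
      intro x
      obtain ⟨U, hU, hxU, -⟩ :=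
        exists_isAffineOpen_mem_and_subset (TopologicalSpace.Opens.mem_top (g.base (x : S₁)))
      obtain ⟨A, hA, hxA, hAV⟩ := exists_isAffineOpen_mem_and_subset (show (x : S₁) ∈ V ⊓ g ⁻¹ᵁ U from ⟨x.2, hxU⟩)
      obtain ⟨W, hWc, hWim⟩ := hqc U hU
      refine ⟨A, pullback.fst g π ⁻¹ᵁ A ⊓ pullback.snd g π ⁻¹ᵁ W, hxA, fun y hy => (hAV hy).1, ?_, ?_⟩
      · have hr1 : Set.range (A.ι ≫ g).base ⊆ Set.range U.ι.base := by
          rintro _ ⟨y, rfl⟩
          rw [U.range_ι]
          exact (hAV y.2).2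
        have hr2 : Set.range (W.ι ≫ π).base ⊆ Set.range U.ι.base := by
          rintro _ ⟨y, rfl⟩
          rw [U.range_ι, ← hWim]
          exact ⟨_, y.2, rfl⟩
        set a := IsOpenImmersion.lift U.ι (A.ι ≫ g) hr1
        set b := IsOpenImmersion.lift U.ι (W.ι ≫ π) hr2
        have : IsAffine (U : Scheme.{u}) := hU
        have : IsAffine (A : Scheme.{u}) := hA
        have : CompactSpace (W : Scheme.{u}) := isCompact_iff_compactSpace.mp hWc
        have : QuasiCompact b := (quasiCompact_iff_compactSpace b).mpr inferInstance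
        have : CompactSpace ↥(pullback a b) := (quasiCompact_iff_compactSpace (pullback.fst a b)).mp inferInstance
        have hm := Scheme.Pullback.range_map a b g π A.ι W.ι U.ι
          (IsOpenImmersion.lift_fac _ _ _) (IsOpenImmersion.lift_fac _ _ _)
        rw [A.range_ι, W.range_ι] at hm
        have h9 : IsCompact (Set.range (pullback.map a b g π A.ι W.ι U.ι (IsOpenImmersion.lift_fac _ _ _)
            (IsOpenImmersion.lift_fac _ _ _)).base) := isCompact_range (Scheme.Hom.continuous _)
        rw [hm] at h9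
        exact h9
      · refine Set.Subset.antisymm (by rintro _ ⟨y, hy, rfl⟩; exact hy.1) fun y hy => ?_
        have h1 : g.base y ∈ π.base '' (W : Set S') := by rw [hWim]; exact (hAV hy).2
        obtain ⟨w, hw, hwy⟩ := h1
        obtain ⟨z, hz1, hz2⟩ := Scheme.Pullback.exists_preimage_pullback (f := g) (g := π) y w hwy.symm
        refine ⟨z, ⟨?_, ?_⟩, hz1⟩
        · change (pullback.fst g π).base z ∈ (A : Set S₁)
          rw [hz1]; exact hy
        · change (pullback.snd g π).base z ∈ (W : Set S')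
          rw [hz2]; exact hw
    choose A T hxA hAV hTc hTA using hsmall
    obtain ⟨t, ht⟩ := hV.isCompact.elim_finite_subcover (fun x : V => (A x : Set S₁)) (fun x => (A x).2)
      (fun y hy => Set.mem_iUnion.mpr ⟨⟨y, hy⟩, hxA ⟨y, hy⟩⟩)
    refine ⟨⨆ x ∈ t, T x, ?_, ?_⟩
    · simp only [TopologicalSpace.Opens.coe_iSup]
      exact t.finite_toSet.isCompact_biUnion fun x _ => hTc x
    · simp only [TopologicalSpace.Opens.coe_iSup, Set.image_iUnion, hTA]
      exact Set.Subset.antisymm (Set.iUnion₂_subset fun x _ => hAV x) ht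
  · obtain ⟨U, hU, hch⟩ := hloc ((pullback.snd g π).base z)
    refine ⟨pullback.snd g π ⁻¹ᵁ U, hU, ?_⟩
    refine HasChart.baseChange (g := g) ?_
    refine hch.precomp (pullback.snd g π ∣_ U) _ ?_
    rw [Category.assoc, pullback.condition, morphismRestrict_ι_assoc]

end GrothLib.DiagGrp
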