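import Mathlib.RingTheory.Flat.FaithfullyFlat.Algebra
import Mathlib.RingTheory.RingHom.FaithfullyFlat
import Mathlib.Algebra.MonoidAlgebra.Basic
import Mathlib.GroupTheory.Coset.Basic

/-!
A monoid algebra of a commutative group is faithfully flat over that of a subgroup.
-/

universe u

namespace GrothLib.DiagGrp

variable (R : Type u) [CommRing R] {G H : Type} [CommGroup G] [CommGroup H]

theorem faithfullyFlat_mapDomain (ρ : H →* G) (hρ : Function.Injective ρ) :
    (MonoidAlgebra.mapDomainAlgHom R R ρ).toRingHom.FaithfullyFlat := by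
  classical
  set f := MonoidAlgebra.mapDomainAlgHom R R ρ
  set A := MonoidAlgebra R H
  set B := MonoidAlgebra R G
  letI : Algebra A B := f.toRingHom.toAlgebra
  have : IsScalarTower R A B := IsScalarTower.of_algebraMap_eq fun r => (f.commutes r).symm
  set Q := G ⧸ ρ.range
  let e : Q × H → G := fun p => Quotient.out p.1 * ρ p.2
  have hmk : ∀ p : Q × H, ((e p : G) : Q) = p.1 := fun p => by
    change ((Quotient.out p.1 * ρ p.2 : G) : Q) = p.1
    rw [QuotientGroup.mk_mul_of_mem _ (MonoidHom.mem_range.mpr ⟨p.2, rfl⟩), QuotientGroup.out_eq']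
  have he : Function.Bijective e := by
    refine ⟨fun p p' h => ?_, fun g => ?_⟩
    · have h1 : p.1 = p'.1 := by rw [← hmk p, ← hmk p', h]
      have h2 : e p = Quotient.out p'.1 * ρ p.2 := by rw [← h1]
      exact Prod.ext h1 (hρ (mul_left_cancel (h2.symm.trans h)))
    · obtain ⟨n, hn⟩ : (Quotient.out (g : Q))⁻¹ * g ∈ ρ.range :=
        QuotientGroup.eq.mp (QuotientGroup.out_eq' (g : Q))
      exact ⟨((g : Q), n), by
        change Quotient.out (g : Q) * ρ n = g
        rw [hn, mul_inv_cancel_left]⟩
  let L : (Q →₀ A) →ₗ[A] B := Finsupp.linearCombination A (fun q => MonoidAlgebra.single (Quotient.out q) 1)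
  let E : (Q × H →₀ R) ≃ₗ[R] (Q →₀ A) :=
    (Finsupp.finsuppProdLEquiv R).trans (Finsupp.mapRange.linearEquiv (MonoidAlgebra.coeffLinearEquiv R).symm)
  let F : (Q × H →₀ R) ≃ₗ[R] B :=
    (Finsupp.domLCongr (Equiv.ofBijective e he)).trans (MonoidAlgebra.coeffLinearEquiv R).symm
  have hLE : (L.restrictScalars R).comp E.toLinearMap = F.toLinearMap := by
    refine Finsupp.lhom_ext fun p r => ?_
    have hE : E (Finsupp.single p r) = Finsupp.single p.1 (MonoidAlgebra.single p.2 r : A) := by
      simp [E, Finsupp.finsuppProdLEquiv, Finsupp.curry_single, Finsupp.mapRange_single]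
      rfl
    change L (E (Finsupp.single p r)) = F (Finsupp.single p r)
    rw [hE]
    simp only [L, Finsupp.linearCombination_single]
    change f (MonoidAlgebra.single p.2 r) * MonoidAlgebra.single (Quotient.out p.1) 1 = _
    rw [show f (MonoidAlgebra.single p.2 r) = MonoidAlgebra.single (ρ p.2) r from by simp [f],
      MonoidAlgebra.single_mul_single, mul_one]
    simp [F, e, mul_comm]
    rfl
  have hL : Function.Bijective L := by
    have h2 : ∀ x, L x = F (E.symm x) := fun x => by
      have h3 := LinearMap.congr_fun hLE (E.symm x)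
      simpa using h3
    have h4 : (L : (Q →₀ A) → B) = F ∘ E.symm := funext h2
    rw [h4]
    exact F.bijective.comp E.symm.bijective
  have : Nonempty Q := ⟨((1 : G) : Q)⟩
  exact Module.FaithfullyFlat.of_linearEquiv A (Q →₀ A) (LinearEquiv.ofBijective L hL).symm

end GrothLib.DiagGrp
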