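import Groth.Agent.Lib.DiagGrp.CharLocus
import Groth.Agent.Lib.DiagGrp.MapDomainFF
import Groth.Agent.Lib.AlgSp.FppfDescent
import Mathlib.AlgebraicGeometry.Morphisms.ClosedImmersion
import Mathlib.AlgebraicGeometry.Morphisms.FlatDescent

/-!
Monomorphisms, isomorphisms and faithfully flat morphisms of diagonalisable groups in terms of characters.
-/

universe u

open CategoryTheory MonoidalCategory CartesianMonoidalCategory MonObj GrpObj AlgebraicGeometry
open CategoryTheory.Limits MorphismProperty

namespace GrothLib.DiagGrp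

variable {M N : Type} [AddCommGroup M] [AddCommGroup N]

theorem char_of_mono {L : Type u} [Field L] (φ : N →+ M)
    (h : Mono (Red.DSmap (Spec (CommRingCat.of L)) φ).left) : Function.Surjective φ := by
  have : Mono (Red.DSmap (Spec (CommRingCat.of L)) φ) :=
    (CategoryTheory.Over.forget _).mono_of_mono_map (show Mono ((CategoryTheory.Over.forget _).map _) from h)
  set C := MonoidAlgebra L (Multiplicative (M ⧸ φ.range))
  set p := Spec.map (CommRingCat.ofHom (algebraMap L C))
  set χ : Multiplicative M →* C :=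
    (MonoidAlgebra.of L _).comp (AddMonoidHom.toMultiplicative (QuotientAddGroup.mk' φ.range))
  have h1 : dsPoint M p χ ≫ Red.DSmap _ φ = dsPoint M p 1 ≫ Red.DSmap _ φ := by
    rw [dsPoint_DSmap, dsPoint_DSmap]
    congr 1
    refine MonoidHom.ext fun n => ?_
    change MonoidAlgebra.of L (Multiplicative (M ⧸ φ.range))
      (Multiplicative.ofAdd ((φ (Multiplicative.toAdd n) : M) : M ⧸ φ.range)) = 1
    rw [(QuotientAddGroup.eq_zero_iff _).mpr (AddMonoidHom.mem_range.mpr ⟨_, rfl⟩), ofAdd_zero, map_one]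
  have h2 := (dsPoint M p).injective ((cancel_mono _).mp h1)
  intro m
  have h3 : MonoidAlgebra.of L (Multiplicative (M ⧸ φ.range)) (Multiplicative.ofAdd (m : M ⧸ φ.range)) =
      MonoidAlgebra.of L _ 1 := (DFunLike.congr_fun h2 (Multiplicative.ofAdd m)).trans (map_one _).symm
  have h4 := MonoidAlgebra.of_injective h3
  rw [← ofAdd_zero] at h4
  exact AddMonoidHom.mem_range.mp ((QuotientAddGroup.eq_zero_iff _).mp (Multiplicative.ofAdd.injective h4))

theorem char_of_flat_surjective {L : Type u} [Field L] (φ : N →+ M)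
    (h : Flat (Red.DSmap (Spec (CommRingCat.of L)) φ).left ∧ Surjective (Red.DSmap (Spec (CommRingCat.of L)) φ).left) :
    Function.Injective φ := by
  obtain ⟨_, _⟩ := h
  have : Epi (Red.DSmap (Spec (CommRingCat.of L)) φ).left := Flat.epi_of_flat_of_surjective _
  have : Epi (Red.DSmap (Spec (CommRingCat.of L)) φ) :=
    (CategoryTheory.Over.forget _).epi_of_epi_map (show Epi ((CategoryTheory.Over.forget _).map _) from ‹Epi (Red.DSmap _ φ).left›)
  rw [injective_iff_map_eq_zero]
  intro n hn
  have h1 : Red.DSmap (Spec (CommRingCat.of L)) φ ≫ Red.DSmap _ (zmultiplesHom N n) =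
      Red.DSmap (Spec (CommRingCat.of L)) φ ≫ Red.DSmap _ (0 : ℤ →+ N) := ds_hom_ext fun C _ p χ => by
    rw [← Category.assoc, ← Category.assoc, dsPoint_DSmap, dsPoint_DSmap, dsPoint_DSmap]
    congr 1
    refine MonoidHom.ext fun k => ?_
    change χ (Multiplicative.ofAdd (φ (Multiplicative.toAdd k • n))) = χ (Multiplicative.ofAdd (φ 0))
    congr 2
    rw [map_zsmul, hn, zsmul_zero, map_zero]
  have h2 := (cancel_epi _).mp h1
  set C := MonoidAlgebra L (Multiplicative N)
  have h3 := congrArg (dsPoint N (Spec.map (CommRingCat.ofHom (algebraMap L C))) (MonoidAlgebra.of L _) ≫ ·) h2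
  simp only [dsPoint_DSmap] at h3
  have h4 : MonoidAlgebra.of L (Multiplicative N) (Multiplicative.ofAdd ((1 : ℤ) • n)) =
      MonoidAlgebra.of L (Multiplicative N) (Multiplicative.ofAdd 0) :=
    DFunLike.congr_fun ((dsPoint ℤ _).injective h3) (Multiplicative.ofAdd (1 : ℤ))
  have h5 := Multiplicative.ofAdd.injective (MonoidAlgebra.of_injective h4)
  rwa [one_zsmul] at h5

theorem mapDomain_bijective (φ : N →+ M) (hφ : Function.Bijective φ) :
    Function.Bijective (MonoidAlgebra.mapDomainAlgHom (ULift.{u} ℤ) (ULift.{u} ℤ) (AddMonoidHom.toMultiplicative φ)) := by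
  let e : Multiplicative N ≃* Multiplicative M := AddEquiv.toMultiplicative (AddEquiv.ofBijective φ hφ)
  exact (MonoidAlgebra.domCongr (ULift.{u} ℤ) (ULift.{u} ℤ) e).bijective

theorem diagMap_isIso (φ : N →+ M) (hφ : Function.Bijective φ) :
    IsIso (Red.diagMap (ULift.{u} ℤ) φ).left := by
  have : IsIso (CommRingCat.ofHom
      (MonoidAlgebra.mapDomainAlgHom (ULift.{u} ℤ) (ULift.{u} ℤ) (AddMonoidHom.toMultiplicative φ)).toRingHom) :=
    (ConcreteCategory.isIso_iff_bijective _).mpr (mapDomain_bijective φ hφ)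
  exact inferInstanceAs (IsIso (Spec.map _))

theorem diagMap_mono (φ : N →+ M) (hφ : Function.Surjective φ) : Mono (Red.diagMap (ULift.{u} ℤ) φ).left := by
  have : IsClosedImmersion (Red.diagMap (ULift.{u} ℤ) φ).left := by
    change IsClosedImmersion (Spec.map (CommRingCat.ofHom
      (MonoidAlgebra.mapDomainAlgHom (ULift.{u} ℤ) (ULift.{u} ℤ) (AddMonoidHom.toMultiplicative φ)).toRingHom))
    refine IsClosedImmersion.spec_of_surjective _ fun x => ?_
    induction x using MonoidAlgebra.induction_linear with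
    | zero => exact ⟨0, map_zero _⟩
    | add a b ha hb =>
      obtain ⟨a', ha'⟩ := ha
      obtain ⟨b', hb'⟩ := hb
      exact ⟨a' + b', by rw [map_add, ha', hb']⟩
    | single m r =>
      obtain ⟨n, hn⟩ := hφ (Multiplicative.toAdd m)
      exact ⟨MonoidAlgebra.single (Multiplicative.ofAdd n) r, by simp [hn]⟩
  infer_instance

theorem diagMap_flat_surjective (φ : N →+ M) (hφ : Function.Injective φ) :
    Flat (Red.diagMap (ULift.{u} ℤ) φ).left ∧ Surjective (Red.diagMap (ULift.{u} ℤ) φ).left := by
  have h := faithfullyFlat_mapDomain (ULift.{u} ℤ) (AddMonoidHom.toMultiplicative φ) hφ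
  rw [RingHom.FaithfullyFlat.iff_flat_and_comap_surjective] at h
  refine ⟨?_, ⟨h.2⟩⟩
  change Flat (Spec.map _)
  rw [HasRingHomProperty.Spec_iff (P := @Flat)]
  exact h.1

theorem charCond_mono :
    CharCond (monomorphisms Scheme.{u}) (fun M N _ _ φ => Function.Surjective φ) :=
  ⟨fun M N _ _ φ h => diagMap_mono φ h, fun L _ M N _ _ φ h => char_of_mono φ h⟩

theorem charCond_iso :
    CharCond (isomorphisms Scheme.{u}) (fun M N _ _ φ => Function.Bijective φ) := by
  refine ⟨fun M N _ _ φ h => diagMap_isIso φ h, fun L _ M N _ _ φ h => ?_⟩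
  have : IsIso (Red.DSmap (Spec (CommRingCat.of L)) φ).left := h
  exact ⟨char_of_flat_surjective.{u} (L := L) φ ⟨inferInstance, inferInstance⟩, char_of_mono.{u} (L := L) φ inferInstance⟩

theorem charCond_flat_surjective :
    CharCond (@Flat ⊓ @Surjective : MorphismProperty Scheme.{u}) (fun M N _ _ φ => Function.Injective φ) :=
  ⟨fun M N _ _ φ h => diagMap_flat_surjective φ h, fun L _ M N _ _ φ h => char_of_flat_surjective φ h⟩

instance descendsAlong_monomorphisms :
    (monomorphisms Scheme.{u}).DescendsAlong (@Surjective ⊓ @Flat ⊓ @QuasiCompact) := by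
  rw [← MorphismProperty.diagonal_isomorphisms]
  infer_instance

theorem descendsAlong_flat_surjective :
    (@Flat ⊓ @Surjective : MorphismProperty Scheme.{u}).DescendsAlong (@Surjective ⊓ @Flat ⊓ @QuasiCompact) := by
  have := HasRingHomProperty.descendsAlong_flat (P := @Flat) GrothLib.AlgSp.codescendsAlong_flat
  exact ⟨fun sq hf h => ⟨MorphismProperty.of_isPullback_of_descendsAlong sq hf h.1,
    MorphismProperty.of_isPullback_of_descendsAlong sq hf h.2⟩⟩

end GrothLib.DiagGrp
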