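import Mathlib.AlgebraicGeometry.Morphisms.FinitePresentation
import Mathlib.AlgebraicGeometry.Morphisms.ClosedImmersion
import Mathlib.AlgebraicGeometry.Noetherian
import Mathlib.AlgebraicGeometry.Morphisms.Separated
import Groth.Agent.Lib.LocProp.Stalk
import Groth.Prelude.Def_Red

/-!
The kernel of a homomorphism into a separated group is a finitely presented closed subscheme.
-/

universe u

open CategoryTheory MonoidalCategory CartesianMonoidalCategory MonObj GrpObj AlgebraicGeometry
open CategoryTheory.Limits

namespace GrothLib.DiagGrp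

theorem lfp_of_comp_of_lft {X Y Z : Scheme.{u}} (f : X ⟶ Y) (g : Y ⟶ Z) (h : LocallyOfFinitePresentation (f ≫ g))
    (hg : LocallyOfFiniteType g) : LocallyOfFinitePresentation f := by
  wlog hZ : IsAffine Z generalizing X Y Z with H0
  · rw [IsZariskiLocalAtTarget.iff_of_iSup_eq_top (P := @LocallyOfFinitePresentation) _
      (g.iSup_preimage_eq_top (iSup_affineOpens_eq_top Z))]
    intro U
    have H := IsZariskiLocalAtTarget.restrict h U.1
    rw [morphismRestrict_comp] at H
    exact H0 (f ∣_ g ⁻¹ᵁ U.1) (g ∣_ U.1) H (IsZariskiLocalAtTarget.restrict hg U.1) U.2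
  wlog hY : IsAffine Y generalizing X Y with H1
  · rw [IsZariskiLocalAtTarget.iff_of_iSup_eq_top (P := @LocallyOfFinitePresentation) _
      (iSup_affineOpens_eq_top Y)]
    intro U
    have H := HasRingHomProperty.comp_of_isOpenImmersion @LocallyOfFinitePresentation (f ⁻¹ᵁ U.1).ι (f ≫ g) h
    rw [← morphismRestrict_ι_assoc] at H
    exact H1 (f ∣_ U.1) (U.1.ι ≫ g) H
      (HasRingHomProperty.comp_of_isOpenImmersion @LocallyOfFiniteType U.1.ι g hg) U.2
  wlog hX : IsAffine X generalizing X
  · rw [IsZariskiLocalAtSource.iff_of_iSup_eq_top (P := @LocallyOfFinitePresentation) _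
      (iSup_affineOpens_eq_top X)]
    intro U
    have H := HasRingHomProperty.comp_of_isOpenImmersion @LocallyOfFinitePresentation U.1.ι (f ≫ g) h
    rw [← Category.assoc] at H
    exact this (U.1.ι ≫ f) H U.2
  rw [HasRingHomProperty.iff_of_isAffine (P := @LocallyOfFinitePresentation)] at h ⊢
  have hg := HasRingHomProperty.appTop (P := @LocallyOfFiniteType) g hg
  rw [Scheme.Hom.comp_appTop, CommRingCat.hom_comp] at h
  algebraize [g.appTop.hom, f.appTop.hom, f.appTop.hom.comp g.appTop.hom]
  exact RingHom.finitePresentation_algebraMap.2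
    (Algebra.FinitePresentation.of_restrict_scalars_finitePresentation Γ(Z, ⊤) Γ(Y, ⊤) Γ(X, ⊤))

variable {S : Scheme.{u}}

theorem isClosedImmersion_one (G : Over S) [GrpObj G] [IsSeparated G.hom] : IsClosedImmersion η[G].left := by
  have h1 : η[G].left ≫ G.hom = 𝟙 S := Over.w η[G]
  have : IsClosedImmersion (η[G].left ≫ G.hom) := by
    rw [h1]
    exact inferInstanceAs (IsClosedImmersion (𝟙 S))
  exact IsClosedImmersion.of_comp _ G.hom

/-- The kernel is locally of finite presentation inside the source, in the two classical cases. -/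
theorem kernel_lfp {H G : Over S} [GrpObj G] [IsSeparated G.hom] [LocallyOfFiniteType H.hom] (u : H ⟶ G)
    (hG : IsLocallyNoetherian S ∨ LocallyOfFinitePresentation G.hom) :
    LocallyOfFinitePresentation (pullback.fst u.left η[G].left) := by
  have := isClosedImmersion_one G
  rcases hG with hS | hG
  · have := LocallyOfFiniteType.isLocallyNoetherian H.hom
    exact GrothLib.LocProp.locallyOfFinitePresentation_of_isLocallyNoetherian _
  · have : LocallyOfFinitePresentation η[G].left := by
      refine lfp_of_comp_of_lft _ G.hom ?_ inferInstance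
      rw [Over.w η[G]]
      exact inferInstanceAs (LocallyOfFinitePresentation (𝟙 S))
    infer_instance

end GrothLib.DiagGrp
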