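import Groth.Agent.Lib.DiagGrp.Points
import Groth.Agent.Lib.DiagGrp.Trivial

/-!
A homomorphism from `D_R(M)` which is trivial modulo a nilpotent ideal is trivial.
-/

universe u

open CategoryTheory MonoidalCategory CartesianMonoidalCategory MonObj GrpObj AlgebraicGeometry

namespace GrothLib.DiagGrp

variable {R : Type u} [CommRing R] {M : Type} [AddCommGroup M]

/-- The ring map out of the group algebra attached to a character. -/
noncomputable def evalHom {C : Type u} [CommRing C] (a : R →+* C) (χ : Multiplicative M →* C) :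
    MonoidAlgebra R (Multiplicative M) →+* C :=
  MonoidAlgebra.liftNCRingHom a χ (fun _ _ => Commute.all _ _)

/-- The point of `D_R(M)` attached to a character. -/
noncomputable def diagPt {C : Type u} [CommRing C] (a : R →+* C) (χ : Multiplicative M →* C) :
    Over.mk (Spec.map (CommRingCat.ofHom a)) ⟶ Red.diag R M :=
  Over.homMk (Spec.map (CommRingCat.ofHom (evalHom a χ))) (by
    change Spec.map (CommRingCat.ofHom (evalHom a χ)) ≫ Spec.map (CommRingCat.ofHom (algebraMap R _)) =
      Spec.map (CommRingCat.ofHom a)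
    rw [← Spec.map_comp]
    congr 1
    ext r
    change evalHom a χ (MonoidAlgebra.single 1 r) = a r
    simp [evalHom, MonoidAlgebra.liftNCRingHom_single])

theorem diagPt_eq {C : Type u} [CommRing C] (a : R →+* C) (χ : Multiplicative M →* C) :
    diagPt a χ = (letI := a.toAlgebra; specPoint R M C χ) := by
  letI := a.toAlgebra
  apply Over.OverMorphism.ext
  rw [specPoint_left]
  change Spec.map (CommRingCat.ofHom (evalHom a χ)) = _
  congr 2

theorem diagPt_one {C : Type u} [CommRing C] (a : R →+* C) : diagPt (M := M) a (1 : Multiplicative M →* C) = 1 := by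
  letI := a.toAlgebra
  rw [diagPt_eq]
  exact map_one (specPoint R M C)

theorem diagPt_mul {C : Type u} [CommRing C] (a : R →+* C) (χ χ' : Multiplicative M →* C) :
    diagPt a (χ * χ') = diagPt a χ * diagPt a χ' := by
  letI := a.toAlgebra
  rw [diagPt_eq, diagPt_eq, diagPt_eq]
  exact map_mul (specPoint R M C) χ χ'

theorem diagPt_comp {C C' : Type u} [CommRing C] [CommRing C'] (a : R →+* C) (h : C →+* C')
    (χ : Multiplicative M →* C) (hw) :
    (Over.homMk (Spec.map (CommRingCat.ofHom h)) hw :
      Over.mk (Spec.map (CommRingCat.ofHom (h.comp a))) ⟶ Over.mk (Spec.map (CommRingCat.ofHom a))) ≫ diagPt a χ =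
      diagPt (h.comp a) ((h : C →* C').comp χ) := by
  apply Over.OverMorphism.ext
  change Spec.map (CommRingCat.ofHom h) ≫ Spec.map (CommRingCat.ofHom (evalHom a χ)) =
    Spec.map (CommRingCat.ofHom _)
  rw [← Spec.map_comp, ← CommRingCat.ofHom_comp]
  congr 2
  refine MonoidAlgebra.ringHom_ext (fun r => ?_) (fun m => ?_)
  · simp [evalHom, MonoidAlgebra.liftNCRingHom_single]
  · simp [evalHom, MonoidAlgebra.liftNCRingHom_single]

variable {X : Over (Spec (CommRingCat.of R))} [GrpObj X] (f : Red.diag R M ⟶ X) [IsMonHom f]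

/-- Translation by the image of a character. -/
noncomputable def homOp {C : Type u} [CommRing C] (a : R →+* C) (χ : Multiplicative M →* C)
    (x : Spec (CommRingCat.of C) ⟶ X.left) (hx : x ≫ X.hom = Spec.map (CommRingCat.ofHom a)) :
    Spec (CommRingCat.of C) ⟶ X.left :=
  ((diagPt a χ ≫ f) * (Over.homMk x hx : Over.mk (Spec.map (CommRingCat.ofHom a)) ⟶ X)).left

theorem homOp_congr {C : Type u} [CommRing C] {a a' : R →+* C} (h : a = a') (χ : Multiplicative M →* C)
    (x : Spec (CommRingCat.of C) ⟶ X.left) (hx : x ≫ X.hom = Spec.map (CommRingCat.ofHom a))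
    (hx' : x ≫ X.hom = Spec.map (CommRingCat.ofHom a')) : homOp f a χ x hx = homOp f a' χ x hx' := by
  subst h; rfl

/-- The base ring map of an affine point. -/
noncomputable def ringOf {C : Type u} [CommRing C] (x : Spec (CommRingCat.of C) ⟶ X.left) : R →+* C :=
  (Spec.preimage (x ≫ X.hom)).hom

theorem ringOf_spec {C : Type u} [CommRing C] (x : Spec (CommRingCat.of C) ⟶ X.left) :
    x ≫ X.hom = Spec.map (CommRingCat.ofHom (ringOf x)) := by
  rw [ringOf, CommRingCat.ofHom_hom, Spec.map_preimage]

theorem ringOf_eq {C : Type u} [CommRing C] (x : Spec (CommRingCat.of C) ⟶ X.left) {a : R →+* C}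
    (hx : x ≫ X.hom = Spec.map (CommRingCat.ofHom a)) : ringOf x = a :=
  congrArg CommRingCat.Hom.hom (Spec.map_injective ((ringOf_spec x).symm.trans hx))

/-- The system of translations. -/
noncomputable def homCharAction : CharAction X.hom (Multiplicative M) where
  op C _ χ x := homOp f (ringOf x) χ x (ringOf_spec x)
  op_over C _ χ x := (Over.w _).trans (ringOf_spec x).symm
  op_nat C C' _ _ h χ x := by
    have e : ringOf (Spec.map (CommRingCat.ofHom h) ≫ x) = h.comp (ringOf x) := ringOf_eq _ (by
      rw [Category.assoc, ringOf_spec, ← Spec.map_comp]; rfl)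
    rw [homOp_congr f e _ _ _ (by rw [Category.assoc, ringOf_spec, ← Spec.map_comp]; rfl)]
    set k : Over.mk (Spec.map (CommRingCat.ofHom (h.comp (ringOf x)))) ⟶
        Over.mk (Spec.map (CommRingCat.ofHom (ringOf x))) :=
      Over.homMk (Spec.map (CommRingCat.ofHom h)) (by
        change Spec.map (CommRingCat.ofHom h) ≫ Spec.map (CommRingCat.ofHom (ringOf x)) = _
        rw [← Spec.map_comp]; rfl)
    have key : k ≫ ((diagPt (ringOf x) χ ≫ f) * Over.homMk x (ringOf_spec x)) =
        (diagPt (h.comp (ringOf x)) ((h : C →* C').comp χ) ≫ f) *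
          Over.homMk (Spec.map (CommRingCat.ofHom h) ≫ x)
            (by rw [Category.assoc, ringOf_spec, ← Spec.map_comp]; rfl) := by
      rw [MonObj.comp_mul, ← Category.assoc, diagPt_comp]
      rfl
    exact (congrArg (fun t => t.left) key).symm
  op_one C _ x := by
    rw [homOp, diagPt_one, MonObj.one_comp, _root_.one_mul]
    rfl
  op_mul C _ χ χ' x := by
    have e : ringOf (homOp f (ringOf x) χ' x (ringOf_spec x)) = ringOf x := ringOf_eq _ (Over.w _)
    rw [homOp_congr f e _ _ _ (Over.w _)]
    rw [homOp, diagPt_mul, MonObj.mul_comp, _root_.mul_assoc]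
    rfl

theorem hom_trivial (I : Ideal R) (hI : IsNilpotent I)
    (h : (Over.pullback (Spec.map (CommRingCat.ofHom (Ideal.Quotient.mk I)))).map f = 1) : f = 1 := by
  classical
  set i := Spec.map (CommRingCat.ofHom (Ideal.Quotient.mk I))
  set D := MonoidAlgebra R (Multiplicative M)
  have htriv := (homCharAction f).trivial (fun s =>
    ⟨R, inferInstance, 𝟙 _, inferInstance, I, ⟨s, rfl⟩, hI, fun C _ σ hσ χ x hx => by
      rw [Category.comp_id] at hx
      change homOp f (ringOf x) χ x (ringOf_spec x) = x
      rw [homOp_congr f (ringOf_eq x hx) χ x _ hx]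
      set T' : Over (Spec (CommRingCat.of (R ⧸ I))) :=
        Over.mk (Spec.map (CommRingCat.ofHom (Ideal.Quotient.lift I σ hσ)))
      let k : Over.mk (Spec.map (CommRingCat.ofHom σ)) ⟶ (Over.map i).obj T' :=
        Over.homMk (𝟙 _) (by
          change 𝟙 _ ≫ Spec.map _ ≫ Spec.map _ = Spec.map _
          rw [Category.id_comp, ← Spec.map_comp, ← CommRingCat.ofHom_comp, Ideal.Quotient.lift_comp_mk])
      let k' : (Over.map i).obj T' ⟶ Over.mk (Spec.map (CommRingCat.ofHom σ)) :=
        Over.homMk (𝟙 _) (by
          change 𝟙 _ ≫ Spec.map _ = Spec.map _ ≫ Spec.map _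
          rw [Category.id_comp, ← Spec.map_comp, ← CommRingCat.ofHom_comp, Ideal.Quotient.lift_comp_mk])
      have hkk : k ≫ k' = 𝟙 _ := Over.OverMorphism.ext (Category.id_comp _)
      have h1 : (k' ≫ diagPt σ χ) ≫ f = 1 := by
        apply (bcPointMulEquiv i X T').injective
        rw [map_one]
        change bcPoint i X T' ((k' ≫ diagPt σ χ) ≫ f) = 1
        rw [bcPoint_comp_right, h, MonObj.comp_one]
      have h2 : diagPt σ χ ≫ f = 1 := by
        rw [← Category.id_comp (diagPt σ χ), ← hkk, Category.assoc, Category.assoc, ← Category.assoc k', h1,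
          MonObj.comp_one]
      rw [homOp, h2, _root_.one_mul]
      rfl⟩)
  have key := htriv D (MonoidAlgebra.of R (Multiplicative M))
    (1 : Over.mk (Spec.map (CommRingCat.ofHom (algebraMap R D))) ⟶ X).left
  change homOp f (ringOf _) _ _ _ = _ at key
  rw [homOp_congr f (ringOf_eq _ (Over.w _)) _ _ _ (Over.w _)] at key
  have hid : diagPt (algebraMap R D) (MonoidAlgebra.of R (Multiplicative M)) = 𝟙 (Red.diag R M) := by
    apply Over.OverMorphism.ext
    change Spec.map (CommRingCat.ofHom _) = 𝟙 _
    rw [← Spec.map_id]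
    congr 1
    apply CommRingCat.hom_ext
    refine MonoidAlgebra.ringHom_ext (fun r => ?_) (fun m => ?_)
    · simp [evalHom, MonoidAlgebra.liftNCRingHom_single, D]
    · simp [evalHom, MonoidAlgebra.liftNCRingHom_single, D]
  apply Over.OverMorphism.ext
  rw [homOp, show (Over.homMk (1 : Over.mk (Spec.map (CommRingCat.ofHom (algebraMap R D))) ⟶ X).left (Over.w _) :
    Over.mk (Spec.map (CommRingCat.ofHom (algebraMap R D))) ⟶ X) = 1 from Over.OverMorphism.ext rfl,
    _root_.mul_one, hid] at key
  refine Eq.trans ?_ (key.trans rfl)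
  exact (congrArg (fun t => t.left) (Category.id_comp f)).symm

end GrothLib.DiagGrp
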