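import Groth.Agent.Lib.DiagGrp.Charts
import Groth.Prelude.Def_SGA3x
import Mathlib.AlgebraicGeometry.Morphisms.LocalFlatDescent
import Mathlib.RingTheory.FiniteType

/-!
Groups of multiplicative type and of finite type are locally of finite type over the base.
-/

universe u

open CategoryTheory MonoidalCategory CartesianMonoidalCategory MonObj GrpObj AlgebraicGeometry
open CategoryTheory.Limits

namespace GrothLib.DiagGrp

variable {S : Scheme.{u}}

theorem locallyOfFiniteType_diag (M : Type) [AddCommGroup M] (hM : AddGroup.FG M) :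
    LocallyOfFiniteType (Red.diag (ULift.{u} ℤ) M).hom := by
  haveI : AddMonoid.FG M := AddGroup.fg_iff_addMonoid_fg.mp hM
  haveI : Monoid.FG (Multiplicative M) := AddMonoid.fg_iff_mul_fg.mp this
  change LocallyOfFiniteType (Spec.map (CommRingCat.ofHom
    (algebraMap (ULift.{u} ℤ) (MonoidAlgebra (ULift.{u} ℤ) (Multiplicative M)))))
  rw [HasRingHomProperty.Spec_iff (P := @LocallyOfFiniteType), CommRingCat.hom_ofHom,
    RingHom.finiteType_algebraMap]
  infer_instance

theorem locallyOfFiniteType_of_isMultTypeFT {H : Over S} [GrpObj H] (hH : SGA3x.IsMultTypeFT H) :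
    LocallyOfFiniteType H.hom := by
  obtain ⟨S', f, h1, h2, h3, h4⟩ := hH
  have h : LocallyOfFiniteType (toUnit H).left :=
    of_charts @LocallyOfFiniteType (G := H) (fun M inst => @AddGroup.FG M (inst.toAddGroup))
      ⟨S', f, h1, h2, h3, h4⟩ (toUnit H) fun {W} _ g {M} inst hM e => by
        haveI := locallyOfFiniteType_diag.{u} M hM
        haveI : LocallyOfFiniteType (Red.DS W M).hom :=
          inferInstanceAs (LocallyOfFiniteType (pullback.snd (Red.diag (ULift.{u} ℤ) M).hom _))
        haveI : LocallyOfFiniteType (Red.bc g H).hom := by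
          let i : Red.bc g H ≅ Red.DS W M := (Grp.forget (Over W)).mapIso e
          haveI : IsIso i.hom.left := inferInstanceAs (IsIso ((Over.forget W).mapIso i).hom)
          rw [← Over.w i.hom]
          exact (MorphismProperty.cancel_left_of_respectsIso @LocallyOfFiniteType _ _).mpr ‹_›
        haveI : IsIso (pullback.snd (𝟙_ (Over S)).hom g) := inferInstanceAs (IsIso (pullback.snd (𝟙 S) g))
        rw [← MorphismProperty.cancel_right_of_respectsIso @LocallyOfFiniteType _ (pullback.snd (𝟙_ (Over S)).hom g)]
        have : ((Over.pullback g).map (toUnit H)).left ≫ pullback.snd (𝟙_ (Over S)).hom g = (Red.bc g H).hom :=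
          pullback.lift_snd _ _ _
        rw [this]
        infer_instance
  have e : (toUnit H).left ≫ (𝟙_ (Over S)).hom = H.hom := Over.w (toUnit H)
  rw [← e]
  exact (MorphismProperty.cancel_right_of_respectsIso @LocallyOfFiniteType _ (𝟙 S)).mpr h

end GrothLib.DiagGrp
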