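import Groth.Agent.Lib.DiagGrp.TrivOver
import Groth.Agent.Lib.DiagGrp.KernelFP
import Groth.Agent.Lib.DiagGrp.HomTrivial
import Groth.Agent.Lib.DiagGrp.MultTypeFT
import Mathlib.RingTheory.Ideal.IdempotentFG

/-!
The locus where a homomorphism out of a group of multiplicative type is trivial is open and closed.
-/

universe u

open CategoryTheory MonoidalCategory CartesianMonoidalCategory MonObj GrpObj AlgebraicGeometry
open CategoryTheory.Limits

namespace GrothLib.DiagGrp

variable {S : Scheme.{u}} {H G : Over S} [GrpObj H] [GrpObj G]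

section Chart

variable {R : Type u} [CommRing R] (f : Spec (CommRingCat.of R) ⟶ S) {M : Type} [AddCommGroup M]
  (e : Grp.mk (Red.bc f H) ≅ Grp.mk (Red.DS (Spec (CommRingCat.of R)) M))

/-- The universal point of the group over a chart. -/
noncomputable def univPt :
    (Over.map f).obj (Over.mk (Spec.map (CommRingCat.ofHom (algebraMap R (MonoidAlgebra R (Multiplicative M)))))) ⟶ H :=
  ptG f e _ (MonoidAlgebra.of R (Multiplicative M))

theorem evalHom_algebraMap {C : Type u} [CommRing C] (σ : R →+* C) (χ : Multiplicative M →* C) :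
    (evalHom σ χ).comp (algebraMap R (MonoidAlgebra R (Multiplicative M))) = σ := by
  ext r
  simp [evalHom, MonoidAlgebra.liftNCRingHom_single]

theorem ptG_left_eq {C : Type u} [CommRing C] (σ : R →+* C) (χ : Multiplicative M →* C) :
    (ptG f e (Spec.map (CommRingCat.ofHom σ)) χ).left =
      Spec.map (CommRingCat.ofHom (evalHom σ χ)) ≫ (univPt f e).left := by
  have hp : Spec.map (CommRingCat.ofHom (evalHom σ χ)) ≫
      Spec.map (CommRingCat.ofHom (algebraMap R (MonoidAlgebra R (Multiplicative M)))) =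
        Spec.map (CommRingCat.ofHom σ) := by
    rw [← Spec.map_comp, ← CommRingCat.ofHom_comp, evalHom_algebraMap]
  have hχ : ((evalHom σ χ : MonoidAlgebra R (Multiplicative M) →+* C) : _ →* C).comp (MonoidAlgebra.of R _) = χ :=
    MonoidHom.ext fun m => by simp [evalHom, MonoidAlgebra.liftNCRingHom_single]
  have h := ptG_comp f e _ _ (evalHom σ χ) (MonoidAlgebra.of R (Multiplicative M)) hp
  rw [hχ] at h
  exact (congrArg (fun t => t.left) h).symm

variable (u : H ⟶ G)

theorem comp_eq_one_iff_factor {C : Type u} [CommRing C] {T : Over S} (g : T ⟶ H)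
    (a : Spec (CommRingCat.of C) ⟶ Spec (CommRingCat.of (MonoidAlgebra R (Multiplicative M))))
    (i : Spec (CommRingCat.of C) ≅ T.left) (hg : i.hom ≫ g.left = a ≫ (univPt f e).left) :
    g ≫ u = 1 ↔ ∃ y, y ≫ pullback.fst (univPt f e).left (pullback.fst u.left η[G].left) = a := by
  constructor
  · intro h
    have h1 : g.left ≫ u.left = T.hom ≫ η[G].left := congrArg (fun t => t.left) h
    refine ⟨pullback.lift a (pullback.lift (i.hom ≫ g.left) (i.hom ≫ T.hom) ?_) ?_, pullback.lift_fst _ _ _⟩
    · rw [Category.assoc, h1]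
      exact (Category.assoc _ _ _).symm
    · rw [pullback.lift_fst, hg]
  · rintro ⟨y, hy⟩
    apply Over.OverMorphism.ext
    rw [← cancel_epi i.hom]
    have h1 : i.hom ≫ g.left ≫ u.left =
        (y ≫ pullback.snd _ _ ≫ pullback.snd u.left η[G].left) ≫ η[G].left := by
      rw [← Category.assoc, hg, ← hy]
      simp only [Category.assoc]
      rw [pullback.condition_assoc, pullback.condition]
    have h2 : i.hom ≫ T.hom = y ≫ pullback.snd _ _ ≫ pullback.snd u.left η[G].left := by
      have h3 := congrArg (· ≫ G.hom) h1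
      simp only [Category.assoc] at h3
      rw [Over.w u, Over.w g, show η[G].left ≫ G.hom = 𝟙 _ from Over.w η[G]] at h3
      exact h3.trans (by simp)
    change i.hom ≫ g.left ≫ u.left = i.hom ≫ T.hom ≫ η[G].left
    rw [h1, ← h2, Category.assoc]

include e in
/-- A chart carries a finitely generated ideal cutting out the trivial locus. -/
theorem exists_trivial_ideal [IsClosedImmersion η[G].left]
    [LocallyOfFinitePresentation (pullback.fst u.left η[G].left)] :
    ∃ a : Ideal R, a.FG ∧ ∀ (C : Type u) [CommRing C] (σ : R →+* C),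
      (∀ r ∈ a, σ r = 0) ↔ TrivOver u (Spec.map (CommRingCat.ofHom σ) ≫ f) := by
  classical
  set D := MonoidAlgebra R (Multiplicative M)
  set c := pullback.fst (univPt f e).left (pullback.fst u.left η[G].left)
  have hclosed : IsClosedImmersion c := inferInstance
  have hlfp : LocallyOfFinitePresentation c := inferInstance
  obtain ⟨I, ec, hec⟩ := IsClosedImmersion.Spec_iff.mp hclosed
  have hI : I.FG := by
    have h1 : LocallyOfFinitePresentation (Spec.map (CommRingCat.ofHom (Ideal.Quotient.mk I))) := by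
      rw [hec, MorphismProperty.cancel_left_of_respectsIso @LocallyOfFinitePresentation] at hlfp
      exact hlfp
    rw [HasRingHomProperty.Spec_iff (P := @LocallyOfFinitePresentation), CommRingCat.hom_ofHom] at h1
    have : Algebra.FinitePresentation D (D ⧸ I) := RingHom.finitePresentation_algebraMap.mp h1
    simpa using Algebra.FinitePresentation.ker_fG_of_surjective (Ideal.Quotient.mkₐ D I) Ideal.Quotient.mk_surjective
  have hfac : ∀ {C : Type u} [CommRing C] (φ : D →+* C),
      (∃ y, y ≫ c = Spec.map (CommRingCat.ofHom φ)) ↔ ∀ x ∈ I, φ x = 0 := by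
    intro C _ φ
    constructor
    · rintro ⟨y, hy⟩ x hx
      rw [hec, ← Category.assoc, ← Spec.map_preimage (y ≫ ec.hom), ← Spec.map_comp] at hy
      have h2 := RingHom.congr_fun (congrArg CommRingCat.Hom.hom (Spec.map_injective hy)) x
      refine h2.symm.trans ?_
      change (Spec.preimage (y ≫ ec.hom)).hom (Ideal.Quotient.mk I x) = 0
      rw [Ideal.Quotient.eq_zero_iff_mem.mpr hx, map_zero]
    · intro h
      refine ⟨Spec.map (CommRingCat.ofHom (Ideal.Quotient.lift I φ h)) ≫ ec.inv, ?_⟩
      rw [hec, Category.assoc, Iso.inv_hom_id_assoc, ← Spec.map_comp, ← CommRingCat.ofHom_comp,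
        Ideal.Quotient.lift_comp_mk]
  obtain ⟨s, hs⟩ := hI
  refine ⟨Ideal.span (↑(s.biUnion fun x => x.coeff.support.image x.coeff) : Set R), ⟨_, rfl⟩, fun C _ σ => ⟨?_, ?_⟩⟩
  · intro hσ
    refine trivOver_of_affine u _ fun C' _ t g => ?_
    set σ' : R →+* C' := (Spec.preimage t).hom.comp σ
    have ht : Spec.map (CommRingCat.ofHom σ') = t ≫ Spec.map (CommRingCat.ofHom σ) := by
      rw [CommRingCat.ofHom_comp, Spec.map_comp, CommRingCat.ofHom_hom, Spec.map_preimage]
    let k : (Over.map f).obj (Over.mk (Spec.map (CommRingCat.ofHom σ'))) ⟶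
        Over.mk (t ≫ Spec.map (CommRingCat.ofHom σ) ≫ f) :=
      Over.homMk (𝟙 _) (by
        change 𝟙 _ ≫ t ≫ _ ≫ f = _ ≫ f
        rw [Category.id_comp, ht]
        exact (Category.assoc _ _ _).symm)
    obtain ⟨χ, hχ⟩ := exists_ptG_eq f e (Spec.map (CommRingCat.ofHom σ')) (k ≫ g)
    refine (comp_eq_one_iff_factor f e u g _ (Iso.refl _) ?_).mpr ((hfac (evalHom σ' χ)).mpr ?_)
    · rw [← ptG_left_eq, hχ]
      rfl
    · have hker : I ≤ RingHom.ker (evalHom σ' χ) := by
        rw [← hs]
        refine Ideal.span_le.mpr fun x hx => ?_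
        change evalHom σ' χ x = 0
        rw [← MonoidAlgebra.sum_coeff_single x, Finsupp.sum, map_sum]
        refine Finset.sum_eq_zero fun m hm => ?_
        have hx0 : σ (x.coeff m) = 0 :=
          hσ _ (Ideal.subset_span (Finset.mem_biUnion.mpr ⟨x, hx, Finset.mem_image_of_mem _ hm⟩))
        simp [evalHom, MonoidAlgebra.liftNCRingHom_single, σ', hx0]
      exact fun x hx => hker hx
  · intro h r hr
    set D' := MonoidAlgebra C (Multiplicative M)
    set σ' : R →+* D' := (MonoidAlgebra.singleOneRingHom : C →+* D').comp σ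
    set χ : Multiplicative M →* D' := MonoidAlgebra.of C (Multiplicative M)
    set g := ptG f e (Spec.map (CommRingCat.ofHom σ')) χ
    have hg : g ≫ u = 1 := h ((Over.map f).obj (Over.mk (Spec.map (CommRingCat.ofHom σ'))))
      (Spec.map (CommRingCat.ofHom MonoidAlgebra.singleOneRingHom)) (by
        change _ = Spec.map (CommRingCat.ofHom σ') ≫ f
        rw [CommRingCat.ofHom_comp, Spec.map_comp, Category.assoc]) g
    have h1 := (hfac (evalHom σ' χ)).mp ((comp_eq_one_iff_factor f e u g _ (Iso.refl _)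
      ((Category.id_comp _).trans (ptG_left_eq f e σ' χ))).mp hg)
    have hmul : ∀ (a : C) (m : Multiplicative M),
        (MonoidAlgebra.singleOneRingHom a : D') * χ m = MonoidAlgebra.single m a := fun a m => by
      change MonoidAlgebra.single 1 a * MonoidAlgebra.single m 1 = _
      rw [MonoidAlgebra.single_mul_single, _root_.one_mul, _root_.mul_one]
    have key : ∀ (x : D) (m : Multiplicative M), (evalHom σ' χ x).coeff m = σ (x.coeff m) := by
      intro x m
      have hterm : ∀ i, evalHom σ' χ (MonoidAlgebra.single i (x.coeff i)) =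
          MonoidAlgebra.single i (σ (x.coeff i)) := fun i => by
        rw [evalHom, MonoidAlgebra.liftNCRingHom_single]
        exact hmul _ _
      conv_lhs => rw [← MonoidAlgebra.sum_coeff_single x]
      rw [Finsupp.sum, map_sum, MonoidAlgebra.coeff_sum, Finset.sum_apply', Finset.sum_eq_single m]
      · simp [hterm]
      · intro i _ hi
        simp [hterm, Finsupp.single_eq_of_ne (Ne.symm hi)]
      · intro hm
        simp [hterm, Finsupp.notMem_support_iff.mp hm]
    refine Submodule.span_induction (p := fun x _ => σ x = 0) ?_ (map_zero σ)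
      (fun x y _ _ hx hy => by rw [map_add, hx, hy, add_zero])
      (fun a x _ hx => by rw [smul_eq_mul, map_mul, hx, mul_zero]) hr
    intro y hy
    obtain ⟨x, hx, hy⟩ := Finset.mem_biUnion.mp hy
    obtain ⟨m, -, rfl⟩ := Finset.mem_image.mp hy
    rw [← key, h1 x (hs ▸ Ideal.subset_span hx)]
    rfl

variable [IsMonHom u]

include e in
/-- Rigidity: triviality modulo a nilpotent ideal gives triviality. -/
theorem trivOver_of_nilpotent (I : Ideal R) (hI : IsNilpotent I)
    (h : TrivOver u (Spec.map (CommRingCat.ofHom (Ideal.Quotient.mk I)) ≫ f)) : TrivOver u f := by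
  refine trivOver_of_affine u f fun C _ t g => ?_
  obtain ⟨χ, hχ⟩ := exists_ptG_eq f e t (g : (Over.map f).obj (Over.mk t) ⟶ H)
  set one : (Over.map f).obj (Over.mk t) ⟶ G := 1
  set y : Spec (CommRingCat.of C) ⟶ pullback G.hom f := pullback.lift one.left t (Over.w one)
  have hy : y ≫ pullback.snd G.hom f = t := pullback.lift_snd _ _ _
  have htriv := (charAction f e (translAction u)).trivial (fun w =>
    ⟨R, inferInstance, 𝟙 _, inferInstance, I, ⟨w, rfl⟩, hI, fun C' _ σ hσ χ' x' hx' => by
      apply pullback.hom_ext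
      · change opAux f e (translAction u) _ χ' x' rfl ≫ _ = _
        rw [opAux, pullback.lift_fst]
        rw [show lift (ptG f e _ χ') (ptX f _ x' rfl) ≫ (translAction u).act = _ from lift_transl u _ _,
          h _ (Spec.map (CommRingCat.ofHom (Ideal.Quotient.lift I σ hσ))) (by
            change Spec.map _ ≫ Spec.map _ ≫ f = (x' ≫ pullback.snd G.hom f) ≫ f
            rw [hx', Category.comp_id, ← Category.assoc, ← Spec.map_comp, ← CommRingCat.ofHom_comp,
              Ideal.Quotient.lift_comp_mk]) _, _root_.one_mul]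
        rfl
      · exact pullback.lift_snd _ _ _⟩) C χ y
  have h2 : opAux f e (translAction u) t χ y hy = y := by
    rw [← opAux_congr f e (translAction u) hy χ y rfl]
    exact htriv
  have h3 := ptX_opAux f e (translAction u) t χ y hy (by rw [h2]; exact hy)
  have hone : ptX f t y hy = one := Over.OverMorphism.ext (pullback.lift_fst _ _ _)
  have h4 : ptX f t (opAux f e (translAction u) t χ y hy) (by rw [h2]; exact hy) = ptX f t y hy :=
    Over.OverMorphism.ext (congrArg (· ≫ pullback.fst G.hom f) h2)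
  rw [h4, hone, show lift (ptG f e t χ) one ≫ (translAction u).act = _ from lift_transl u _ _, hχ] at h3
  exact (h3.trans (_root_.mul_one _)).symm

include e in
/-- On a chart the trivial locus is cut out by an idempotent. -/
theorem exists_trivial_idempotent [IsClosedImmersion η[G].left]
    [LocallyOfFinitePresentation (pullback.fst u.left η[G].left)] :
    ∃ ε : R, IsIdempotentElem ε ∧ ∀ (C : Type u) [CommRing C] (σ : R →+* C),
      σ ε = 0 ↔ TrivOver u (Spec.map (CommRingCat.ofHom σ) ≫ f) := by
  obtain ⟨a, ha, hσ⟩ := exists_trivial_ideal f e u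
  set π : R →+* R ⧸ (a * a) := Ideal.Quotient.mk (a * a)
  set i := Spec.map (CommRingCat.ofHom π)
  have hc : HasChart anyM H f := ⟨M, inferInstance, trivial, ⟨e⟩⟩
  have hc' : HasChart anyM H (i ≫ f) := hc.precomp i (i ≫ f) rfl
  obtain ⟨M', inst', -, ⟨e'⟩⟩ := hc'
  let J : Ideal (R ⧸ (a * a)) := a.map π
  have hJ : IsNilpotent J := ⟨2, by
    change (a.map π) ^ 2 = ⊥
    rw [pow_two, ← Ideal.map_mul, Ideal.map_quotient_self]⟩
  have htriv : TrivOver u (i ≫ f) := by
    letI := inst'
    refine trivOver_of_nilpotent (i ≫ f) e' u J hJ ?_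
    rw [← Category.assoc, ← Spec.map_comp, ← CommRingCat.ofHom_comp]
    refine (hσ _ _).mp fun r hr => ?_
    rw [RingHom.comp_apply, Ideal.Quotient.eq_zero_iff_mem]
    exact Ideal.mem_map_of_mem _ hr
  have hidem : IsIdempotentElem a :=
    le_antisymm Ideal.mul_le_left fun r hr => Ideal.Quotient.eq_zero_iff_mem.mp ((hσ _ π).mpr htriv r hr)
  obtain ⟨ε, hε, rfl⟩ := (a.isIdempotentElem_iff_of_fg ha).mp hidem
  refine ⟨ε, hε, fun C _ σ => ?_⟩
  rw [← hσ]
  refine ⟨fun h r hr => ?_, fun h => h _ (Submodule.mem_span_singleton_self ε)⟩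
  obtain ⟨x, rfl⟩ := Submodule.mem_span_singleton.mp hr
  rw [smul_eq_mul, map_mul, h, mul_zero]

end Chart

/-- The trivial locus is open and closed, and the homomorphism is trivial above it. -/
theorem exists_clopen_trivial (u : H ⟶ G) [IsMonHom u] (hH : HasChartsFpqc anyM H)
    [IsClosedImmersion η[G].left] [LocallyOfFinitePresentation (pullback.fst u.left η[G].left)] :
    ∃ U : S.Opens, IsClosed (U : Set S) ∧
      (∀ s : S, s ∈ U ↔ (Over.pullback (S.fromSpecResidueField s)).map u = 1) ∧
      (Over.pullback U.ι).map u = 1 := by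
  set T : Set S := {s | TrivOver u (S.fromSpecResidueField s)} with hT
  have hchart : ∀ (R : Type u) [CommRing R] (f : Spec (CommRingCat.of R) ⟶ S), HasChart anyM H f →
      ∃ ε : R, IsIdempotentElem ε ∧ f.base ⁻¹' T = PrimeSpectrum.zeroLocus {ε} ∧
        ∀ (C : Type u) [CommRing C] (σ : R →+* C),
          σ ε = 0 ↔ TrivOver u (Spec.map (CommRingCat.ofHom σ) ≫ f) := by
    intro R _ f hf
    obtain ⟨M, inst, -, ⟨e⟩⟩ := hf
    letI := inst
    obtain ⟨ε, hε, hσ⟩ := exists_trivial_idempotent f e u
    refine ⟨ε, hε, Set.ext fun P => ?_, hσ⟩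
    let P' : PrimeSpectrum R := P
    have hpt : (Spec.map (CommRingCat.ofHom (algebraMap R P'.asIdeal.ResidueField))).base
        (IsLocalRing.closedPoint P'.asIdeal.ResidueField) = P := by
      apply PrimeSpectrum.ext
      change Ideal.comap (algebraMap R P'.asIdeal.ResidueField) _ = P'.asIdeal
      rw [IsLocalRing.closedPoint]
      change Ideal.comap _ (IsLocalRing.maximalIdeal _) = _
      rw [IsLocalRing.maximalIdeal_eq_bot, ← RingHom.ker_eq_comap_bot, Ideal.ker_algebraMap_residueField]
    have h2 := (trivOver_field_iff u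
      (Spec.map (CommRingCat.ofHom (algebraMap R P'.asIdeal.ResidueField)) ≫ f)).trans (Iff.of_eq (by
        rw [Scheme.Hom.comp_apply, hpt]))
    refine Iff.trans (h2.symm.trans (hσ _ _).symm) ?_
    rw [Ideal.algebraMap_residueField_eq_zero]
    exact (PrimeSpectrum.mem_zeroLocus _ _).trans Set.singleton_subset_iff |>.symm
  have hclopen : IsClopen T := by
    refine isClopen_of_coverBy (P := fun _ f => HasChart anyM H f) (fun V hV => hH.coverBy V hV) T fun {W} _ f hf => ?_
    obtain ⟨ε, hε, hset, -⟩ := hchart Γ(W, ⊤) (W.isoSpec.inv ≫ f) (hf.precomp W.isoSpec.inv _ rfl)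
    have h1 : IsClopen ((W.isoSpec.inv ≫ f).base ⁻¹' T) := by
      rw [hset]
      refine ⟨PrimeSpectrum.isClosed_zeroLocus _, ?_⟩
      rw [PrimeSpectrum.zeroLocus_eq_basicOpen_of_mul_add ε (1 - ε) (by rw [mul_sub, _root_.mul_one, hε.eq, sub_self])
        (by ring)]
      exact PrimeSpectrum.isOpen_basicOpen
    have h2 : f.base ⁻¹' T = W.isoSpec.hom.base ⁻¹' ((W.isoSpec.inv ≫ f).base ⁻¹' T) := by
      rw [← Set.preimage_comp, ← TopCat.coe_comp, ← Scheme.Hom.comp_base, Iso.hom_inv_id_assoc]
    rw [h2]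
    exact h1.preimage W.isoSpec.hom.base.hom.continuous
  refine ⟨⟨T, hclopen.isOpen⟩, hclopen.isClosed, fun s => (trivOver_iff_pullback_eq_one u _).symm,
    (trivOver_iff_pullback_eq_one u _).mpr ?_⟩
  set U : S.Opens := ⟨T, hclopen.isOpen⟩
  obtain ⟨S', π, hflat, hsurj, -, hloc⟩ := hH
  have := hflat
  have := hsurj
  refine trivOver_of_surjective_flat u (pullback.fst U.ι π) _ (trivOver_of_local u _ fun p => ?_)
  obtain ⟨U', hU', hch⟩ := hloc ((pullback.snd U.ι π).base p)
  obtain ⟨A, hA, hpA, hAU⟩ := exists_isAffineOpen_mem_and_subset hU'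
  obtain ⟨V, hV, hpV, hVA⟩ := exists_isAffineOpen_mem_and_subset (show p ∈ (pullback.snd U.ι π) ⁻¹ᵁ A from hpA)
  refine ⟨V, hpV, ?_⟩
  have hr : Set.range hA.fromSpec.base ⊆ Set.range U'.ι.base := by
    rw [hA.range_fromSpec, U'.range_ι]; exact hAU
  have hchA : HasChart anyM H (hA.fromSpec ≫ π) := hch.precomp (IsOpenImmersion.lift U'.ι hA.fromSpec hr) _
    (by rw [← Category.assoc, IsOpenImmersion.lift_fac])
  obtain ⟨ε, hε, hset, hσ⟩ := hchart _ _ hchA
  set ρ := ((pullback.snd U.ι π).appLE A V hVA).hom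
  have hv : Spec.map (CommRingCat.ofHom ρ) ≫ hA.fromSpec = hV.fromSpec ≫ pullback.snd U.ι π := by
    rw [← IsAffineOpen.SpecMap_appLE_fromSpec (pullback.snd U.ι π) hA hV hVA]
    rfl
  have h0 : ρ ε = 0 := by
    have hnil : IsNilpotent (ρ ε) := by
      rw [nilpotent_iff_mem_prime]
      intro P hP
      let P' : Spec (CommRingCat.of Γ(pullback U.ι π, V)) := ⟨P, hP⟩
      have h3 : (hA.fromSpec ≫ π).base ((Spec.map (CommRingCat.ofHom ρ)).base P') ∈ T := by
        rw [← Scheme.Hom.comp_apply, ← Category.assoc, hv, Category.assoc, ← pullback.condition, ← Category.assoc,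
          Scheme.Hom.comp_apply]
        exact ((hV.fromSpec ≫ pullback.fst U.ι π).base P').2
      have h4 : (Spec.map (CommRingCat.ofHom ρ)).base P' ∈ PrimeSpectrum.zeroLocus {ε} := hset ▸ h3
      exact (PrimeSpectrum.mem_zeroLocus _ _).mp h4 rfl
    exact (hε.map ρ).eq_zero_of_isNilpotent hnil
  have h5 := (hσ _ ρ).mp h0
  refine h5.precomp hV.isoSpec.hom _ ?_
  rw [← Category.assoc (Spec.map (CommRingCat.ofHom ρ)), hv, Category.assoc, ← pullback.condition,
    ← IsAffineOpen.isoSpec_hom_fromSpec hV]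
  rfl

end GrothLib.DiagGrp
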