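import Groth.Agent.Lib.DiagGrp.BaseChange
import Groth.Agent.Lib.DiagGrp.TrivialLocus
import Groth.Agent.Lib.GrpSchField.Points
import Groth.Prelude.Def_Red2
import Mathlib.RingTheory.Bialgebra.MonoidAlgebra

/-!
Homomorphisms between diagonalisable groups: at every point they come from a homomorphism of characters.
-/

universe u

open CategoryTheory MonoidalCategory CartesianMonoidalCategory MonObj GrpObj AlgebraicGeometry Opposite
open CategoryTheory.Limits
open scoped TensorProduct

namespace GrothLib.DiagGrp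

variable {M N : Type} [AddCommGroup M] [AddCommGroup N]

theorem isMonHom_diagMap (R : Type u) [CommRing R] (φ : N →+ M) : IsMonHom (Red.diagMap R φ) :=
  ((bialgSpec (CommRingCat.of R)).map (op (CommBialgCat.ofHom
    (MonoidAlgebra.mapDomainBialgHom R (AddMonoidHom.toMultiplicative φ))))).isMonHom_hom

instance isMonHom_DSmap (W : Scheme.{u}) (φ : N →+ M) : IsMonHom (Red.DSmap W φ) := by
  have := isMonHom_diagMap (ULift.{u} ℤ) φ
  exact inferInstanceAs (IsMonHom ((Over.pullback (Limits.IsTerminal.from specULiftZIsTerminal W)).map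
    (Red.diagMap (ULift.{u} ℤ) φ)))

/-- On points, functoriality of `D(-)` is composition of characters. -/
theorem dsPoint_DSmap {W : Scheme.{u}} {C : Type u} [CommRing C] (p : Spec (CommRingCat.of C) ⟶ W) (φ : N →+ M)
    (χ : Multiplicative M →* C) :
    dsPoint M p χ ≫ Red.DSmap W φ = dsPoint N p (χ.comp (AddMonoidHom.toMultiplicative φ)) := by
  refine (bcPoint_comp_right (Limits.IsTerminal.from specULiftZIsTerminal W) _ _).symm.trans
    (congrArg (bcPoint _ _ _) ?_)
  refine (Category.assoc _ _ _).trans (congrArg ((baseIso p).hom ≫ ·) ?_)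
  apply Over.OverMorphism.ext
  change Spec.map (CommRingCat.ofHom _) ≫ Spec.map (CommRingCat.ofHom _) = Spec.map (CommRingCat.ofHom _)
  rw [← Spec.map_comp, ← CommRingCat.ofHom_comp]
  congr 2
  refine MonoidAlgebra.ringHom_ext (fun r => ?_) fun m => ?_
  · simp [convEquiv, MonoidAlgebra.lift_single]
  · simp [convEquiv, MonoidAlgebra.lift_single]

/-- Morphisms out of a diagonalisable group agreeing on affine points are equal. -/
theorem ds_hom_ext {W : Scheme.{u}} {B : Over W} {a b : Red.DS W M ⟶ B}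
    (h : ∀ (C : Type u) [CommRing C] (p : Spec (CommRingCat.of C) ⟶ W) (χ : Multiplicative M →* C),
      dsPoint M p χ ≫ a = dsPoint M p χ ≫ b) : a = b := by
  apply Over.OverMorphism.ext
  refine Scheme.hom_ext_of_forall _ _ fun P => ?_
  obtain ⟨V, hV, hPV, -⟩ := exists_isAffineOpen_mem_and_subset (TopologicalSpace.Opens.mem_top P)
  refine ⟨V, hPV, ?_⟩
  let j : Over.mk (hV.fromSpec ≫ (Red.DS W M).hom) ⟶ Red.DS W M := Over.homMk hV.fromSpec rfl
  have h1 := h Γ((Red.DS W M).left, V) (hV.fromSpec ≫ (Red.DS W M).hom) ((dsPoint M _).symm j)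
  rw [MulEquiv.apply_symm_apply] at h1
  have h2 : hV.fromSpec ≫ a.left = hV.fromSpec ≫ b.left := congrArg (fun t => t.left) h1
  rw [← IsAffineOpen.isoSpec_hom_fromSpec hV, Category.assoc, Category.assoc, h2]

theorem hasChartsFpqc_of_chart {Q : ∀ (M : Type), AddCommGroup M → Prop} {W : Scheme.{u}} {G : Over W} [GrpObj G]
    (h : HasChart Q G (𝟙 W)) : HasChartsFpqc Q G := by
  refine ⟨W, 𝟙 W, inferInstance, inferInstance, fun V hV => ⟨V, hV.isCompact, ?_⟩, fun w =>
    ⟨⊤, trivial, h.precomp (⊤ : W.Opens).ι _ rfl⟩⟩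
  simp

theorem hasChartsFpqc_DS (W : Scheme.{u}) (Q : ∀ (M : Type), AddCommGroup M → Prop) (hM : Q M inferInstance) :
    HasChartsFpqc Q (Red.DS W M) :=
  hasChartsFpqc_of_chart ⟨M, inferInstance, hM, ⟨(bcGrpComp (Red.diag (ULift.{u} ℤ) M)
    (Limits.IsTerminal.from specULiftZIsTerminal W) (𝟙 W) (Limits.IsTerminal.from specULiftZIsTerminal W)
    (Category.id_comp _).symm).symm⟩⟩

/-- A quotient of homomorphisms into a commutative group is a homomorphism. -/
theorem isMonHom_mul_inv {W : Scheme.{u}} {A B : Over W} [GrpObj A] [GrpObj B]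
    (hB : ∀ (Y : Over W) (a b : Y ⟶ B), a * b = b * a) (v w : A ⟶ B) [IsMonHom v] [IsMonHom w] :
    IsMonHom (v * w⁻¹) := by
  apply GrothLib.GrpSchField.isMonHom_of_mul
  have h1 : ∀ (Y : Over W) (a b : Y ⟶ A), (a * b) ≫ (v * w⁻¹) = (a ≫ (v * w⁻¹)) * (b ≫ (v * w⁻¹)) := by
    intro Y a b
    letI : CommGroup (Y ⟶ B) := { (inferInstance : Group (Y ⟶ B)) with mul_comm := hB Y }
    simp only [MonObj.comp_mul, GrpObj.comp_inv, MonObj.mul_comp, _root_.mul_inv_rev]
    rw [_root_.mul_comm (b ≫ w)⁻¹, _root_.mul_mul_mul_comm]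
  generalize v * w⁻¹ = f at h1 ⊢
  have h2 := h1 _ (fst A A) (snd A A)
  rw [Hom.mul_def, lift_fst_snd, Category.id_comp, Hom.mul_def, ← lift_map] at h2
  rw [h2, lift_fst_snd, Category.id_comp]

/-- At a point, a homomorphism of diagonalisable groups comes from the characters. -/
theorem exists_char {W : Scheme.{u}} (v : Red.DS W M ⟶ Red.DS W N) [IsMonHom v] {L : Type u} [Field L]
    (m : Spec (CommRingCat.of L) ⟶ W) : ∃ φ : N →+ M, TrivOver (v * (Red.DSmap W φ)⁻¹) m := by
  classical
  let Φ : ∀ {C : Type u} [CommRing C] (p : Spec (CommRingCat.of C) ⟶ W),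
      (Multiplicative M →* C) → (Multiplicative N →* C) :=
    fun {C} _ p χ => (dsPoint N p).symm (dsPoint M p χ ≫ v)
  have hΦ : ∀ {C : Type u} [CommRing C] (p : Spec (CommRingCat.of C) ⟶ W) χ,
      dsPoint N p (Φ p χ) = dsPoint M p χ ≫ v := fun p χ => (dsPoint N p).apply_symm_apply _
  have hmul : ∀ {C : Type u} [CommRing C] (p : Spec (CommRingCat.of C) ⟶ W) χ χ',
      Φ p (χ * χ') = Φ p χ * Φ p χ' := fun p χ χ' => by
    apply (dsPoint N p).injective
    rw [map_mul, hΦ, hΦ, hΦ]
    exact (congrArg (· ≫ v) (map_mul (dsPoint M p) χ χ')).trans (MonObj.mul_comp _ _ v)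
  have hone : ∀ {C : Type u} [CommRing C] (p : Spec (CommRingCat.of C) ⟶ W), Φ p 1 = 1 := fun p => by
    apply (dsPoint N p).injective
    rw [hΦ, map_one (dsPoint N p)]
    exact (congrArg (· ≫ v) (map_one (dsPoint M p))).trans (MonObj.one_comp v)
  have hnat : ∀ {C C' : Type u} [CommRing C] [CommRing C'] (p : Spec (CommRingCat.of C) ⟶ W)
      (p' : Spec (CommRingCat.of C') ⟶ W) (h : C →+* C') χ (_ : Spec.map (CommRingCat.ofHom h) ≫ p = p'),
      Φ p' ((h : C →* C').comp χ) = (h : C →* C').comp (Φ p χ) := fun p p' h χ hp => by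
    apply (dsPoint N p').injective
    rw [hΦ, ← dsPoint_comp p p' h χ hp, ← dsPoint_comp p p' h _ hp, Category.assoc, hΦ]
  set D := MonoidAlgebra L (Multiplicative M)
  set base : ∀ (C : Type u) [CommRing C] [Algebra L C], Spec (CommRingCat.of C) ⟶ W :=
    fun C _ _ => Spec.map (CommRingCat.ofHom (algebraMap L C)) ≫ m with hbase
  set x := Φ (base D) (MonoidAlgebra.of L (Multiplicative M))
  have halg : ∀ {C : Type u} [CommRing C] [Algebra L C] (h : D →ₐ[L] C),
      Φ (base C) ((h : D →* C).comp (MonoidAlgebra.of L (Multiplicative M))) = (h : D →* C).comp x := by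
    intro C _ _ h
    refine hnat (base D) (base C) h.toRingHom _ ?_
    rw [hbase]
    change Spec.map (CommRingCat.ofHom h.toRingHom) ≫ Spec.map (CommRingCat.ofHom (algebraMap L D)) ≫ m = _
    rw [← Category.assoc, ← Spec.map_comp, ← CommRingCat.ofHom_comp]
    congr 3
    exact h.comp_algebraMap
  have hglk : ∀ n, IsGroupLikeElem L (x n) := by
    intro n
    constructor
    · have h1 := halg (Bialgebra.counitAlgHom L D)
      have h2 : ((Bialgebra.counitAlgHom L D : D →ₐ[L] L) : D →* L).comp (MonoidAlgebra.of L (Multiplicative M)) = 1 :=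
        MonoidHom.ext fun g => (MonoidAlgebra.isGroupLikeElem_of (R := L) (A := L) g).counit_eq_one
      rw [h2, hone] at h1
      exact (DFunLike.congr_fun h1 n).symm
    · let l : D →ₐ[L] D ⊗[L] D := Algebra.TensorProduct.includeLeft
      let r : D →ₐ[L] D ⊗[L] D := Algebra.TensorProduct.includeRight
      have h1 := halg (Bialgebra.comulAlgHom L D)
      have h2 : ((Bialgebra.comulAlgHom L D : D →ₐ[L] D ⊗[L] D) : D →* D ⊗[L] D).comp
          (MonoidAlgebra.of L (Multiplicative M)) =
          ((l : D →* D ⊗[L] D).comp (MonoidAlgebra.of L _)) * ((r : D →* D ⊗[L] D).comp (MonoidAlgebra.of L _)) :=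
        MonoidHom.ext fun g => by
          refine ((MonoidAlgebra.isGroupLikeElem_of (R := L) (A := L) g).comul_eq_tmul_self).trans ?_
          change _ = l (MonoidAlgebra.of L _ g) * r (MonoidAlgebra.of L _ g)
          simp [l, r, Algebra.TensorProduct.tmul_mul_tmul]
      rw [h2, hmul, halg, halg] at h1
      refine (DFunLike.congr_fun h1 n).symm.trans ?_
      change l (x n) * r (x n) = _
      simp [l, r, Algebra.TensorProduct.tmul_mul_tmul]
  choose gf hgf using fun n => MonoidAlgebra.isGroupLikeElem_iff_mem_range_of.mp (hglk n)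
  let g : Multiplicative N →* Multiplicative M :=
    MonoidHom.mk' gf fun a b => MonoidAlgebra.of_injective (R := L) (by rw [map_mul, hgf, hgf, hgf, map_mul])
  refine ⟨MonoidHom.toAdditive g, trivOver_of_affine _ _ fun C _ t p => ?_⟩
  let h : L →+* C := (Spec.preimage t).hom
  letI := h.toAlgebra
  have hb : base C = t ≫ m := by
    rw [hbase]
    change Spec.map (CommRingCat.ofHom h) ≫ m = t ≫ m
    rw [CommRingCat.ofHom_hom, Spec.map_preimage]
  obtain ⟨χ, rfl⟩ := (dsPoint M (t ≫ m)).surjective p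
  rw [MonObj.comp_mul, GrpObj.comp_inv, mul_inv_eq_one, dsPoint_DSmap, ← hΦ]
  congr 1
  have h3 := halg (MonoidAlgebra.lift L C (Multiplicative M) χ)
  have h4 : ((MonoidAlgebra.lift L C (Multiplicative M) χ : D →ₐ[L] C) : D →* C).comp
      (MonoidAlgebra.of L (Multiplicative M)) = χ := MonoidHom.ext fun k => MonoidAlgebra.lift_of _ _
  rw [h4, hb] at h3
  rw [h3]
  refine MonoidHom.ext fun n => ?_
  change (MonoidAlgebra.lift L C (Multiplicative M) χ) (x n) = χ (g n)
  rw [← hgf n, MonoidAlgebra.lift_of]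
  rfl

theorem pullback_map_eq {W W' : Scheme.{u}} {A B : Over W} [GrpObj A] [GrpObj B] (v w : A ⟶ B)
    [IsMonHom (v * w⁻¹)] (g : W' ⟶ W) (h : TrivOver (v * w⁻¹) g) :
    (Over.pullback g).map v = (Over.pullback g).map w := by
  have h1 := (trivOver_iff_pullback_eq_one (v * w⁻¹) g).mpr h
  conv_lhs => rw [← inv_mul_cancel_right v w]
  rw [Functor.map_mul, h1, _root_.one_mul]

/-- The points where a homomorphism of diagonalisable groups has the given characters. -/
theorem isClopen_charLocus {W : Scheme.{u}} (hN : AddGroup.FG N) (v : Red.DS W M ⟶ Red.DS W N) [IsMonHom v]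
    (φ : N →+ M) :
    ∃ U : W.Opens, IsClosed (U : Set W) ∧
      (∀ w : W, w ∈ U ↔ TrivOver (v * (Red.DSmap W φ)⁻¹) (W.fromSpecResidueField w)) ∧
      (Over.pullback U.ι).map v = (Over.pullback U.ι).map (Red.DSmap W φ) := by
  have hc := hasChartsFpqc_DS (M := N) W fgM hN
  have := isMonHom_mul_inv (mul_comm_of_charts hc) v (Red.DSmap W φ)
  have := isClosedImmersion_one_of_charts hc
  have : LocallyOfFinitePresentation η[Red.DS W N].left := by
    have := locallyOfFinitePresentation_diag.{u} N hN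
    have : LocallyOfFinitePresentation (Red.DS W N).hom :=
      inferInstanceAs (LocallyOfFinitePresentation (pullback.snd (Red.diag (ULift.{u} ℤ) N).hom _))
    refine lfp_of_comp_of_lft _ (Red.DS W N).hom ?_ inferInstance
    rw [Over.w η[Red.DS W N]]
    exact inferInstanceAs (LocallyOfFinitePresentation (𝟙 W))
  obtain ⟨U, hUc, hU, hUt⟩ := exists_clopen_trivial (v * (Red.DSmap W φ)⁻¹) (hasChartsFpqc_DS (M := M) W anyM trivial)
  exact ⟨U, hUc, fun w => (hU w).trans (trivOver_iff_pullback_eq_one _ _),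
    pullback_map_eq _ _ _ ((trivOver_iff_pullback_eq_one _ _).mp hUt)⟩

end GrothLib.DiagGrp
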