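import Groth.Agent.Lib.DiagGrp.FreeGraph
import Groth.Prelude.Def_SGA3x

/-!
Faithfully flat covers of affine opens of the base by diagonalisable charts.
-/

universe u

open CategoryTheory MonoidalCategory CartesianMonoidalCategory MonObj GrpObj AlgebraicGeometry
open CategoryTheory.Limits

namespace GrothLib.DiagGrp

variable {S : Scheme.{u}}

/-- A chart: over `f`, the group `G` is diagonalisable with character group satisfying `Q`. -/
def HasChart (Q : ∀ (M : Type), AddCommGroup M → Prop) (G : Over S) [GrpObj G] {W : Scheme.{u}} (f : W ⟶ S) : Prop :=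
  ∃ (M : Type) (inst : AddCommGroup M), Q M inst ∧ Nonempty (Grp.mk (Red.bc f G) ≅ Grp.mk (Red.DS W M))

theorem HasChart.precomp {Q : ∀ (M : Type), AddCommGroup M → Prop} {G : Over S} [GrpObj G] {W W' : Scheme.{u}}
    {f : W ⟶ S} (h : HasChart Q G f) (g : W' ⟶ W) (f' : W' ⟶ S) (hf' : f' = g ≫ f) : HasChart Q G f' := by
  obtain ⟨M, instM, hQ, ⟨e⟩⟩ := h
  let e1 : Grp.mk (Red.bc g (Red.bc f G)) ≅ Grp.mk (Red.bc g (Red.DS W M)) :=
    (Over.pullback g).mapGrp.mapIso e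
  have hterm : g ≫ Limits.IsTerminal.from specULiftZIsTerminal W =
      Limits.IsTerminal.from specULiftZIsTerminal W' := specULiftZIsTerminal.hom_ext _ _
  exact ⟨M, instM, hQ, ⟨(bcGrpComp G f g f' hf').trans (e1.trans
    (bcGrpComp (Red.diag (ULift.{u} ℤ) M) (Limits.IsTerminal.from specULiftZIsTerminal W) g
      (Limits.IsTerminal.from specULiftZIsTerminal W') hterm.symm).symm)⟩⟩

/-- `Q`-charts cover after an fpqc covering: the shared shape of `IsMultTypeFT` and `TwC.Locally`. -/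
def HasChartsFpqc (Q : ∀ (M : Type), AddCommGroup M → Prop) (G : Over S) [GrpObj G] : Prop :=
  ∃ (S' : Scheme.{u}) (π : S' ⟶ S), Flat π ∧ Surjective π ∧
    (∀ V : S.Opens, IsAffineOpen V → ∃ W : S'.Opens, IsCompact (W : Set S') ∧ π.base '' (W : Set S') = (V : Set S)) ∧
    ∀ s' : S', ∃ U : S'.Opens, s' ∈ U ∧ HasChart Q G (U.ι ≫ π)

/-- No condition on the character group. -/
abbrev anyM : ∀ (M : Type), AddCommGroup M → Prop := fun _ _ => True

/-- Finitely generated character group. -/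
abbrev fgM : ∀ (M : Type), AddCommGroup M → Prop := fun M inst => @AddGroup.FG M inst.toAddGroup

theorem hasChartsFpqc_of_locally {G : Over S} [GrpObj G]
    (hG : TwC.Locally S TwC.Topology.fpqc (fun S' f => ∃ (M : Type) (_ : AddCommGroup M),
      Nonempty (Grp.mk (Red.bc f G) ≅ Grp.mk (Red.DS S' M)))) : HasChartsFpqc anyM G := by
  obtain ⟨S', π, h1, h2, h3, h4⟩ := hG
  exact ⟨S', π, h1, h2, h3, fun s' => by
    obtain ⟨U, hU, M, inst, e⟩ := h4 s'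
    exact ⟨U, hU, M, inst, trivial, e⟩⟩

theorem hasChartsFpqc_of_isMultTypeFT {G : Over S} [GrpObj G] (hG : SGA3x.IsMultTypeFT G) :
    HasChartsFpqc fgM G := by
  obtain ⟨S', π, h1, h2, h3, h4⟩ := hG
  exact ⟨S', π, h1, h2, h3, fun s' => by
    obtain ⟨U, hU, M, inst, hM, e⟩ := h4 s'
    exact ⟨U, hU, M, inst, hM, e⟩⟩

theorem HasChartsFpqc.mono {Q Q' : ∀ (M : Type), AddCommGroup M → Prop} {G : Over S} [GrpObj G]
    (h : HasChartsFpqc Q G) (hQ : ∀ M inst, Q M inst → Q' M inst) : HasChartsFpqc Q' G := by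
  obtain ⟨S', π, h1, h2, h3, h4⟩ := h
  exact ⟨S', π, h1, h2, h3, fun s' => by
    obtain ⟨U, hU, M, inst, hM, e⟩ := h4 s'
    exact ⟨U, hU, M, inst, hQ M inst hM, e⟩⟩

/-- A faithfully flat quasi-compact cover of an affine open, Zariski-locally with property `P`. -/
def CoverBy (P : ∀ (W : Scheme.{u}), (W ⟶ S) → Prop) (V : S.Opens) : Prop :=
  ∃ (W : Scheme.{u}) (q : W ⟶ (V : Scheme.{u})), Flat q ∧ Surjective q ∧ QuasiCompact q ∧
    ∀ w : W, ∃ R : W.Opens, w ∈ R ∧ IsAffineOpen R ∧ P R (R.ι ≫ q ≫ V.ι)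

theorem HasChartsFpqc.coverBy {Q : ∀ (M : Type), AddCommGroup M → Prop} {G : Over S} [GrpObj G]
    (hG : HasChartsFpqc Q G) (V : S.Opens) (hV : IsAffineOpen V) :
    CoverBy (fun _ f => HasChart Q G f) V := by
  obtain ⟨S', π, hflat, -, hqc, hloc⟩ := hG
  haveI := hflat
  obtain ⟨W, hWc, hWim⟩ := hqc V hV
  have hr : Set.range (W.ι ≫ π).base ⊆ Set.range V.ι.base := by
    rintro _ ⟨z, rfl⟩
    rw [V.range_ι, ← hWim]
    exact ⟨W.ι.base z, by rw [← W.range_ι]; exact ⟨z, rfl⟩, rfl⟩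
  set q : (W : Scheme.{u}) ⟶ (V : Scheme.{u}) := IsOpenImmersion.lift V.ι (W.ι ≫ π) hr
  have hq : q ≫ V.ι = W.ι ≫ π := IsOpenImmersion.lift_fac _ _ _
  haveI : IsAffine (V : Scheme.{u}) := hV
  haveI : Flat q := by
    have : Flat (q ≫ V.ι) := by rw [hq]; infer_instance
    exact MorphismProperty.of_postcomp @Flat (W' := @IsOpenImmersion) q V.ι inferInstance this
  haveI : CompactSpace (W : Scheme.{u}) := isCompact_iff_compactSpace.mp hWc
  haveI : QuasiCompact q := (quasiCompact_iff_compactSpace q).mpr inferInstance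
  refine ⟨_, q, inferInstance, ⟨fun v => ?_⟩, inferInstance, fun w => ?_⟩
  · have hv : V.ι.base v ∈ π.base '' (W : Set S') := by
      rw [hWim, ← V.range_ι]; exact ⟨v, rfl⟩
    obtain ⟨w, hw, hwv⟩ := hv
    refine ⟨⟨w, hw⟩, V.ι.injective ?_⟩
    rw [← Scheme.Hom.comp_apply, hq, Scheme.Hom.comp_apply]
    exact hwv
  · obtain ⟨U, hwU, hch⟩ := hloc (W.ι.base w)
    obtain ⟨R, hR, hwR, hRU⟩ := exists_isAffineOpen_mem_and_subset (show w ∈ W.ι ⁻¹ᵁ U from hwU)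
    refine ⟨R, hwR, hR, ?_⟩
    have hr' : Set.range (R.ι ≫ W.ι).base ⊆ Set.range U.ι.base := by
      rintro _ ⟨z, rfl⟩
      rw [U.range_ι]
      exact hRU (show R.ι.base z ∈ (R : Set (W : Scheme.{u})) by rw [← R.range_ι]; exact ⟨z, rfl⟩)
    refine hch.precomp (IsOpenImmersion.lift U.ι (R.ι ≫ W.ι) hr') _ ?_
    rw [hq, ← Category.assoc (IsOpenImmersion.lift U.ι (R.ι ≫ W.ι) hr'), IsOpenImmersion.lift_fac, Category.assoc]

/-- Two covers have a common refinement. -/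
theorem CoverBy.inter {P₁ P₂ : ∀ (W : Scheme.{u}), (W ⟶ S) → Prop} {V : S.Opens}
    (h₁ : CoverBy P₁ V) (h₂ : CoverBy P₂ V)
    (hP₁ : ∀ {W W' : Scheme.{u}} (f : W ⟶ S) (g : W' ⟶ W) (f' : W' ⟶ S), f' = g ≫ f → P₁ W f → P₁ W' f')
    (hP₂ : ∀ {W W' : Scheme.{u}} (f : W ⟶ S) (g : W' ⟶ W) (f' : W' ⟶ S), f' = g ≫ f → P₂ W f → P₂ W' f') :
    CoverBy (fun W f => P₁ W f ∧ P₂ W f) V := by
  obtain ⟨W₁, q₁, _, _, _, h1⟩ := h₁
  obtain ⟨W₂, q₂, _, _, _, h2⟩ := h₂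
  refine ⟨pullback q₁ q₂, pullback.fst q₁ q₂ ≫ q₁, inferInstance, inferInstance, inferInstance, fun w => ?_⟩
  obtain ⟨R₁, hw₁, -, hc₁⟩ := h1 ((pullback.fst q₁ q₂).base w)
  obtain ⟨R₂, hw₂, -, hc₂⟩ := h2 ((pullback.snd q₁ q₂).base w)
  obtain ⟨R, hR, hwR, hRsub⟩ := exists_isAffineOpen_mem_and_subset
    (show w ∈ (pullback.fst q₁ q₂) ⁻¹ᵁ R₁ ⊓ (pullback.snd q₁ q₂) ⁻¹ᵁ R₂ from ⟨hw₁, hw₂⟩)
  refine ⟨R, hwR, hR, ?_, ?_⟩
  · have hr : Set.range (R.ι ≫ pullback.fst q₁ q₂).base ⊆ Set.range R₁.ι.base := by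
      rintro _ ⟨z, rfl⟩
      rw [R₁.range_ι]
      exact (hRsub (show R.ι.base z ∈ (R : Set _) by rw [← R.range_ι]; exact ⟨z, rfl⟩)).1
    refine hP₁ _ (IsOpenImmersion.lift R₁.ι _ hr) _ ?_ hc₁
    rw [← Category.assoc (IsOpenImmersion.lift R₁.ι _ hr), IsOpenImmersion.lift_fac, Category.assoc, Category.assoc]
  · have hr : Set.range (R.ι ≫ pullback.snd q₁ q₂).base ⊆ Set.range R₂.ι.base := by
      rintro _ ⟨z, rfl⟩
      rw [R₂.range_ι]
      exact (hRsub (show R.ι.base z ∈ (R : Set _) by rw [← R.range_ι]; exact ⟨z, rfl⟩)).2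
    refine hP₂ _ (IsOpenImmersion.lift R₂.ι _ hr) _ ?_ hc₂
    rw [← Category.assoc (IsOpenImmersion.lift R₂.ι _ hr), IsOpenImmersion.lift_fac, Category.assoc, Category.assoc,
      ← pullback.condition_assoc]

/-- A set which is clopen on every chart is clopen. -/
theorem isClopen_of_coverBy {P : ∀ (W : Scheme.{u}), (W ⟶ S) → Prop}
    (hcov : ∀ V : S.Opens, IsAffineOpen V → CoverBy P V) (U : Set S)
    (h : ∀ {W : Scheme.{u}} [IsAffine W] (f : W ⟶ S), P W f → IsClopen (f.base ⁻¹' U)) : IsClopen U := by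
  have main : ∀ (V : S.Opens), IsAffineOpen V → IsClopen (V.ι.base ⁻¹' U) := by
    intro V hV
    obtain ⟨W, q, _, _, _, hR⟩ := hcov V hV
    have hW : IsClopen (q.base ⁻¹' (V.ι.base ⁻¹' U)) := by
      have hloc : ∀ T : Set S, (∀ {W : Scheme.{u}} [IsAffine W] (f : W ⟶ S), P W f → IsOpen (f.base ⁻¹' T)) →
          IsOpen (q.base ⁻¹' (V.ι.base ⁻¹' T)) := by
        intro T hT
        rw [isOpen_iff_forall_mem_open]
        intro w hw
        obtain ⟨R, hwR, hRa, hPR⟩ := hR w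
        haveI : IsAffine (R : Scheme.{u}) := hRa
        refine ⟨R.ι.base '' ((R.ι ≫ q ≫ V.ι).base ⁻¹' T), ?_, R.ι.isOpenEmbedding.isOpenMap _ (hT _ hPR), ?_⟩
        · rintro _ ⟨z, hz, rfl⟩
          exact hz
        · exact ⟨⟨w, hwR⟩, hw, rfl⟩
      exact ⟨⟨hloc Uᶜ fun f hf => (h f hf).1.isOpen_compl⟩, hloc U fun f hf => (h f hf).2⟩
    have hq := Flat.isQuotientMap_of_surjective q
    exact ⟨hq.isClosed_preimage.mp hW.1, hq.isOpen_preimage.mp hW.2⟩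
  have hopen : ∀ T : Set S, (∀ V : S.Opens, IsAffineOpen V → IsOpen (V.ι.base ⁻¹' T)) → IsOpen T := by
    intro T hT
    rw [isOpen_iff_forall_mem_open]
    intro s hs
    obtain ⟨V, hV, hsV, -⟩ := exists_isAffineOpen_mem_and_subset (TopologicalSpace.Opens.mem_top s)
    exact ⟨V.ι.base '' (V.ι.base ⁻¹' T), Set.image_preimage_subset _ _, V.ι.isOpenEmbedding.isOpenMap _ (hT V hV),
      ⟨⟨s, hsV⟩, hs, rfl⟩⟩
  exact ⟨⟨hopen Uᶜ fun V hV => (main V hV).1.isOpen_compl⟩, hopen U fun V hV => (main V hV).2⟩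

end GrothLib.DiagGrp
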