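import Groth.Agent.Lib.DiagGrp.FlatSubgroup
import Groth.Agent.Lib.DiagGrp.SubgroupEq
import Groth.Agent.Lib.DiagGrp.CharHom
import Groth.Agent.Lib.DiagGrp.KernelFP
import Groth.Agent.Lib.DiagGrp.ChartCover
import Groth.Agent.Lib.DiagGrp.MultTypeFT

/-!
A flat closed subgroup scheme, locally of finite presentation, of a diagonalisable group is locally diagonalisable.
-/

universe u


open CategoryTheory MonoidalCategory CartesianMonoidalCategory MonObj GrpObj AlgebraicGeometry
open CategoryTheory.Limits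

namespace GrothLib.DiagGrp

set_option backward.isDefEq.respectTransparency false in
theorem isAffineHom_DS (W : Scheme.{u}) (M : Type) [AddCommGroup M] : IsAffineHom (Red.DS W M).hom := by
  haveI : IsAffine (Red.diag (ULift.{u} ℤ) M).left :=
    inferInstanceAs (IsAffine (Spec (CommRingCat.of (MonoidAlgebra (ULift.{u} ℤ) (Multiplicative M)))))
  haveI : IsAffineHom (Red.diag (ULift.{u} ℤ) M).hom := isAffineHom_of_isAffine _
  exact MorphismProperty.pullback_snd (P := @IsAffineHom) _ _ ‹IsAffineHom (Red.diag (ULift.{u} ℤ) M).hom›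

section Universal

variable (R : Type u) [CommRing R] (M : Type) [AddCommGroup M]

/-- The structure map of the group algebra. -/
noncomputable abbrev algPt : Spec (CommRingCat.of (MonoidAlgebra R (Multiplicative M))) ⟶ Spec (CommRingCat.of R) :=
  Spec.map (CommRingCat.ofHom (algebraMap R (MonoidAlgebra R (Multiplicative M))))

theorem evalHom_comp_algebraMap {C : Type u} [CommRing C] (σ : R →+* C) (χ : Multiplicative M →* C) :
    (evalHom σ χ).comp (algebraMap R (MonoidAlgebra R (Multiplicative M))) = σ := by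
  ext r
  simp [evalHom, MonoidAlgebra.liftNCRingHom_single]

theorem evalHom_comp_of {C : Type u} [CommRing C] (σ : R →+* C) (χ : Multiplicative M →* C) :
    ((evalHom σ χ : MonoidAlgebra R (Multiplicative M) →+* C) : _ →* C).comp (MonoidAlgebra.of R _) = χ :=
  MonoidHom.ext fun m => by simp [evalHom, MonoidAlgebra.liftNCRingHom_single]

/-- The point attached to a character factors through the universal one. -/
theorem dsPoint_left_eq {C : Type u} [CommRing C] (σ : R →+* C) (χ : Multiplicative M →* C) :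
    (dsPoint M (Spec.map (CommRingCat.ofHom σ)) χ).left =
      Spec.map (CommRingCat.ofHom (evalHom σ χ)) ≫ (dsPoint M (algPt R M) (MonoidAlgebra.of R _)).left := by
  have hp : Spec.map (CommRingCat.ofHom (evalHom σ χ)) ≫ algPt R M = Spec.map (CommRingCat.ofHom σ) := by
    rw [← Spec.map_comp, ← CommRingCat.ofHom_comp, evalHom_comp_algebraMap]
  have h := dsPoint_comp (algPt R M) _ (evalHom σ χ) (MonoidAlgebra.of R (Multiplicative M)) hp
  rw [evalHom_comp_of] at h
  exact (congrArg (fun t => t.left) h).symm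

/-- `D(M)` over an affine base is the spectrum of the group algebra. -/
theorem isIso_univ : IsIso (dsPoint M (algPt R M) (MonoidAlgebra.of R (Multiplicative M))).left := by
  set D := Red.DS (Spec (CommRingCat.of R)) M
  set u := dsPoint M (algPt R M) (MonoidAlgebra.of R (Multiplicative M))
  haveI : IsAffineHom D.hom := isAffineHom_DS _ M
  haveI : IsAffine D.left := isAffine_of_isAffineHom D.hom
  let p : Spec (CommRingCat.of Γ(D.left, ⊤)) ⟶ Spec (CommRingCat.of R) := D.left.isoSpec.inv ≫ D.hom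
  let j : Over.mk p ⟶ D := Over.homMk D.left.isoSpec.inv rfl
  obtain ⟨χ, hχ⟩ := (dsPoint M p).surjective j
  set σ := (Spec.preimage p).hom
  have hp : Spec.map (CommRingCat.ofHom σ) = p := Spec.map_preimage p
  have key : ∀ (q : Spec (CommRingCat.of Γ(D.left, ⊤)) ⟶ Spec (CommRingCat.of R)),
      Spec.map (CommRingCat.ofHom σ) = q → (dsPoint M q χ).left =
        Spec.map (CommRingCat.ofHom (evalHom σ χ)) ≫ u.left := by
    rintro _ rfl
    exact dsPoint_left_eq R M σ χ
  set g := Spec.map (CommRingCat.ofHom (evalHom σ χ))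
  have h1 : g ≫ u.left = D.left.isoSpec.inv := by rw [← key p hp, hχ]; rfl
  refine ⟨D.left.isoSpec.hom ≫ g, ?_, by rw [Category.assoc, h1, Iso.hom_inv_id]⟩
  let φ := (Spec.preimage ((u.left ≫ D.left.isoSpec.hom) ≫ g)).hom
  have hφ : Spec.map (CommRingCat.ofHom φ) = (u.left ≫ D.left.isoSpec.hom) ≫ g := Spec.map_preimage _
  have hφu : Spec.map (CommRingCat.ofHom φ) ≫ u.left = u.left := by
    rw [hφ, Category.assoc, h1, Category.assoc, Iso.hom_inv_id, Category.comp_id]
  have hφp : Spec.map (CommRingCat.ofHom φ) ≫ algPt R M = algPt R M := by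
    rw [show algPt R M = u.left ≫ D.hom from (Over.w u).symm, ← Category.assoc, hφu]
  have h3 := dsPoint_comp (algPt R M) (algPt R M) φ (MonoidAlgebra.of R (Multiplicative M)) hφp
  have h4 : (φ : _ →* MonoidAlgebra R (Multiplicative M)).comp (MonoidAlgebra.of R _) = MonoidAlgebra.of R _ :=
    (dsPoint M (algPt R M)).injective (h3.symm.trans (Over.OverMorphism.ext hφu))
  have h5 : φ.comp (algebraMap R _) = algebraMap R _ := by
    have := hφp
    rw [algPt, ← Spec.map_comp, ← CommRingCat.ofHom_comp] at this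
    exact congrArg CommRingCat.Hom.hom (Spec.map_injective this)
  have hid : φ = RingHom.id _ := MonoidAlgebra.ringHom_ext (fun r => RingHom.congr_fun h5 r)
    (fun m => DFunLike.congr_fun h4 m)
  rw [← Category.assoc, ← hφ, hid, CommRingCat.ofHom_id, Spec.map_id]
  rfl

/-- Restriction of characters along a surjection is a monomorphism. -/
theorem mono_DSmap {W : Scheme.{u}} {N : Type} [AddCommGroup N] (φ : N →+ M) (hφ : Function.Surjective φ) :
    Mono (Red.DSmap W φ) := by
  constructor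
  intro Y a b h
  apply Over.OverMorphism.ext
  refine Scheme.hom_ext_of_forall _ _ fun P => ?_
  obtain ⟨V, hV, hPV, -⟩ := exists_isAffineOpen_mem_and_subset (TopologicalSpace.Opens.mem_top P)
  refine ⟨V, hPV, ?_⟩
  let j : Over.mk (hV.fromSpec ≫ Y.hom) ⟶ Y := Over.homMk hV.fromSpec rfl
  obtain ⟨χa, hχa⟩ := (dsPoint M _).surjective (j ≫ a)
  obtain ⟨χb, hχb⟩ := (dsPoint M _).surjective (j ≫ b)
  have h1 : dsPoint M (hV.fromSpec ≫ Y.hom) χa ≫ Red.DSmap W φ = dsPoint M (hV.fromSpec ≫ Y.hom) χb ≫ Red.DSmap W φ := by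
    rw [hχa, hχb, Category.assoc, Category.assoc, h]
  rw [dsPoint_DSmap, dsPoint_DSmap] at h1
  have h2 := (dsPoint N _).injective h1
  have h3 : χa = χb := MonoidHom.ext fun m => by
    obtain ⟨n, hn⟩ := hφ m.toAdd
    simpa [hn] using DFunLike.congr_fun h2 (Multiplicative.ofAdd n)
  have h2 : hV.fromSpec ≫ a.left = hV.fromSpec ≫ b.left :=
    congrArg (fun t => t.left) (hχa.symm.trans (h3 ▸ hχb))
  rw [← IsAffineOpen.isoSpec_hom_fromSpec hV, Category.assoc, Category.assoc, h2]

end Universal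

/-- To factor a subgroup affine over an affine base it suffices to factor its affine points. -/
theorem factor_of_affine {S : Scheme.{u}} {H H' G : Over S} (i : H ⟶ G) (i' : H' ⟶ G) {Z : Scheme.{u}} (z : Z ⟶ S)
    [IsAffine Z] [IsAffineHom H.hom]
    (h : ∀ (C : Type u) [CommRing C] (p : Spec (CommRingCat.of C) ⟶ Z) (g : Over.mk (p ≫ z) ⟶ H),
      ∃ y : Over.mk (p ≫ z) ⟶ H', y ≫ i' = g ≫ i) : Factor i i' z := by
  rw [factor_iff_exists]
  haveI : IsAffine (Red.bc z H).left := inferInstanceAs (IsAffine (pullback H.hom z))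
  set B := Red.bc z H
  let p : Spec (CommRingCat.of Γ(B.left, ⊤)) ⟶ Z := B.left.isoSpec.inv ≫ B.hom
  let a : (Over.map z).obj B ≅ Over.mk (p ≫ z) := Over.isoMk B.left.isoSpec (by
    change B.left.isoSpec.hom ≫ (B.left.isoSpec.inv ≫ B.hom) ≫ z = B.hom ≫ z
    simp)
  obtain ⟨y, hy⟩ := h _ p (a.inv ≫ (bcPoint z H B).symm (𝟙 _))
  refine ⟨bcPoint z H' B (a.hom ≫ y), ?_⟩
  rw [← bcPoint_comp_right, Category.assoc, hy, ← Category.assoc, Iso.hom_inv_id_assoc,
    bcPoint_comp_right, Equiv.apply_symm_apply, Category.id_comp]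

variable {R : Type u} [CommRing R] {M : Type} [AddCommGroup M]

/-- A flat closed subgroup of `D(M)` over an affine base is, near every prime, `D(M/Γ)`. -/
theorem exists_factor_of_flat {H : Over (Spec (CommRingCat.of R))} [GrpObj H]
    (u : H ⟶ Red.DS (Spec (CommRingCat.of R)) M) [IsMonHom u] (hu : IsClosedImmersion u.left)
    (hfl : Flat H.hom) (hfp : LocallyOfFinitePresentation H.hom) (hM : AddGroup.FG M) (p₀ : PrimeSpectrum R) :
    ∃ f : R, f ∉ p₀.asIdeal ∧ ∃ Γ₀ : AddSubgroup M, ∀ (R' : Type u) [CommRing R'] (σ₀ : R →+* R'), IsUnit (σ₀ f) →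
      Factor u (Red.DSmap (Spec (CommRingCat.of R)) (QuotientAddGroup.mk' Γ₀)) (Spec.map (CommRingCat.ofHom σ₀)) ∧
      Factor (Red.DSmap (Spec (CommRingCat.of R)) (QuotientAddGroup.mk' Γ₀)) u (Spec.map (CommRingCat.ofHom σ₀)) := by
  haveI : Monoid.FG (Multiplicative M) :=
    AddMonoid.fg_iff_mul_fg.mp (AddGroup.fg_iff_addMonoid_fg.mp hM)
  haveI : Group.FG (Multiplicative M) := Group.fg_iff_monoid_fg.mpr ‹_›
  set v := dsPoint M (algPt R M) (MonoidAlgebra.of R (Multiplicative M))
  haveI := isIso_univ R M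
  set k := u.left ≫ inv v.left
  haveI hclosed : IsClosedImmersion k := inferInstance
  obtain ⟨I, ec, hec⟩ := IsClosedImmersion.Spec_iff.mp hclosed
  have hkp : k ≫ algPt R M = H.hom := by
    rw [show algPt R M = v.left ≫ (Red.DS (Spec (CommRingCat.of R)) M).hom from (Over.w v).symm, Category.assoc,
      IsIso.inv_hom_id_assoc, Over.w u]
  have hfg : I.FG := by
    haveI : LocallyOfFiniteType (algPt R M) := by
      rw [HasRingHomProperty.Spec_iff (P := @LocallyOfFiniteType), CommRingCat.hom_ofHom,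
        RingHom.finiteType_algebraMap]
      exact MonoidAlgebra.finiteType_of_fg
    have h1 : LocallyOfFinitePresentation k := lfp_of_comp_of_lft k (algPt R M) (by rw [hkp]; exact hfp) inferInstance
    rw [hec, MorphismProperty.cancel_left_of_respectsIso @LocallyOfFinitePresentation,
      HasRingHomProperty.Spec_iff (P := @LocallyOfFinitePresentation), CommRingCat.hom_ofHom] at h1
    have : Algebra.FinitePresentation (MonoidAlgebra R (Multiplicative M))
        (MonoidAlgebra R (Multiplicative M) ⧸ I) := RingHom.finitePresentation_algebraMap.mp h1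
    simpa using Algebra.FinitePresentation.ker_fG_of_surjective
      (Ideal.Quotient.mkₐ (MonoidAlgebra R (Multiplicative M)) I) Ideal.Quotient.mk_surjective
  haveI : Module.Flat R (MonoidAlgebra R (Multiplicative M) ⧸ I) := by
    have h1 : Flat (k ≫ algPt R M) := by rw [hkp]; exact hfl
    rw [hec, Category.assoc, MorphismProperty.cancel_left_of_respectsIso @Flat, algPt, ← Spec.map_comp,
      Flat.SpecMap_iff] at h1
    rw [← RingHom.flat_algebraMap_iff]
    exact h1
  have hI : ∀ (C : Type u) [CommRing C] (σ : R →+* C) (χ : Multiplicative M →* C),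
      Kills I σ χ ↔ ∃ y : Over.mk (Spec.map (CommRingCat.ofHom σ)) ⟶ H,
        y ≫ u = dsPoint M (Spec.map (CommRingCat.ofHom σ)) χ := by
    intro C _ σ χ
    constructor
    · intro h
      let a := Spec.map (CommRingCat.ofHom (Ideal.Quotient.lift I (evalHom σ χ) h)) ≫ ec.inv
      have ha : a ≫ k = Spec.map (CommRingCat.ofHom (evalHom σ χ)) := by
        rw [hec, Category.assoc, Iso.inv_hom_id_assoc, ← Spec.map_comp, ← CommRingCat.ofHom_comp,
          Ideal.Quotient.lift_comp_mk]
      refine ⟨Over.homMk a ?_, Over.OverMorphism.ext ?_⟩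
      · change a ≫ H.hom = Spec.map (CommRingCat.ofHom σ)
        rw [← hkp, ← Category.assoc, ha, algPt, ← Spec.map_comp, ← CommRingCat.ofHom_comp, evalHom_comp_algebraMap]
      · have hku : k ≫ v.left = u.left := by simp only [k, Category.assoc, IsIso.inv_hom_id, Category.comp_id]
        refine Eq.trans ?_ (dsPoint_left_eq R M σ χ).symm
        change a ≫ u.left = _
        rw [← hku, ← Category.assoc, ha]
    · rintro ⟨y, hy⟩ x hx
      have h1 : y.left ≫ k = Spec.map (CommRingCat.ofHom (evalHom σ χ)) := by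
        have hku : k ≫ v.left = u.left := by simp only [k, Category.assoc, IsIso.inv_hom_id, Category.comp_id]
        rw [← cancel_mono v.left, Category.assoc, hku]
        exact (congrArg (fun t => t.left) hy).trans (dsPoint_left_eq R M σ χ)
      rw [hec, ← Category.assoc, ← Spec.map_preimage (y.left ≫ ec.hom), ← Spec.map_comp] at h1
      refine (RingHom.congr_fun (congrArg CommRingCat.Hom.hom (Spec.map_injective h1)) x).symm.trans ?_
      change (Spec.preimage (y.left ≫ ec.hom)).hom (Ideal.Quotient.mk I x) = 0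
      rw [Ideal.Quotient.eq_zero_iff_mem.mpr hx, map_zero]
  have hsub : IsSubgrpIdeal I :=
    { one := fun C _ σ => (hI C σ 1).mpr ⟨1, (MonObj.one_comp u).trans (map_one _).symm⟩
      mul := fun C _ σ χ χ' h h' => by
        obtain ⟨y, hy⟩ := (hI C σ χ).mp h
        obtain ⟨y', hy'⟩ := (hI C σ χ').mp h'
        exact (hI C σ _).mpr ⟨y * y', (MonObj.mul_comp y y' u).trans (by rw [hy, hy', map_mul])⟩ }
  obtain ⟨f, hf, Γ, hΓ⟩ := exists_flat_subgroup_eq I hsub hfg p₀
  set Γ₀ := Subgroup.toAddSubgroup' Γ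
  refine ⟨f, hf, Γ₀, fun R' _ σ₀ hσ₀ => ?_⟩
  set q := Red.DSmap (Spec (CommRingCat.of R)) (QuotientAddGroup.mk' Γ₀)
  haveI : IsAffineHom H.hom := by
    rw [← Over.w u]
    haveI := isAffineHom_DS (Spec (CommRingCat.of R)) M
    infer_instance
  haveI := isAffineHom_DS (Spec (CommRingCat.of R)) (M ⧸ Γ₀)
  have hbase : ∀ {C : Type u} [CommRing C] (p : Spec (CommRingCat.of C) ⟶ Spec (CommRingCat.of R')),
      p ≫ Spec.map (CommRingCat.ofHom σ₀) = Spec.map (CommRingCat.ofHom ((Spec.preimage p).hom.comp σ₀)) := fun p => by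
    rw [CommRingCat.ofHom_comp, Spec.map_comp]
    congr 1
    exact (Spec.map_preimage p).symm
  constructor
  · refine factor_of_affine _ _ _ fun C _ p g => ?_
    have hu' : IsUnit (((Spec.preimage p).hom.comp σ₀) f) := hσ₀.map (Spec.preimage p).hom
    have key : ∀ (p' : Spec (CommRingCat.of C) ⟶ Spec (CommRingCat.of R)),
        p' = Spec.map (CommRingCat.ofHom ((Spec.preimage p).hom.comp σ₀)) → ∀ g : Over.mk p' ⟶ H,
        ∃ y : Over.mk p' ⟶ Red.DS (Spec (CommRingCat.of R)) (M ⧸ Γ₀), y ≫ q = g ≫ u := by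
      rintro _ rfl g
      obtain ⟨χ, hχ⟩ := (dsPoint M _).surjective (g ≫ u)
      have h1 := (hΓ C _ χ hu').mp ((hI C _ χ).mpr ⟨g, hχ.symm⟩)
      let χ' : Multiplicative (M ⧸ Γ₀) →* C := AddMonoidHom.toMultiplicativeLeft
        (QuotientAddGroup.lift Γ₀ (MonoidHom.toAdditiveRight χ) fun m hm =>
          congrArg Additive.ofMul (h1 (Multiplicative.ofAdd m) hm))
      refine ⟨dsPoint (M ⧸ Γ₀) _ χ', ?_⟩
      rw [dsPoint_DSmap, ← hχ]
      exact congrArg _ (MonoidHom.ext fun m => rfl)
    exact key _ (hbase p) g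
  · refine factor_of_affine _ _ _ fun C _ p g => ?_
    have hu' : IsUnit (((Spec.preimage p).hom.comp σ₀) f) := hσ₀.map (Spec.preimage p).hom
    have key : ∀ (p' : Spec (CommRingCat.of C) ⟶ Spec (CommRingCat.of R)),
        p' = Spec.map (CommRingCat.ofHom ((Spec.preimage p).hom.comp σ₀)) →
        ∀ g : Over.mk p' ⟶ Red.DS (Spec (CommRingCat.of R)) (M ⧸ Γ₀), ∃ y : Over.mk p' ⟶ H, y ≫ u = g ≫ q := by
      rintro _ rfl g
      obtain ⟨χ, hχ⟩ := (dsPoint (M ⧸ Γ₀) _).surjective g
      rw [← hχ, dsPoint_DSmap]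
      refine (hI C _ _).mp ((hΓ C _ _ hu').mpr fun γ hγ => ?_)
      change χ (Multiplicative.ofAdd (QuotientAddGroup.mk' Γ₀ γ.toAdd)) = 1
      rw [show QuotientAddGroup.mk' Γ₀ γ.toAdd = 0 from (QuotientAddGroup.eq_zero_iff _).mpr hγ]
      exact map_one χ
    exact key _ (hbase p) g

/-- A flat closed subgroup scheme, locally of finite presentation, of a group of multiplicative type and of
finite type is of multiplicative type. -/
theorem isMultTypeFT_of_flat_closed {S : Scheme.{u}} (H H' : Over S) [GrpObj H] [GrpObj H']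
    (hH' : SGA3x.IsMultTypeFT H') (i : H ⟶ H') [IsMonHom i] (hi : IsClosedImmersion i.left)
    (hfl : Flat H.hom) (hfp : LocallyOfFinitePresentation H.hom) : SGA3x.IsMultTypeFT H := by
  obtain ⟨S', π, hflat, hsurj, hqc, hloc⟩ := hH'
  refine ⟨S', π, hflat, hsurj, hqc, fun s' => ?_⟩
  obtain ⟨U, hsU, M, inst, hM, he⟩ := hloc s'
  obtain ⟨V, hV, hsV, hVU⟩ := exists_isAffineOpen_mem_and_subset hsU
  let R := Γ(S', V)
  let f : Spec R ⟶ S := hV.fromSpec ≫ π
  have hchart : HasChart fgM H' (U.ι ≫ π) := ⟨M, inst, hM, he⟩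
  have hr : Set.range hV.fromSpec ⊆ Set.range U.ι := by
    rw [IsAffineOpen.range_fromSpec, Scheme.Opens.range_ι]
    exact hVU
  obtain ⟨M, inst, hM, ⟨e⟩⟩ := hchart.precomp (IsOpenImmersion.lift U.ι hV.fromSpec hr) f
    (by rw [← Category.assoc, IsOpenImmersion.lift_fac])
  let u : Red.bc f H ⟶ Red.DS (Spec (CommRingCat.of R)) M := (Over.pullback f).map i ≫ e.hom.hom.hom
  haveI : IsMonHom e.hom.hom.hom := e.hom.hom.isMonHom_hom
  haveI : IsMonHom u := inferInstance
  haveI := hi
  haveI hpl : IsClosedImmersion ((Over.pullback f).map i).left :=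
    (MorphismProperty.baseChange_map (P := @IsClosedImmersion) f i hi)
  have hu : IsClosedImmersion u.left := by
    haveI : IsIso e.hom.hom.hom := inferInstanceAs (IsIso ((Grp.forget _).mapIso e).hom)
    haveI : IsIso e.hom.hom.hom.left := inferInstanceAs (IsIso ((Over.forget _).map e.hom.hom.hom))
    exact inferInstanceAs (IsClosedImmersion (((Over.pullback f).map i).left ≫ e.hom.hom.hom.left))
  haveI := hfl
  haveI := hfp
  obtain ⟨g, hg, Γ₀, hΓ⟩ := exists_factor_of_flat u hu
    (inferInstanceAs (Flat (pullback.snd H.hom f))) (inferInstanceAs (LocallyOfFinitePresentation (pullback.snd H.hom f)))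
    hM (hV.primeIdealOf ⟨s', hsV⟩)
  let V' := S'.basicOpen g
  have hV'V : V' ≤ V := S'.basicOpen_le g
  have hV' : IsAffineOpen V' := hV.basicOpen g
  have hsV' : s' ∈ V' := by
    have h2 : hV.primeIdealOf ⟨s', hsV⟩ ∈ hV.fromSpec ⁻¹ᵁ S'.basicOpen g := by
      rw [hV.fromSpec_preimage_basicOpen]
      exact hg
    have h3 : hV.fromSpec.base (hV.primeIdealOf ⟨s', hsV⟩) ∈ S'.basicOpen g := h2
    rwa [hV.fromSpec_primeIdealOf] at h3
  let σ₀ := (S'.presheaf.map (homOfLE hV'V).op).hom
  have hσ₀ : IsUnit (σ₀ g) := by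
    have := RingedSpace.isUnit_res_basicOpen S'.toRingedSpace g
    exact this
  obtain ⟨h1, h2⟩ := hΓ Γ(S', V') σ₀ hσ₀
  set z : Spec (CommRingCat.of Γ(S', V')) ⟶ Spec (CommRingCat.of R) := Spec.map (CommRingCat.ofHom σ₀)
  set q := Red.DSmap (Spec (CommRingCat.of R)) (QuotientAddGroup.mk' Γ₀)
  haveI : Mono i := (Over.forget S).mono_of_mono_map (inferInstanceAs (Mono i.left))
  haveI : Mono u := by
    haveI : Mono u.left := inferInstance
    exact (Over.forget _).mono_of_mono_map (inferInstanceAs (Mono u.left))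
  haveI : Mono q := mono_DSmap _ _ (QuotientAddGroup.mk'_surjective Γ₀)
  obtain ⟨ψ, hψ⟩ := exists_iso_of_factor u q z h1 h2
  haveI : (Over.pullback z).IsRightAdjoint := (Over.mapPullbackAdj z).isRightAdjoint
  haveI : Mono ((Over.pullback z).map q) := inferInstance
  haveI : IsMonHom (ψ.hom ≫ (Over.pullback z).map q) := by rw [hψ]; infer_instance
  haveI : IsMonHom ψ.hom := isMonHom_of_comp_mono _ ((Over.pullback z).map q)
  let e1 : Grp.mk (Red.bc z (Red.bc f H)) ≅ Grp.mk (Red.bc z (Red.DS (Spec (CommRingCat.of R)) (M ⧸ Γ₀))) :=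
    Grp.mkIso' ψ
  have hzf : V'.ι ≫ π = (hV'.isoSpec.hom ≫ z) ≫ f := by
    have : z ≫ hV.fromSpec = hV'.fromSpec := hV.map_fromSpec hV' _
    rw [← Category.assoc, Category.assoc hV'.isoSpec.hom, this, IsAffineOpen.isoSpec_hom_fromSpec]
  have hch : HasChart fgM H (z ≫ f) :=
    ⟨M ⧸ Γ₀, inferInstance, by
      haveI := hM
      exact AddGroup.fg_of_surjective (f := QuotientAddGroup.mk' Γ₀) (QuotientAddGroup.mk'_surjective Γ₀),
      ⟨bcGrpComp H f z (z ≫ f) rfl ≪≫ e1 ≪≫ (bcGrpComp (Red.diag (ULift.{u} ℤ) (M ⧸ Γ₀))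
        (Limits.IsTerminal.from specULiftZIsTerminal _) z (Limits.IsTerminal.from specULiftZIsTerminal _)
        (specULiftZIsTerminal.hom_ext _ _)).symm⟩⟩
  obtain ⟨N, instN, hN, e2⟩ := hch.precomp hV'.isoSpec.hom (V'.ι ≫ π) (by rw [hzf, Category.assoc])
  exact ⟨V', hsV', N, instN, hN, e2⟩

end GrothLib.DiagGrp
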