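import Mathlib.AlgebraicGeometry.Morphisms.Flat
import Groth.Agent.Lib.DiagGrp.BaseChange
import Groth.Agent.Lib.AlgSp.FppfDescent

/-!
Groups with diagonalisable charts are flat.
-/

universe u

open CategoryTheory MonoidalCategory CartesianMonoidalCategory MonObj GrpObj AlgebraicGeometry
open CategoryTheory.Limits

namespace GrothLib.DiagGrp

variable {S : Scheme.{u}}

theorem flat_diag (M : Type) [AddCommGroup M] : Flat (Red.diag (ULift.{u} ℤ) M).hom := by
  change Flat (Spec.map (CommRingCat.ofHom
    (algebraMap (ULift.{u} ℤ) (MonoidAlgebra (ULift.{u} ℤ) (Multiplicative M)))))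
  rw [Flat.SpecMap_iff, CommRingCat.hom_ofHom, RingHom.flat_algebraMap_iff]
  infer_instance

theorem flat_of_charts {Q : ∀ (M : Type), AddCommGroup M → Prop} {H : Over S} [GrpObj H]
    (hH : HasChartsFpqc Q H) : Flat H.hom := by
  have := HasRingHomProperty.descendsAlong_flat (P := @Flat) GrothLib.AlgSp.codescendsAlong_flat
  have h : Flat (toUnit H).left := of_charts @Flat (G := H) Q hH (toUnit H) fun {W} _ g {M} inst _ e => by
    have := flat_diag.{u} M
    have : Flat (Red.DS W M).hom :=
      inferInstanceAs (Flat (pullback.snd (Red.diag (ULift.{u} ℤ) M).hom _))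
    have : Flat (Red.bc g H).hom := by
      let i : Red.bc g H ≅ Red.DS W M := (Grp.forget (Over W)).mapIso e
      have : IsIso i.hom.left := inferInstanceAs (IsIso ((Over.forget W).mapIso i).hom)
      rw [← Over.w i.hom]
      exact (MorphismProperty.cancel_left_of_respectsIso @Flat _ _).mpr ‹_›
    have : IsIso (pullback.snd (𝟙_ (Over S)).hom g) := inferInstanceAs (IsIso (pullback.snd (𝟙 S) g))
    rw [← MorphismProperty.cancel_right_of_respectsIso @Flat _ (pullback.snd (𝟙_ (Over S)).hom g)]
    have h5 : ((Over.pullback g).map (toUnit H)).left ≫ pullback.snd (𝟙_ (Over S)).hom g = (Red.bc g H).hom :=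
      pullback.lift_snd _ _ _
    rw [h5]
    infer_instance
  have e : (toUnit H).left ≫ (𝟙_ (Over S)).hom = H.hom := Over.w (toUnit H)
  rw [← e]
  exact (MorphismProperty.cancel_right_of_respectsIso @Flat _ (𝟙 S)).mpr h

end GrothLib.DiagGrp
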