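import Groth.Agent.Lib.DiagGrp.FreeChart
import Groth.Agent.Lib.FpqcDesc.ClosedImmersion
import Groth.Prelude.Def_TwC
import Mathlib.AlgebraicGeometry.Morphisms.Separated
import Mathlib.AlgebraicGeometry.Cover.Open

/-!
The graph of a free action of a group of multiplicative type on an affine scheme is a closed immersion.
-/

universe u

open CategoryTheory MonoidalCategory CartesianMonoidalCategory MonObj GrpObj AlgebraicGeometry
open CategoryTheory.Limits

namespace GrothLib.DiagGrp

variable {S : Scheme.{u}}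

/-- Base change of a morphism over `S` is a cartesian square. -/
theorem isPullback_overMap {A B : Over S} (u : A ⟶ B) {W : Scheme.{u}} (f : W ⟶ S) :
    IsPullback ((Over.pullback f).map u).left (pullback.fst A.hom f) (pullback.fst B.hom f) u.left := by
  have h2 : ((Over.pullback f).map u).left ≫ pullback.fst B.hom f = pullback.fst A.hom f ≫ u.left :=
    pullback.lift_fst _ _ _
  refine IsPullback.of_right ?_ h2 (IsPullback.of_hasPullback B.hom f).flip
  have h3 : ((Over.pullback f).map u).left ≫ pullback.snd B.hom f = pullback.snd A.hom f :=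
    pullback.lift_snd _ _ _
  rw [h3, Over.w]
  exact (IsPullback.of_hasPullback A.hom f).flip

/-- The map of base changes along `g : W' ⟶ W`. -/
noncomputable def bcMor (A : Over S) {W W' : Scheme.{u}} (f : W ⟶ S) (g : W' ⟶ W) :
    pullback A.hom (g ≫ f) ⟶ pullback A.hom f :=
  pullback.lift (pullback.fst _ _) (pullback.snd _ _ ≫ g) (by rw [pullback.condition, Category.assoc])

theorem isPullback_bcMor (A : Over S) {W W' : Scheme.{u}} (f : W ⟶ S) (g : W' ⟶ W) :
    IsPullback (bcMor A f g) (pullback.snd A.hom (g ≫ f)) (pullback.snd A.hom f) g := by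
  refine IsPullback.of_right ?_ (pullback.lift_snd _ _ _) (IsPullback.of_hasPullback A.hom f)
  rw [bcMor, pullback.lift_fst]
  exact IsPullback.of_hasPullback A.hom (g ≫ f)

theorem isPullback_overMap_bcMor {A B : Over S} (u : A ⟶ B) {W W' : Scheme.{u}} (f : W ⟶ S) (g : W' ⟶ W) :
    IsPullback ((Over.pullback (g ≫ f)).map u).left (bcMor A f g) (bcMor B f g) ((Over.pullback f).map u).left := by
  refine IsPullback.of_bot ?_ ?_ (isPullback_overMap u f)
  · rw [bcMor, bcMor, pullback.lift_fst, pullback.lift_fst]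
    exact isPullback_overMap u (g ≫ f)
  · apply pullback.hom_ext
    · refine ((Category.assoc _ _ _).trans ?_).trans (Category.assoc _ _ _).symm
      rw [bcMor, bcMor, pullback.lift_fst]
      refine ((pullback.lift_fst _ _ _).trans ?_).trans (congrArg (_ ≫ ·) (pullback.lift_fst _ _ _)).symm
      rw [← Category.assoc, pullback.lift_fst]
    · refine ((Category.assoc _ _ _).trans ?_).trans (Category.assoc _ _ _).symm
      rw [bcMor, bcMor, pullback.lift_snd]
      refine Eq.trans ?_ (congrArg (_ ≫ ·) (pullback.lift_snd _ _ _)).symm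
      rw [← Category.assoc]
      refine (congrArg (· ≫ g) (pullback.lift_snd _ _ _)).trans ?_
      rw [pullback.lift_snd]

/-- A local-at-target property of a base change is local on the base. -/
theorem of_baseCover (P : MorphismProperty Scheme.{u}) [IsZariskiLocalAtTarget P]
    {A B : Over S} (u : A ⟶ B) {W : Scheme.{u}} (f : W ⟶ S) (𝒰 : W.OpenCover)
    (h : ∀ j, P ((Over.pullback (𝒰.f j ≫ f)).map u).left) :
    P ((Over.pullback f).map u).left := by
  refine IsZariskiLocalAtTarget.of_forall_exists_morphismRestrict fun x => ?_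
  obtain ⟨j, z, hz⟩ := 𝒰.exists_eq ((pullback.snd B.hom f).base x)
  haveI : IsOpenImmersion (bcMor B f (𝒰.f j)) :=
    MorphismProperty.of_isPullback (P := @IsOpenImmersion) (isPullback_bcMor B f (𝒰.f j)).flip inferInstance
  refine ⟨(bcMor B f (𝒰.f j)).opensRange, ?_, ?_⟩
  · obtain ⟨w, hw1, hw2⟩ := Scheme.Pullback.exists_preimage_pullback (f := pullback.snd B.hom f) (g := 𝒰.f j) x z hz.symm
    refine ⟨((isPullback_bcMor B f (𝒰.f j)).isoPullback).inv.base w, ?_⟩
    rw [← Scheme.Hom.comp_apply, IsPullback.isoPullback_inv_fst]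
    exact hw1
  · refine (P.arrow_mk_iso_iff (morphismRestrictOpensRange _ _)).mpr ?_
    refine (P.cancel_left_of_respectsIso (isPullback_overMap_bcMor u f (𝒰.f j)).flip.isoPullback.hom _).mp ?_
    rw [IsPullback.isoPullback_hom_snd]
    exact h j

/-- Base change along a composite, for group objects. -/
noncomputable def bcGrpComp {S₁ S₂ S₃ : Scheme.{u}} (K : Over S₁) [GrpObj K] (f : S₂ ⟶ S₁) (g : S₃ ⟶ S₂) (h : S₃ ⟶ S₁)
    (hh : h = g ≫ f) : Grp.mk (Red.bc h K) ≅ Grp.mk (Red.bc g (Red.bc f K)) :=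
  eqToIso (by subst hh; rfl) ≪≫ (Functor.mapGrpNatIso (Over.pullbackComp g f)).app (Grp.mk K) ≪≫
    (Functor.mapGrpCompIso (F := Over.pullback f) (G := Over.pullback g)).app (Grp.mk K)

/-- The graph of a free action is a closed immersion, over an affine open of the base. -/
theorem graph_affineOpen {G X : Over S} [GrpObj G] [IsAffineHom X.hom]
    (hG : TwC.Locally S TwC.Topology.fpqc (fun S' f => ∃ (M : Type) (_ : AddCommGroup M),
      Nonempty (Grp.mk (Red.bc f G) ≅ Grp.mk (Red.DS S' M))))
    (a : AlgGrp.Action G X)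
    (hfree : ∀ (Y : Over S) (g : Y ⟶ G) (x : Y ⟶ X), lift g x ≫ a.act = x → g = 1)
    (V : S.Opens) (hV : IsAffineOpen V) :
    IsClosedImmersion ((Over.pullback V.ι).map (lift a.act (snd G X))).left := by
  obtain ⟨S', π, hflat, -, hqc, hloc⟩ := hG
  haveI := hflat
  obtain ⟨W, hWc, hWim⟩ := hqc V hV
  have hr : Set.range (W.ι ≫ π).base ⊆ Set.range V.ι.base := by
    rintro _ ⟨z, rfl⟩
    rw [V.range_ι, ← hWim]
    exact ⟨W.ι.base z, by rw [← W.range_ι]; exact ⟨z, rfl⟩, rfl⟩
  set q : (W : Scheme.{u}) ⟶ (V : Scheme.{u}) := IsOpenImmersion.lift V.ι (W.ι ≫ π) hr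
  have hq : q ≫ V.ι = W.ι ≫ π := IsOpenImmersion.lift_fac _ _ _
  haveI : IsAffine (V : Scheme.{u}) := hV
  haveI : Flat q := by
    have : Flat (q ≫ V.ι) := by rw [hq]; infer_instance
    exact MorphismProperty.of_postcomp @Flat (W' := @IsOpenImmersion) q V.ι inferInstance this
  haveI : CompactSpace (W : Scheme.{u}) := isCompact_iff_compactSpace.mp hWc
  haveI : QuasiCompact q := (quasiCompact_iff_compactSpace q).mpr inferInstance
  haveI : Surjective q := ⟨fun v => by
    have hv : V.ι.base v ∈ π.base '' (W : Set S') := by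
      rw [hWim, ← V.range_ι]; exact ⟨v, rfl⟩
    obtain ⟨w, hw, hwv⟩ := hv
    refine ⟨⟨w, hw⟩, V.ι.injective ?_⟩
    rw [← Scheme.Hom.comp_apply, hq, Scheme.Hom.comp_apply]
    exact hwv⟩
  have key : IsClosedImmersion ((Over.pullback (q ≫ V.ι)).map (lift a.act (snd G X))).left := by
    have hpt : ∀ w : (W : Scheme.{u}), ∃ (R : (W : Scheme.{u}).Opens) (M : Type) (_ : AddCommGroup M),
        w ∈ R ∧ IsAffineOpen R ∧
          Nonempty (Grp.mk (Red.bc (R.ι ≫ q ≫ V.ι) G) ≅ Grp.mk (Red.DS R M)) := by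
      intro w
      obtain ⟨U, hwU, M, instM, ⟨e⟩⟩ := hloc (W.ι.base w)
      obtain ⟨R, hR, hwR, hRU⟩ := exists_isAffineOpen_mem_and_subset (show w ∈ W.ι ⁻¹ᵁ U from hwU)
      refine ⟨R, M, instM, hwR, hR, ?_⟩
      have hr' : Set.range (R.ι ≫ W.ι).base ⊆ Set.range U.ι.base := by
        rintro _ ⟨z, rfl⟩
        rw [U.range_ι]
        exact hRU (show R.ι.base z ∈ (R : Set (W : Scheme.{u})) by rw [← R.range_ι]; exact ⟨z, rfl⟩)
      set r := IsOpenImmersion.lift U.ι (R.ι ≫ W.ι) hr'
      have hfac : R.ι ≫ q ≫ V.ι = r ≫ U.ι ≫ π := by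
        rw [hq, ← Category.assoc r, IsOpenImmersion.lift_fac, Category.assoc]
      let e1 : Grp.mk (Red.bc r (Red.bc (U.ι ≫ π) G)) ≅ Grp.mk (Red.bc r (Red.DS U M)) :=
        (Over.pullback r).mapGrp.mapIso e
      have hterm : r ≫ Limits.IsTerminal.from specULiftZIsTerminal (U : Scheme.{u}) =
          Limits.IsTerminal.from specULiftZIsTerminal (R : Scheme.{u}) := specULiftZIsTerminal.hom_ext _ _
      exact ⟨(bcGrpComp G (U.ι ≫ π) r (R.ι ≫ q ≫ V.ι) hfac).trans (e1.trans
        (bcGrpComp (Red.diag (ULift.{u} ℤ) M) (Limits.IsTerminal.from specULiftZIsTerminal (U : Scheme.{u})) r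
          (Limits.IsTerminal.from specULiftZIsTerminal (R : Scheme.{u})) hterm.symm).symm)⟩
    choose R M instM hwR hR he using hpt
    let 𝒰 : (W : Scheme.{u}).OpenCover := Scheme.openCoverOfIsOpenCover _ R
      (TopologicalSpace.IsOpenCover.mk (eq_top_iff.mpr fun w _ => TopologicalSpace.Opens.mem_iSup.mpr ⟨w, hwR w⟩))
    refine of_baseCover @IsClosedImmersion _ _ 𝒰 fun w => ?_
    letI := instM w
    obtain ⟨e⟩ := he w
    haveI : IsAffine (R w : Scheme.{u}) := hR w
    exact graph_chart a hfree ((R w).ι ≫ q ≫ V.ι) e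
  exact MorphismProperty.of_isPullback_of_descendsAlong (P := @IsClosedImmersion)
    (Q := @Surjective ⊓ @Flat ⊓ @QuasiCompact) (isPullback_overMap_bcMor _ V.ι q)
    (MorphismProperty.of_isPullback (P := @Surjective ⊓ @Flat ⊓ @QuasiCompact)
      (isPullback_bcMor (X ⊗ X) V.ι q).flip ⟨⟨inferInstance, inferInstance⟩, inferInstance⟩) key

theorem graph_isClosedImmersion {G X : Over S} [GrpObj G] [IsAffineHom X.hom]
    (hG : TwC.Locally S TwC.Topology.fpqc (fun S' f => ∃ (M : Type) (_ : AddCommGroup M),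
      Nonempty (Grp.mk (Red.bc f G) ≅ Grp.mk (Red.DS S' M))))
    (a : AlgGrp.Action G X)
    (hfree : ∀ (Y : Over S) (g : Y ⟶ G) (x : Y ⟶ X), lift g x ≫ a.act = x → g = 1) :
    IsClosedImmersion (lift a.act (snd G X)).left := by
  have h := of_baseCover (@IsClosedImmersion) (lift a.act (snd G X)) (𝟙 S) S.affineCover fun j => by
    rw [Category.comp_id]
    have h1 := graph_affineOpen hG a hfree (S.affineCover.f j).opensRange (isAffineOpen_opensRange _)
    have h2 : ((S.affineCover.f j).isoOpensRange.hom) ≫ (S.affineCover.f j).opensRange.ι = S.affineCover.f j :=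
      Scheme.Hom.isoOpensRange_hom_ι _
    rw [← h2]
    exact MorphismProperty.of_isPullback (P := @IsClosedImmersion)
      (isPullback_overMap_bcMor _ _ _).flip h1
  haveI : IsIso (pullback.fst (X ⊗ X).hom (𝟙 S)) := inferInstance
  haveI : IsIso (pullback.fst (G ⊗ X).hom (𝟙 S)) := inferInstance
  have hw := (isPullback_overMap (lift a.act (snd G X)) (𝟙 S)).w
  have : (lift a.act (snd G X)).left =
      inv (pullback.fst (G ⊗ X).hom (𝟙 S)) ≫ ((Over.pullback (𝟙 S)).map (lift a.act (snd G X))).left ≫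
        pullback.fst (X ⊗ X).hom (𝟙 S) := by
    rw [hw, IsIso.inv_hom_id_assoc]
  rw [this]
  haveI := h
  infer_instance

/-- Orbit morphisms of free actions are closed immersions. -/
theorem orbitMap_isClosedImmersion {G X : Over S} [GrpObj G] [IsAffineHom X.hom]
    (a : AlgGrp.Action G X) (hgraph : IsClosedImmersion (lift a.act (snd G X)).left)
    (σ : 𝟙_ (Over S) ⟶ X) : IsClosedImmersion (a.orbitMap σ).left := by
  have hsec : IsClosedImmersion (lift (𝟙 G) (toUnit G ≫ σ)).left := by
    have : IsSeparated (fst G X).left := by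
      rw [Over.fst_left]
      infer_instance
    have hid : (lift (𝟙 G) (toUnit G ≫ σ)).left ≫ (fst G X).left = 𝟙 _ := by
      rw [← Over.comp_left, lift_fst]; rfl
    have : IsClosedImmersion ((lift (𝟙 G) (toUnit G ≫ σ)).left ≫ (fst G X).left) := by
      rw [hid]; infer_instance
    exact IsClosedImmersion.of_comp _ (fst G X).left
  have hfac : lift (𝟙 G) (toUnit G ≫ σ) ≫ lift a.act (snd G X) =
      a.orbitMap σ ≫ lift (𝟙 X) (toUnit X ≫ σ) := by
    apply CartesianMonoidalCategory.hom_ext
    · simp [AlgGrp.Action.orbitMap]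
    · simp only [Category.assoc, lift_snd]
      rw [← Category.assoc]
      congr 1
      exact toUnit_unique _ _
  have : IsClosedImmersion ((a.orbitMap σ).left ≫ (lift (𝟙 X) (toUnit X ≫ σ)).left) := by
    rw [← Over.comp_left, ← hfac, Over.comp_left]
    infer_instance
  have : IsSeparated (lift (𝟙 X) (toUnit X ≫ σ)).left := by
    haveI : Mono (lift (𝟙 X) (toUnit X ≫ σ)).left := by
      have : Mono ((lift (𝟙 X) (toUnit X ≫ σ)).left ≫ (fst X X).left) := by
        rw [← Over.comp_left, lift_fst]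
        exact inferInstanceAs (Mono (𝟙 X.left))
      exact mono_of_mono _ (fst X X).left
    infer_instance
  exact IsClosedImmersion.of_comp _ (lift (𝟙 X) (toUnit X ≫ σ)).left

end GrothLib.DiagGrp
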