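import Groth.Prelude.Def_Red
import Mathlib.CategoryTheory.Comma.Over.Pullback
import Mathlib.RingTheory.Bialgebra.MonoidAlgebra

/-!
Points of diagonalisable group schemes on affine schemes.
-/

universe u

open CategoryTheory MonoidalCategory CartesianMonoidalCategory MonObj GrpObj AlgebraicGeometry

namespace GrothLib.DiagGrp

section Base

variable {S S' : Scheme.{u}} (f : S' ⟶ S)

/-- A point over `S'` of a base change is a point over `S`. -/
noncomputable def bcPoint (X : Over S) (T : Over S') : ((Over.map f).obj T ⟶ X) ≃ (T ⟶ Red.bc f X) :=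
  (Over.mapPullbackAdj f).homEquiv T X

theorem bcPoint_comp {X : Over S} {T T' : Over S'} (h : T' ⟶ T) (g : (Over.map f).obj T ⟶ X) :
    bcPoint f X T' ((Over.map f).map h ≫ g) = h ≫ bcPoint f X T g :=
  (Over.mapPullbackAdj f).homEquiv_naturality_left h g

theorem bcPoint_comp_right {X X' : Over S} {T : Over S'} (g : (Over.map f).obj T ⟶ X) (u : X ⟶ X') :
    bcPoint f X' T (g ≫ u) = bcPoint f X T g ≫ (Over.pullback f).map u :=
  (Over.mapPullbackAdj f).homEquiv_naturality_right g u

/-- Points of a base changed group, as a group isomorphism. -/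
noncomputable def bcPointMulEquiv (G : Over S) [GrpObj G] (T : Over S') :
    ((Over.map f).obj T ⟶ G) ≃* (T ⟶ Red.bc f G) where
  toEquiv := bcPoint f G T
  map_mul' a b := by
    change bcPoint f G T (a * b) = bcPoint f G T a * bcPoint f G T b
    simp only [bcPoint, Adjunction.homEquiv_unit, Functor.map_mul, MonObj.comp_mul]

end Base

section Spec

variable (k : Type u) [CommRing k] (M : Type) [AddCommGroup M] (C : Type u) [CommRing C] [Algebra k C]

/-- Points of a group algebra are characters. -/
noncomputable def convEquiv :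
    WithConv (MonoidAlgebra k (Multiplicative M) →ₐ[k] C) ≃* (Multiplicative M →* C) where
  toFun f := (MonoidAlgebra.lift k C (Multiplicative M)).symm f.ofConv
  invFun χ := WithConv.toConv (MonoidAlgebra.lift k C (Multiplicative M) χ)
  left_inv f := by
    apply WithConv.ofConv_injective
    simp
  right_inv χ := by simp
  map_mul' f g := by
    refine MonoidHom.ext fun m => ?_
    change (f * g).ofConv (MonoidAlgebra.single m 1) = f.ofConv (MonoidAlgebra.single m 1) * g.ofConv (MonoidAlgebra.single m 1)
    refine (AlgHom.convMul_apply f g _).trans ?_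
    simp

/-- The group algebra point attached to a character. -/
noncomputable def specPoint :
    (Multiplicative M →* C) ≃* ((Spec (CommRingCat.of C)).asOver (Spec (CommRingCat.of k)) ⟶ Red.diag k M) :=
  (convEquiv k M C).symm.trans Spec.mapMulEquiv

theorem specPoint_left (χ : Multiplicative M →* C) :
    (specPoint k M C χ).left =
      Spec.map (CommRingCat.ofHom (MonoidAlgebra.lift k C (Multiplicative M) χ).toRingHom) := rfl

end Spec

section DS

variable {S : Scheme.{u}} (M : Type) [AddCommGroup M] {C : Type u} [CommRing C]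

/-- The unique ring map from the base of `DS`. -/
noncomputable local instance (priority := 50) algZ (C : Type u) [CommRing C] : Algebra (ULift.{u} ℤ) C :=
  ((Int.castRingHom C).comp (ULift.ringEquiv (R := ℤ)).toRingHom).toAlgebra

/-- The affine scheme `Spec C` over `S` through `p`, seen over the initial base. -/
noncomputable def baseIso (p : Spec (CommRingCat.of C) ⟶ S) :
    (Over.map (Limits.IsTerminal.from specULiftZIsTerminal S)).obj (Over.mk p) ≅
      (Spec (CommRingCat.of C)).asOver (Spec (CommRingCat.of (ULift.{u} ℤ))) :=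
  Over.isoMk (Iso.refl _) (specULiftZIsTerminal.hom_ext _ _)

/-- Points of `D_S(M)` on an affine scheme over `S` are characters. -/
noncomputable def dsPoint (p : Spec (CommRingCat.of C) ⟶ S) :
    (Multiplicative M →* C) ≃* (Over.mk p ⟶ Red.DS S M) :=
  ((specPoint (ULift.{u} ℤ) M C).trans
    { toFun := fun g => (baseIso p).hom ≫ g
      invFun := fun g => (baseIso p).inv ≫ g
      left_inv := fun g => by simp
      right_inv := fun g => by simp
      map_mul' := fun a b => MonObj.comp_mul _ _ _ }).trans
    (bcPointMulEquiv (Limits.IsTerminal.from specULiftZIsTerminal S) (Red.diag (ULift.{u} ℤ) M) (Over.mk p))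

variable {M}

theorem ulift_int_hom_ext {A : Type u} [CommRing A] (φ ψ : ULift.{u} ℤ →+* A) : φ = ψ := by
  refine RingHom.ext fun r => ?_
  obtain ⟨n⟩ := r
  exact RingHom.congr_fun ((φ.comp (ULift.ringEquiv (R := ℤ)).symm.toRingHom).ext_int
    (ψ.comp (ULift.ringEquiv (R := ℤ)).symm.toRingHom)) n

/-- Naturality of `dsPoint` in the affine scheme. -/
theorem dsPoint_comp {C' : Type u} [CommRing C'] (p : Spec (CommRingCat.of C) ⟶ S)
    (p' : Spec (CommRingCat.of C') ⟶ S) (h : C →+* C') (χ : Multiplicative M →* C)
    (hp : Spec.map (CommRingCat.ofHom h) ≫ p = p') :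
    (Over.homMk (Spec.map (CommRingCat.ofHom h)) hp : Over.mk p' ⟶ Over.mk p) ≫ dsPoint M p χ =
      dsPoint M p' ((h : C →* C').comp χ) := by
  have h1 : (Over.map (Limits.IsTerminal.from specULiftZIsTerminal S)).map
      (Over.homMk (Spec.map (CommRingCat.ofHom h)) hp : Over.mk p' ⟶ Over.mk p) ≫
        (baseIso p).hom ≫ specPoint (ULift.{u} ℤ) M C χ =
      (baseIso p').hom ≫ specPoint (ULift.{u} ℤ) M C' ((h : C →* C').comp χ) := by
    apply Over.OverMorphism.ext
    change Spec.map (CommRingCat.ofHom h) ≫ 𝟙 _ ≫ Spec.map (CommRingCat.ofHom _) =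
      𝟙 _ ≫ Spec.map (CommRingCat.ofHom _)
    rw [Category.id_comp, Category.id_comp, ← Spec.map_comp, ← CommRingCat.ofHom_comp]
    congr 2
    refine MonoidAlgebra.ringHom_ext (fun r => ?_) fun m => ?_
    · exact RingHom.congr_fun (ulift_int_hom_ext
        ((h.comp (MonoidAlgebra.lift (ULift.{u} ℤ) C (Multiplicative M) χ).toRingHom).comp
          (MonoidAlgebra.singleOneRingHom (R := ULift.{u} ℤ) (M := Multiplicative M)))
        ((MonoidAlgebra.lift (ULift.{u} ℤ) C' (Multiplicative M) ((h : C →* C').comp χ)).toRingHom.comp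
          (MonoidAlgebra.singleOneRingHom (R := ULift.{u} ℤ) (M := Multiplicative M)))) r
    · change h (MonoidAlgebra.lift (ULift.{u} ℤ) C (Multiplicative M) χ (MonoidAlgebra.of _ _ m)) =
        MonoidAlgebra.lift (ULift.{u} ℤ) C' (Multiplicative M) ((h : C →* C').comp χ) (MonoidAlgebra.of _ _ m)
      rw [MonoidAlgebra.lift_of, MonoidAlgebra.lift_of]
      rfl
  exact ((bcPoint_comp _ _ _).symm).trans (congrArg (bcPoint _ _ _) h1)

end DS

end GrothLib.DiagGrp
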