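import Groth.Agent.Lib.DiagGrp.KernelIdeal
import Groth.Agent.Lib.DiagGrp.TrivialLocus
import Groth.Agent.Lib.DiagGrp.CharProps
import Mathlib.Topology.LocallyConstant.Basic

/-!
The kernel of a homomorphism out of a group of multiplicative type is, fibrewise and locally constantly,
`D(M/Γ)`; in particular the locus where the homomorphism is a monomorphism is open and closed.
-/

universe u

open CategoryTheory MonoidalCategory CartesianMonoidalCategory MonObj GrpObj AlgebraicGeometry
open CategoryTheory.Limits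

namespace GrothLib.DiagGrp

namespace CharAction

variable {S X : Scheme.{u}} {q : X ⟶ S} {G G' : Type} [CommMonoid G] [CommMonoid G']

/-- Restriction of operations along a homomorphism of exponents. -/
def comap (A : CharAction q G) (π : G →* G') : CharAction q G' where
  op C _ χ x := A.op C (χ.comp π) x
  op_over C _ χ x := A.op_over C _ x
  op_nat C C' _ _ h χ x := A.op_nat C C' h (χ.comp π) x
  op_one C _ x := A.op_one C x
  op_mul C _ χ χ' x := A.op_mul C (χ.comp π) (χ'.comp π) x

/-- Base change of operations. -/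
noncomputable def baseChange (A : CharAction q G) {S' : Scheme.{u}} (i : S' ⟶ S) :
    CharAction (pullback.snd q i) G where
  op C _ χ x := pullback.lift (A.op C χ (x ≫ pullback.fst q i)) (x ≫ pullback.snd q i)
    (by rw [A.op_over, Category.assoc, pullback.condition, Category.assoc])
  op_over C _ χ x := pullback.lift_snd _ _ _
  op_nat C C' _ _ h χ x := by
    apply pullback.hom_ext
    · rw [pullback.lift_fst, Category.assoc, Category.assoc, pullback.lift_fst, A.op_nat]
    · rw [pullback.lift_snd, Category.assoc, Category.assoc, pullback.lift_snd]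
  op_one C _ x := by
    apply pullback.hom_ext
    · rw [pullback.lift_fst, A.op_one]
    · rw [pullback.lift_snd]
  op_mul C _ χ χ' x := by
    apply pullback.hom_ext
    · simp only [pullback.lift_fst, A.op_mul]
    · simp only [pullback.lift_snd]

end CharAction

variable {S : Scheme.{u}} {H G : Over S} [GrpObj H] [GrpObj G]

section Chart

variable {R : Type u} [CommRing R] (f : Spec (CommRingCat.of R) ⟶ S) {M : Type} [AddCommGroup M]
  (e : Grp.mk (Red.bc f H) ≅ Grp.mk (Red.DS (Spec (CommRingCat.of R)) M)) (u : H ⟶ G)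

include e in
/-- The kernel over a chart is cut out by a finitely generated ideal. -/
theorem exists_kernel_ideal [IsClosedImmersion η[G].left]
    [LocallyOfFinitePresentation (pullback.fst u.left η[G].left)] :
    ∃ I : Ideal (MonoidAlgebra R (Multiplicative M)), I.FG ∧
      ∀ (C : Type u) [CommRing C] (σ : R →+* C) (χ : Multiplicative M →* C),
        Kills I σ χ ↔ ptG f e (Spec.map (CommRingCat.ofHom σ)) χ ≫ u = 1 := by
  set D := MonoidAlgebra R (Multiplicative M)
  set c := pullback.fst (univPt f e).left (pullback.fst u.left η[G].left)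
  have hclosed : IsClosedImmersion c := inferInstance
  have hlfp : LocallyOfFinitePresentation c := inferInstance
  obtain ⟨I, ec, hec⟩ := IsClosedImmersion.Spec_iff.mp hclosed
  refine ⟨I, ?_, fun C _ σ χ => ?_⟩
  · have h1 : LocallyOfFinitePresentation (Spec.map (CommRingCat.ofHom (Ideal.Quotient.mk I))) := by
      rw [hec, MorphismProperty.cancel_left_of_respectsIso @LocallyOfFinitePresentation] at hlfp
      exact hlfp
    rw [HasRingHomProperty.Spec_iff (P := @LocallyOfFinitePresentation), CommRingCat.hom_ofHom] at h1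
    have : Algebra.FinitePresentation D (D ⧸ I) := RingHom.finitePresentation_algebraMap.mp h1
    simpa using Algebra.FinitePresentation.ker_fG_of_surjective (Ideal.Quotient.mkₐ D I) Ideal.Quotient.mk_surjective
  · refine Iff.trans ?_ (comp_eq_one_iff_factor f e u (ptG f e (Spec.map (CommRingCat.ofHom σ)) χ) _ (Iso.refl _)
      ((Category.id_comp _).trans (ptG_left_eq f e σ χ))).symm
    constructor
    · intro h
      refine ⟨Spec.map (CommRingCat.ofHom (Ideal.Quotient.lift I (evalHom σ χ) h)) ≫ ec.inv, ?_⟩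
      change _ ≫ c = _
      rw [hec, Category.assoc, Iso.inv_hom_id_assoc, ← Spec.map_comp, ← CommRingCat.ofHom_comp,
        Ideal.Quotient.lift_comp_mk]
    · rintro ⟨y, hy⟩ x hx
      change y ≫ c = _ at hy
      rw [hec, ← Category.assoc, ← Spec.map_preimage (y ≫ ec.hom), ← Spec.map_comp] at hy
      refine (RingHom.congr_fun (congrArg CommRingCat.Hom.hom (Spec.map_injective hy)) x).symm.trans ?_
      change (Spec.preimage (y ≫ ec.hom)).hom (Ideal.Quotient.mk I x) = 0
      rw [Ideal.Quotient.eq_zero_iff_mem.mpr hx, map_zero]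

variable [IsMonHom u] (I : Ideal (MonoidAlgebra R (Multiplicative M)))
  (hI : ∀ (C : Type u) [CommRing C] (σ : R →+* C) (χ : Multiplicative M →* C),
    Kills I σ χ ↔ ptG f e (Spec.map (CommRingCat.ofHom σ)) χ ≫ u = 1)

include hI in
theorem isSubgrpIdeal_kernel : IsSubgrpIdeal I where
  one C _ σ := (hI C σ 1).mpr (by rw [ptG_one, MonObj.one_comp])
  mul C _ σ χ χ' h h' := (hI C σ _).mpr (by
    rw [ptG_mul, MonObj.mul_comp, (hI C σ χ).mp h, (hI C σ χ').mp h', _root_.mul_one])

include hI in
/-- Containing `D(M/Γ)` is an idempotent condition on the base. -/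
theorem exists_idempotent_contains (hfg : I.FG) (Γ : Subgroup (Multiplicative M)) :
    ∃ ε : R, IsIdempotentElem ε ∧ ∀ (C : Type u) [CommRing C] (σ : R →+* C), σ ε = 0 ↔
      ∀ (C' : Type u) [CommRing C'] (h : C →+* C') (χ : Multiplicative M →* C'),
        (∀ γ ∈ Γ, χ γ = 1) → Kills I (h.comp σ) χ := by
  obtain ⟨a, ha, hiff⟩ := exists_classSum_ideal I hfg Γ
  set π : R →+* R ⧸ (a * a) := Ideal.Quotient.mk (a * a)
  set i := Spec.map (CommRingCat.ofHom π)
  let A₀ := (charAction f e (translAction u)).comap (QuotientGroup.mk' Γ)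
  let A := A₀.baseChange i
  have hJ : IsNilpotent (a.map π) := ⟨2, by
    rw [pow_two, ← Ideal.map_mul, Ideal.map_quotient_self]; rfl⟩
  have htriv := A.trivial (fun w =>
    ⟨R ⧸ (a * a), inferInstance, 𝟙 _, inferInstance, a.map π, ⟨w, rfl⟩, hJ, fun C _ σ hσ χ x hx => by
      rw [Category.comp_id] at hx
      apply pullback.hom_ext
      swap
      · exact pullback.lift_snd _ _ _
      refine (pullback.lift_fst _ _ _).trans ?_
      apply pullback.hom_ext
      swap
      · exact pullback.lift_snd _ _ _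
      change opAux f e (translAction u) _ (χ.comp (QuotientGroup.mk' Γ)) (x ≫ pullback.fst _ i) rfl ≫ _ = _
      rw [opAux, pullback.lift_fst]
      have hp : (x ≫ pullback.fst _ i) ≫ pullback.snd G.hom f =
          Spec.map (CommRingCat.ofHom (σ.comp π)) := by
        rw [Category.assoc, pullback.condition, ← Category.assoc, hx, CommRingCat.ofHom_comp, Spec.map_comp]
      have hk : ptG f e ((x ≫ pullback.fst _ i) ≫ pullback.snd G.hom f) (χ.comp (QuotientGroup.mk' Γ)) ≫ u = 1 := by
        rw [hp]
        refine (hI C (σ.comp π) _).mp ?_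
        have h := (hiff C (σ.comp π)).mp (fun r hr => hσ _ (Ideal.mem_map_of_mem π hr)) C (RingHom.id C)
          (χ.comp (QuotientGroup.mk' Γ)) (fun γ hγ => by
            rw [MonoidHom.comp_apply, show QuotientGroup.mk' Γ γ = 1 from (QuotientGroup.eq_one_iff γ).mpr hγ, map_one])
        exact h
      rw [show lift _ _ ≫ (translAction u).act = _ from lift_transl u _ _, hk, _root_.one_mul]
      rfl⟩)
  have hidem : IsIdempotentElem a := by
    refine le_antisymm Ideal.mul_le_left fun r hr => Ideal.Quotient.eq_zero_iff_mem.mp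
      ((hiff _ π).mpr (fun C' _ h χ hχ => ?_) r hr)
    set χ' : Multiplicative M ⧸ Γ →* C' := QuotientGroup.lift Γ χ fun g hg => hχ g hg
    set p := Spec.map (CommRingCat.ofHom (h.comp π))
    set one : (Over.map f).obj (Over.mk p) ⟶ G := 1
    set y : Spec (CommRingCat.of C') ⟶ pullback G.hom f := pullback.lift one.left p (Over.w one)
    have hy : y ≫ pullback.snd G.hom f = p := pullback.lift_snd _ _ _
    set z : Spec (CommRingCat.of C') ⟶ pullback (pullback.snd G.hom f) i :=
      pullback.lift y (Spec.map (CommRingCat.ofHom h)) (by rw [hy, ← Spec.map_comp]; rfl)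
    have h2 := htriv C' χ' z
    have hop : A₀.op C' χ' y = y := by
      have h3 := congrArg (· ≫ pullback.fst (pullback.snd G.hom f) i) h2
      change (pullback.lift (A₀.op C' χ' (z ≫ pullback.fst _ i)) _ _) ≫ _ = z ≫ _ at h3
      rw [pullback.lift_fst, pullback.lift_fst] at h3
      exact h3
    have h4 : opAux f e (translAction u) p χ y hy = y := by
      rw [← opAux_congr f e (translAction u) hy χ y rfl]
      exact hop
    have h5 := ptX_opAux f e (translAction u) p χ y hy (by rw [h4]; exact hy)
    have hone : ptX f p y hy = one := Over.OverMorphism.ext (pullback.lift_fst _ _ _)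
    have h6 : ptX f p (opAux f e (translAction u) p χ y hy) (by rw [h4]; exact hy) = ptX f p y hy :=
      Over.OverMorphism.ext (congrArg (· ≫ pullback.fst G.hom f) h4)
    rw [h6, hone, show lift (ptG f e p χ) one ≫ (translAction u).act = _ from lift_transl u _ _] at h5
    exact (hI C' (h.comp π) χ).mpr ((h5.trans (_root_.mul_one _)).symm)
  obtain ⟨ε, hε, rfl⟩ := (a.isIdempotentElem_iff_of_fg ha).mp hidem
  refine ⟨ε, hε, fun C _ σ => ?_⟩
  rw [← hiff]
  refine ⟨fun h r hr => ?_, fun h => h _ (Submodule.mem_span_singleton_self ε)⟩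
  obtain ⟨x, rfl⟩ := Submodule.mem_span_singleton.mp hr
  rw [smul_eq_mul, map_mul, h, mul_zero]

include hI in
/-- Over a chart the kernel is `D(M/Γ)` on every fibre, with `Γ` locally constant. -/
theorem exists_locallyConstant_kernel (hfg : I.FG) :
    ∃ Γ : PrimeSpectrum R → Subgroup (Multiplicative M), IsLocallyConstant Γ ∧
      ∀ (L : Type u) [Field L] (σ : R →+* L) (C : Type u) [CommRing C] (h : L →+* C) (χ : Multiplicative M →* C),
        Kills I (h.comp σ) χ ↔ ∀ γ ∈ Γ ⟨RingHom.ker σ, RingHom.ker_isPrime σ⟩, χ γ = 1 := by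
  obtain ⟨T, hT, hTk⟩ := exists_finite_subgroups I (isSubgrpIdeal_kernel f e u I hI) hfg
  choose Γ₀ hΓ₀T hΓ₀ using fun P : PrimeSpectrum R => hTk P.asIdeal.ResidueField (algebraMap R P.asIdeal.ResidueField)
  choose ε hε hεiff using fun Δ : Subgroup (Multiplicative M) => exists_idempotent_contains f e u I hI hfg Δ
  -- the subgroup attached to a field point is detected by the idempotents
  have hdet : ∀ (L : Type u) [Field L] (σ : R →+* L) (Γ Δ : Subgroup (Multiplicative M)),
      (∀ (C : Type u) [CommRing C] (h : L →+* C) (χ : Multiplicative M →* C),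
        Kills I (h.comp σ) χ ↔ ∀ γ ∈ Γ, χ γ = 1) → (σ (ε Δ) = 0 ↔ Γ ≤ Δ) := by
    intro L _ σ Γ Δ hΓ
    rw [hεiff]
    refine ⟨fun h γ hγ => ?_, fun hle C _ h χ hχ => (hΓ C h χ).mpr fun γ hγ => hχ γ (hle hγ)⟩
    set C := MonoidAlgebra L (Multiplicative M ⧸ Δ)
    have h1 := h C MonoidAlgebra.singleOneRingHom ((MonoidAlgebra.of L _).comp (QuotientGroup.mk' Δ)) fun γ hγ => by
      rw [MonoidHom.comp_apply, show QuotientGroup.mk' Δ γ = 1 from (QuotientGroup.eq_one_iff γ).mpr hγ, map_one]
    have h2 := (hΓ _ _ _).mp h1 γ hγ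
    exact (QuotientGroup.eq_one_iff γ).mp
      (MonoidAlgebra.of_injective (h2.trans (map_one (MonoidAlgebra.of L (Multiplicative M ⧸ Δ))).symm))
  have hmem : ∀ (P : PrimeSpectrum R) (Δ : Subgroup (Multiplicative M)), ε Δ ∈ P.asIdeal ↔ Γ₀ P ≤ Δ := fun P Δ => by
    rw [← hdet _ _ _ Δ (hΓ₀ P), Ideal.algebraMap_residueField_eq_zero]
  refine ⟨Γ₀, ?_, fun L _ σ C _ h χ => ?_⟩
  · rw [IsLocallyConstant.iff_exists_open]
    intro P
    have hclopen : ∀ Δ, IsClopen {Q : PrimeSpectrum R | ε Δ ∈ Q.asIdeal} := fun Δ => by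
      have h1 : {Q : PrimeSpectrum R | ε Δ ∈ Q.asIdeal} = PrimeSpectrum.zeroLocus {ε Δ} := by
        ext Q; simp [PrimeSpectrum.mem_zeroLocus]
      rw [h1]
      refine ⟨PrimeSpectrum.isClosed_zeroLocus _, ?_⟩
      rw [PrimeSpectrum.zeroLocus_eq_basicOpen_of_mul_add (ε Δ) (1 - ε Δ)
        (by rw [mul_sub, _root_.mul_one, (hε Δ).eq, sub_self]) (by ring)]
      exact PrimeSpectrum.isOpen_basicOpen
    refine ⟨⋂ Δ ∈ T, {Q : PrimeSpectrum R | ε Δ ∈ Q.asIdeal ↔ ε Δ ∈ P.asIdeal}, hT.isOpen_biInter fun Δ _ => ?_,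
      Set.mem_iInter₂.mpr fun Δ _ => Iff.rfl, fun Q hQ => ?_⟩
    · by_cases hP : ε Δ ∈ P.asIdeal
      · simp only [hP, iff_true]
        exact (hclopen Δ).2
      · simp only [hP, iff_false]
        exact (hclopen Δ).1.isOpen_compl
    · have hQ' := fun Δ hΔ => Set.mem_iInter₂.mp hQ Δ hΔ
      exact le_antisymm ((hmem Q _).mp ((hQ' _ (hΓ₀T P)).mpr ((hmem P _).mpr le_rfl)))
        ((hmem P _).mp ((hQ' _ (hΓ₀T Q)).mp ((hmem Q _).mpr le_rfl)))
  · obtain ⟨Γ, hΓT, hΓ⟩ := hTk L σ
    set P : PrimeSpectrum R := ⟨RingHom.ker σ, RingHom.ker_isPrime σ⟩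
    have heq : Γ = Γ₀ P := le_antisymm
      ((hdet L σ Γ _ hΓ).mp (RingHom.mem_ker.mp ((hmem P _).mpr le_rfl)))
      ((hmem P _).mp (RingHom.mem_ker.mpr ((hdet L σ Γ _ hΓ).mpr le_rfl)))
    rw [← heq]
    exact hΓ C h χ

end Chart

/-- Monomorphism after base change means: no kernel points over it. -/
theorem mono_pullback_iff (u : H ⟶ G) [IsMonHom u] {Z : Scheme.{u}} (z : Z ⟶ S) :
    Mono ((Over.pullback z).map u).left ↔
      ∀ (Y : Over S) (τ : Y.left ⟶ Z), τ ≫ z = Y.hom → ∀ g : Y ⟶ H, g ≫ u = 1 → g = 1 := by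
  constructor
  · intro hm Y τ hτ g hg
    have : Mono ((Over.pullback z).map u) := (Over.forget _).mono_of_mono_map hm
    let k : (Over.map z).obj (Over.mk τ) ≅ Y := Over.isoMk (Iso.refl _) (by
      change 𝟙 _ ≫ Y.hom = τ ≫ z
      rw [Category.id_comp, hτ])
    rw [← cancel_epi k.hom, MonObj.comp_one]
    apply (bcPointMulEquiv z H (Over.mk τ)).injective
    rw [map_one, ← cancel_mono ((Over.pullback z).map u), MonObj.one_comp]
    refine (bcPoint_comp_right z _ u).symm.trans ?_
    rw [Category.assoc, hg, MonObj.comp_one]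
    exact map_one (bcPointMulEquiv z G (Over.mk τ))
  · intro h
    have : Mono ((Over.pullback z).map u) := by
      constructor
      intro T a b hab
      have h1 : (a * b⁻¹) ≫ (Over.pullback z).map u = 1 := by
        rw [MonObj.mul_comp, GrpObj.inv_comp, hab, mul_inv_cancel]
      have h2 : (bcPointMulEquiv z H T).symm (a * b⁻¹) ≫ u = 1 := by
        apply (bcPointMulEquiv z G T).injective
        rw [map_one]
        refine (bcPoint_comp_right z _ u).trans ?_
        rw [show bcPoint z H T ((bcPointMulEquiv z H T).symm (a * b⁻¹)) = a * b⁻¹ from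
          (bcPointMulEquiv z H T).apply_symm_apply _, h1]
      have h3 := h ((Over.map z).obj T) T.hom rfl _ h2
      exact mul_inv_eq_one.mp ((bcPointMulEquiv z H T).symm.injective (h3.trans (map_one _).symm))
    exact inferInstanceAs (Mono ((Over.forget Z).map ((Over.pullback z).map u)))

/-- The locus where a homomorphism out of a group of multiplicative type is a monomorphism is clopen. -/
theorem exists_clopen_mono (u : H ⟶ G) [IsMonHom u] [LocallyOfFiniteType H.hom] (hH : HasChartsFpqc anyM H)
    [IsClosedImmersion η[G].left] [LocallyOfFinitePresentation (pullback.fst u.left η[G].left)] :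
    ∃ U : S.Opens, IsClosed (U : Set S) ∧
      (∀ s : S, s ∈ U ↔ Mono ((Over.pullback (S.fromSpecResidueField s)).map u).left) ∧
      Mono ((Over.pullback U.ι).map u).left := by
  set T : Set S := {s | Mono ((Over.pullback (S.fromSpecResidueField s)).map u).left}
  have hchart : ∀ (R : Type u) [CommRing R] (f : Spec (CommRingCat.of R) ⟶ S), HasChart anyM H f →
      IsClopen (f.base ⁻¹' T) := by
    intro R _ f hf
    obtain ⟨M, inst, -, ⟨e⟩⟩ := hf
    letI := inst
    obtain ⟨I, hfg, hI⟩ := exists_kernel_ideal f e u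
    obtain ⟨Γ, hΓc, hΓ⟩ := exists_locallyConstant_kernel f e u I hI hfg
    have hset : f.base ⁻¹' T = Γ ⁻¹' {⊤} := by
      ext P
      let P' : PrimeSpectrum R := P
      set L := P'.asIdeal.ResidueField
      set σ := algebraMap R L
      have hpt : (Spec.map (CommRingCat.ofHom σ)).base (IsLocalRing.closedPoint L) = P := by
        apply PrimeSpectrum.ext
        change Ideal.comap σ (IsLocalRing.maximalIdeal L) = P'.asIdeal
        rw [IsLocalRing.maximalIdeal_eq_bot, ← RingHom.ker_eq_comap_bot, Ideal.ker_algebraMap_residueField]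
      have h1 : Mono ((Over.pullback (Spec.map (CommRingCat.ofHom σ) ≫ f)).map u).left ↔ f.base P ∈ T := by
        have h0 := pAt_field_iff (MorphismProperty.monomorphisms Scheme.{u}) u (L := L)
          (Spec.map (CommRingCat.ofHom σ) ≫ f)
        rw [Scheme.Hom.comp_apply, hpt] at h0
        exact h0
      have hker : (⟨RingHom.ker σ, RingHom.ker_isPrime σ⟩ : PrimeSpectrum R) = P' :=
        PrimeSpectrum.ext P'.asIdeal.ker_algebraMap_residueField
      refine h1.symm.trans ((mono_pullback_iff u _).trans ?_)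
      constructor
      · intro hm
        refine (Subgroup.eq_top_iff' _).mpr fun γ => ?_
        set C := MonoidAlgebra L (Multiplicative M ⧸ Γ P')
        set χ : Multiplicative M →* C := (MonoidAlgebra.of L _).comp (QuotientGroup.mk' (Γ P'))
        set h : L →+* C := MonoidAlgebra.singleOneRingHom
        have hk : Kills I (h.comp σ) χ := (hΓ L σ C h χ).mpr fun δ hδ => by
          rw [hker] at hδ
          rw [MonoidHom.comp_apply, show QuotientGroup.mk' (Γ P') δ = 1 from (QuotientGroup.eq_one_iff δ).mpr hδ,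
            map_one]
        have h2 := hm ((Over.map f).obj (Over.mk (Spec.map (CommRingCat.ofHom (h.comp σ)))))
          (Spec.map (CommRingCat.ofHom h)) (by
            change _ = Spec.map (CommRingCat.ofHom (h.comp σ)) ≫ f
            rw [CommRingCat.ofHom_comp, Spec.map_comp, Category.assoc]) _ ((hI C _ χ).mp hk)
        have h3 := DFunLike.congr_fun (ptG_injective f e _ (h2.trans (ptG_one f e _).symm)) γ
        exact (QuotientGroup.eq_one_iff γ).mp (MonoidAlgebra.of_injective
          (h3.trans (map_one (MonoidAlgebra.of L (Multiplicative M ⧸ Γ P'))).symm))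
      · intro htop Y τ hτ g hg
        apply Over.OverMorphism.ext
        refine Scheme.hom_ext_of_forall _ _ fun p => ?_
        obtain ⟨V, hV, hpV, -⟩ := exists_isAffineOpen_mem_and_subset (TopologicalSpace.Opens.mem_top p)
        refine ⟨V, hpV, ?_⟩
        set h : L →+* Γ(Y.left, V) := (Spec.preimage (hV.fromSpec ≫ τ)).hom
        have hh : Spec.map (CommRingCat.ofHom h) = hV.fromSpec ≫ τ := by
          rw [CommRingCat.ofHom_hom, Spec.map_preimage]
        let j : (Over.map f).obj (Over.mk (Spec.map (CommRingCat.ofHom (h.comp σ)))) ⟶ Y :=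
          Over.homMk hV.fromSpec (by
            change hV.fromSpec ≫ Y.hom = Spec.map (CommRingCat.ofHom (h.comp σ)) ≫ f
            rw [CommRingCat.ofHom_comp, Spec.map_comp, hh, ← hτ, Category.assoc, Category.assoc])
        obtain ⟨χ, hχ⟩ := exists_ptG_eq f e (Spec.map (CommRingCat.ofHom (h.comp σ))) (j ≫ g)
        have hk : Kills I (h.comp σ) χ := (hI _ _ χ).mpr (by
          rw [hχ, Category.assoc, hg, MonObj.comp_one])
        have hχ1 : χ = 1 := MonoidHom.ext fun γ => (hΓ L σ _ h χ).mp hk γ (by
          rw [hker, show Γ P' = ⊤ from htop]; trivial)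
        have h3 : j ≫ g = j ≫ 1 := by rw [← hχ, hχ1, ptG_one, MonObj.comp_one]
        have h4 : hV.fromSpec ≫ g.left = hV.fromSpec ≫ (1 : Y ⟶ H).left := congrArg (fun t => t.left) h3
        rw [← IsAffineOpen.isoSpec_hom_fromSpec hV, Category.assoc, Category.assoc, h4]
    rw [hset]
    exact hΓc.isClopen_fiber ⊤
  have hclopen : IsClopen T := by
    refine isClopen_of_coverBy (P := fun _ f => HasChart anyM H f) (fun V hV => hH.coverBy V hV) T fun {W} _ f hf => ?_
    have h1 := hchart Γ(W, ⊤) (W.isoSpec.inv ≫ f) (hf.precomp W.isoSpec.inv _ rfl)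
    have h2 : f.base ⁻¹' T = W.isoSpec.hom.base ⁻¹' ((W.isoSpec.inv ≫ f).base ⁻¹' T) := by
      rw [← Set.preimage_comp, ← TopCat.coe_comp, ← Scheme.Hom.comp_base, Iso.hom_inv_id_assoc]
    rw [h2]
    exact h1.preimage W.isoSpec.hom.base.hom.continuous
  set U : S.Opens := ⟨T, hclopen.isOpen⟩
  refine ⟨U, hclopen.isClosed, fun s => Iff.rfl, ?_⟩
  have : LocallyOfFiniteType (Red.bc U.ι H).hom := inferInstanceAs (LocallyOfFiniteType (pullback.snd H.hom U.ι))
  have : Mono ((Over.pullback U.ι).map u) := mono_of_fibres ((Over.pullback U.ι).map u) fun x => by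
    refine (pAt_comp (MorphismProperty.monomorphisms Scheme.{u}) u U.ι _).mp ?_
    have h0 := pAt_field_iff (MorphismProperty.monomorphisms Scheme.{u}) u (L := (U : Scheme.{u}).residueField x)
      ((U : Scheme.{u}).fromSpecResidueField x ≫ U.ι)
    rw [Scheme.Hom.comp_apply, Scheme.fromSpecResidueField_apply] at h0
    exact h0.mpr x.2
  exact inferInstanceAs (Mono ((Over.forget _).map ((Over.pullback U.ι).map u)))

end GrothLib.DiagGrp
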