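import Groth.Agent.Lib.DiagGrp.ProductChart
import Groth.Agent.Lib.DiagGrp.KernelLocus

/-!
The locus where two subgroups of multiplicative type, one of them central, coincide.
-/

universe u

open CategoryTheory MonoidalCategory CartesianMonoidalCategory MonObj GrpObj AlgebraicGeometry
open CategoryTheory.Limits

namespace GrothLib.DiagGrp

variable {S : Scheme.{u}}

/-- The product of two homomorphisms, the first central. -/
theorem isMonHom_mul_central {H₁ H₂ G : Over S} [GrpObj H₁] [GrpObj H₂] [GrpObj G] (i₁ : H₁ ⟶ G) [IsMonHom i₁]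
    (i₂ : H₂ ⟶ G) [IsMonHom i₂]
    (hc : ∀ (X : Over S) (g : X ⟶ G) (h : X ⟶ H₁), g * (h ≫ i₁) = (h ≫ i₁) * g) :
    IsMonHom ((fst H₁ H₂ ≫ i₁) * (snd H₁ H₂ ≫ i₂)) := isMonHom_of_points _ fun Y a b => by
  simp only [MonObj.comp_mul, MonObj.mul_comp, ← Category.assoc]
  exact Commute.mul_mul_mul_comm ((hc Y ((a ≫ snd H₁ H₂) ≫ i₂) (b ≫ fst H₁ H₂)).symm) _ _

section Graph

variable {M M' : Type} [AddCommGroup M] [AddCommGroup M']

/-- The graph of a homomorphism of character groups. -/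
def graphSub (φ : M' →+ M) : Subgroup (Multiplicative (M × M')) :=
  AddSubgroup.toSubgroup (AddMonoidHom.fst M M' - φ.comp (AddMonoidHom.snd M M')).ker

theorem mem_graphSub {φ : M' →+ M} {x : Multiplicative (M × M')} :
    x ∈ graphSub φ ↔ x.toAdd.1 = φ x.toAdd.2 := by
  change x.toAdd.1 - φ x.toAdd.2 = 0 ↔ _
  exact sub_eq_zero

/-- The character on the first factor. -/
def chFst {C : Type u} [CommMonoid C] (χ : Multiplicative (M × M') →* C) : Multiplicative M →* C :=
  χ.comp (AddMonoidHom.toMultiplicative (AddMonoidHom.inl M M'))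

/-- The character on the second factor. -/
def chSnd {C : Type u} [CommMonoid C] (χ : Multiplicative (M × M') →* C) : Multiplicative M' →* C :=
  χ.comp (AddMonoidHom.toMultiplicative (AddMonoidHom.inr M M'))

theorem graph_iff (φ : M' →+ M) {C : Type u} [CommMonoid C] (χ : Multiplicative (M × M') →* C) :
    (∀ γ ∈ graphSub φ, χ γ = 1) ↔ (chFst χ).comp (AddMonoidHom.toMultiplicative φ) * chSnd χ = 1 := by
  constructor
  · intro h
    refine MonoidHom.ext fun m => ?_
    change χ (Multiplicative.ofAdd (φ m.toAdd, (0 : M'))) * χ (Multiplicative.ofAdd ((0 : M), m.toAdd)) = 1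
    rw [← map_mul]
    refine h _ (mem_graphSub.mpr ?_)
    simp
  · intro h γ hγ
    have h1 := DFunLike.congr_fun h (Multiplicative.ofAdd γ.toAdd.2)
    change χ (Multiplicative.ofAdd (φ γ.toAdd.2, (0 : M'))) * χ (Multiplicative.ofAdd ((0 : M), γ.toAdd.2)) = 1 at h1
    rw [← map_mul, ← mem_graphSub.mp hγ] at h1
    convert h1 using 2
    change γ = Multiplicative.ofAdd ((γ.toAdd.1, (0 : M')) + ((0 : M), γ.toAdd.2))
    rw [Prod.mk_add_mk, _root_.add_zero, _root_.zero_add]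
    rfl

end Graph

/-- Subgroups are determined by the characters trivial on them. -/
theorem subgroup_eq_of_characters {G : Type} [CommGroup G] {L : Type u} [CommRing L] [Nontrivial L] (Γ Δ : Subgroup G)
    (h : ∀ (C : Type u) [CommRing C], (L →+* C) → ∀ χ : G →* C,
      (∀ γ ∈ Γ, χ γ = 1) ↔ (∀ γ ∈ Δ, χ γ = 1)) : Γ = Δ := by
  have key : ∀ K K' : Subgroup G, (∀ (C : Type u) [CommRing C], (L →+* C) → ∀ χ : G →* C,
      (∀ γ ∈ K, χ γ = 1) → ∀ γ ∈ K', χ γ = 1) → K' ≤ K := fun K K' hK γ hγ => by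
    have h1 := hK (MonoidAlgebra L (G ⧸ K)) MonoidAlgebra.singleOneRingHom
      ((MonoidAlgebra.of L _).comp (QuotientGroup.mk' K)) (fun δ hδ => by
        rw [MonoidHom.comp_apply, show QuotientGroup.mk' K δ = 1 from (QuotientGroup.eq_one_iff δ).mpr hδ, map_one]) γ hγ
    exact (QuotientGroup.eq_one_iff γ).mp
      (MonoidAlgebra.of_injective (h1.trans (map_one (MonoidAlgebra.of L (G ⧸ K))).symm))
  exact le_antisymm (key Δ Γ fun C _ hC χ => (h C hC χ).mpr) (key Γ Δ fun C _ hC χ => (h C hC χ).mp)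

/-- Where the locally constant subgroup is constant, its characters lie in the kernel. -/
theorem kills_of_const {H G : Over S} [GrpObj H] [GrpObj G] {R : Type u} [CommRing R]
    (f : Spec (CommRingCat.of R) ⟶ S) {M : Type} [AddCommGroup M]
    (e : Grp.mk (Red.bc f H) ≅ Grp.mk (Red.DS (Spec (CommRingCat.of R)) M)) (u : H ⟶ G) [IsMonHom u]
    (I : Ideal (MonoidAlgebra R (Multiplicative M)))
    (hI : ∀ (C : Type u) [CommRing C] (σ : R →+* C) (χ : Multiplicative M →* C),
      Kills I σ χ ↔ ptG f e (Spec.map (CommRingCat.ofHom σ)) χ ≫ u = 1)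
    (hfg : I.FG) (Γ : PrimeSpectrum R → Subgroup (Multiplicative M))
    (hΓ : ∀ (L : Type u) [Field L] (σ : R →+* L) (C : Type u) [CommRing C] (h : L →+* C) (χ : Multiplicative M →* C),
      Kills I (h.comp σ) χ ↔ ∀ γ ∈ Γ ⟨RingHom.ker σ, RingHom.ker_isPrime σ⟩, χ γ = 1)
    (Γ₀ : Subgroup (Multiplicative M)) {C : Type u} [CommRing C] (σ : R →+* C)
    (hσ : ∀ Q : PrimeSpectrum C, Γ (PrimeSpectrum.comap σ Q) = Γ₀) (χ : Multiplicative M →* C)
    (hχ : ∀ γ ∈ Γ₀, χ γ = 1) : Kills I σ χ := by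
  obtain ⟨ε, hε, hiff⟩ := exists_idempotent_contains f e u I hI hfg Γ₀
  have hall : ∀ Q : PrimeSpectrum C, σ ε ∈ Q.asIdeal := fun Q => by
    rw [← Ideal.algebraMap_residueField_eq_zero, ← RingHom.comp_apply, hiff]
    intro C' _ h χ' hχ'
    set τ := (algebraMap C Q.asIdeal.ResidueField).comp σ
    have hq : (⟨RingHom.ker τ, RingHom.ker_isPrime τ⟩ : PrimeSpectrum R) = PrimeSpectrum.comap σ Q :=
      PrimeSpectrum.ext (by
        change RingHom.ker τ = Ideal.comap σ Q.asIdeal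
        rw [← RingHom.comap_ker, Ideal.ker_algebraMap_residueField])
    refine (hΓ _ τ C' h χ').mpr fun γ hγ => hχ' γ ?_
    rw [← hσ Q, ← hq]
    exact hγ
  have h0 : σ ε = 0 := (hε.map σ).eq_zero_of_isNilpotent
    (nilpotent_iff_mem_prime.mpr fun J hJ => hall ⟨J, hJ⟩)
  exact (hiff C σ).mp h0 C (RingHom.id C) χ hχ

section Pair

variable {A : Type u} [CommRing A] {M M' : Type} [AddCommGroup M] [AddCommGroup M']
  {G H₁ H₂ : Over S} [GrpObj G] [GrpObj H₁] [GrpObj H₂] (f : Spec (CommRingCat.of A) ⟶ S)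
  (e₁ : Grp.mk (Red.bc f H₁) ≅ Grp.mk (Red.DS (Spec (CommRingCat.of A)) M))
  (e₂ : Grp.mk (Red.bc f H₂) ≅ Grp.mk (Red.DS (Spec (CommRingCat.of A)) M'))
  (i₁ : H₁ ⟶ G) [IsMonHom i₁] [Mono i₁] (i₂ : H₂ ⟶ G) [IsMonHom i₂] [Mono i₂]
  (hc : ∀ (X : Over S) (g : X ⟶ G) (h : X ⟶ H₁), g * (h ≫ i₁) = (h ≫ i₁) * g)
  [IsSeparated G.hom] [LocallyOfFiniteType (H₁ ⊗ H₂).hom]

include e₁ e₂ hc in
/-- On a chart the coincidence locus is clopen and the subgroups coincide above it. -/
theorem factor_locus_chart (hG : IsLocallyNoetherian S ∨ LocallyOfFinitePresentation G.hom)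
    (hM' : AddGroup.FG M') :
    IsClopen (f.base ⁻¹' {s | Factor i₁ i₂ (S.fromSpecResidueField s) ∧ Factor i₂ i₁ (S.fromSpecResidueField s)}) ∧
    ((∀ x, Factor i₁ i₂ (S.fromSpecResidueField (f.base x)) ∧ Factor i₂ i₁ (S.fromSpecResidueField (f.base x))) →
      Factor i₁ i₂ f ∧ Factor i₂ i₁ f) := by
  haveI := isMonHom_mul_central i₁ i₂ hc
  haveI := isClosedImmersion_one G
  haveI := kernel_lfp ((fst H₁ H₂ ≫ i₁) * (snd H₁ H₂ ≫ i₂)) hG
  set u := (fst H₁ H₂ ≫ i₁) * (snd H₁ H₂ ≫ i₂)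
  obtain ⟨e, he⟩ := exists_prod_chart f e₁ e₂
  obtain ⟨I, hfg, hI⟩ := exists_kernel_ideal f e u
  obtain ⟨Γ, hΓc, hΓ⟩ := exists_locallyConstant_kernel f e u I hI hfg
  let a : Red.bc f H₁ ≅ Red.DS (Spec (CommRingCat.of A)) M := (Grp.forget _).mapIso e₁
  let b : Red.bc f H₂ ≅ Red.DS (Spec (CommRingCat.of A)) M' := (Grp.forget _).mapIso e₂
  haveI : IsMonHom a.inv := e₁.inv.hom.isMonHom_hom
  haveI : IsMonHom b.inv := e₂.inv.hom.isMonHom_hom
  haveI : (Over.pullback f).IsRightAdjoint := (Over.mapPullbackAdj f).isRightAdjoint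
  set j₁ : Red.DS (Spec (CommRingCat.of A)) M ⟶ Red.bc f G := a.inv ≫ (Over.pullback f).map i₁
  set j₂ : Red.DS (Spec (CommRingCat.of A)) M' ⟶ Red.bc f G := b.inv ≫ (Over.pullback f).map i₂
  -- the kernel in terms of the two characters
  have hkey : ∀ (C : Type u) [CommRing C] (σ : A →+* C) (χ : Multiplicative (M × M') →* C),
      Kills I σ χ ↔ (dsPoint M (Spec.map (CommRingCat.ofHom σ)) (chFst χ) ≫ j₁) *
        (dsPoint M' (Spec.map (CommRingCat.ofHom σ)) (chSnd χ) ≫ j₂) = 1 := by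
    intro C _ σ χ
    set p := Spec.map (CommRingCat.ofHom σ)
    rw [hI]
    have h1 : ptG f e p χ ≫ u = (ptG f e₁ p (chFst χ) ≫ i₁) * (ptG f e₂ p (chSnd χ) ≫ i₂) := by
      rw [MonObj.comp_mul, ← Category.assoc, ← Category.assoc, (he C p χ).1, (he C p χ).2]
      rfl
    rw [h1, ← (bcPointMulEquiv f G (Over.mk p)).injective.eq_iff, map_mul, map_one]
    refine Iff.of_eq (congrArg (· = 1) (congrArg₂ (· * ·) ?_ ?_))
    · change bcPoint f G _ (_ ≫ i₁) = _
      rw [bcPoint_comp_right, ptG_comp_hom, Category.assoc]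
      rfl
    · change bcPoint f G _ (_ ≫ i₂) = _
      rw [bcPoint_comp_right, ptG_comp_hom, Category.assoc]
      rfl
  haveI : IsMonHom j₁ := inferInstanceAs (IsMonHom (a.inv ≫ (Over.pullback f).map i₁))
  haveI : IsMonHom j₂ := inferInstanceAs (IsMonHom (b.inv ≫ (Over.pullback f).map i₂))
  -- residue fields
  have hres : ∀ (P : PrimeSpectrum A) (L : Type u) [Field L] (σ : A →+* L), RingHom.ker σ = P.asIdeal →
      ((Factor i₁ i₂ (S.fromSpecResidueField (f.base P)) ∧ Factor i₂ i₁ (S.fromSpecResidueField (f.base P))) ↔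
      (Factor j₁ j₂ (Spec.map (CommRingCat.ofHom σ)) ∧ Factor j₂ j₁ (Spec.map (CommRingCat.ofHom σ)))) := by
    intro P L _ σ hσ
    have hpt : (Spec.map (CommRingCat.ofHom σ) ≫ f).base (IsLocalRing.closedPoint L) = f.base P := by
      rw [Scheme.Hom.comp_apply]
      refine congrArg f.base (PrimeSpectrum.ext ?_)
      change Ideal.comap σ (IsLocalRing.maximalIdeal L) = P.asIdeal
      rw [IsLocalRing.maximalIdeal_eq_bot, ← RingHom.ker_eq_comap_bot, hσ]
    have h1 := pAt_field_iff (MorphismProperty.isomorphisms Scheme.{u}) (pullback.fst i₁ i₂) (L := L)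
      (Spec.map (CommRingCat.ofHom σ) ≫ f)
    have h2 := pAt_field_iff (MorphismProperty.isomorphisms Scheme.{u}) (pullback.fst i₂ i₁) (L := L)
      (Spec.map (CommRingCat.ofHom σ) ≫ f)
    rw [hpt] at h1 h2
    refine and_congr ?_ ?_
    · exact ((factor_iff_isIso i₁ i₂ _).trans (h1.symm.trans (factor_iff_isIso i₁ i₂ _).symm)).trans
        (factor_chart_iff f a b i₁ i₂ _).symm
    · exact ((factor_iff_isIso i₂ i₁ _).trans (h2.symm.trans (factor_iff_isIso i₂ i₁ _).symm)).trans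
        (factor_chart_iff f b a i₂ i₁ _).symm
  -- the coincidence points are those where the subgroup is a graph
  have hgraph : ∀ P : PrimeSpectrum A,
      (Factor i₁ i₂ (S.fromSpecResidueField (f.base P)) ∧ Factor i₂ i₁ (S.fromSpecResidueField (f.base P))) →
      ∃ φ : M' →+ M, Function.Bijective φ ∧ Γ P = graphSub φ := by
    intro P hP
    set L := P.asIdeal.ResidueField
    set σ := algebraMap A L
    obtain ⟨hf, hf'⟩ := (hres P L σ P.asIdeal.ker_algebraMap_residueField).mp hP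
    obtain ⟨φ, hφ, U, hzU, hU⟩ := exists_char_of_factor j₁ j₂ hM' (Spec.map (CommRingCat.ofHom σ)) hf hf'
      (IsLocalRing.closedPoint L)
    haveI : Subsingleton ↥(Spec (CommRingCat.of L)) := inferInstanceAs (Subsingleton (PrimeSpectrum L))
    obtain rfl : U = ⊤ := TopologicalSpace.Opens.ext (Set.eq_univ_of_forall fun x => by
      rw [Subsingleton.elim x (IsLocalRing.closedPoint L)]
      exact hzU)
    have hT : TrivOver ((Red.DSmap _ φ ≫ j₂) * j₁⁻¹) (Spec.map (CommRingCat.ofHom σ)) :=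
      hU.precomp (Scheme.topIso _).inv _ (by simp)
    refine ⟨φ, hφ, subgroup_eq_of_characters (L := L) _ _ fun C _ h χ => ?_⟩
    have hker : (⟨RingHom.ker σ, RingHom.ker_isPrime σ⟩ : PrimeSpectrum A) = P :=
      PrimeSpectrum.ext P.asIdeal.ker_algebraMap_residueField
    have h1 := hΓ L σ C h χ
    rw [hker, hkey] at h1
    rw [← h1, graph_iff]
    set p := Spec.map (CommRingCat.ofHom (h.comp σ))
    have h2 := hT (Over.mk p) (Spec.map (CommRingCat.ofHom h)) (by
      change _ = p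
      rw [← Spec.map_comp, ← CommRingCat.ofHom_comp]) (dsPoint M p (chFst χ))
    rw [MonObj.comp_mul, GrpObj.comp_inv, mul_inv_eq_one, ← Category.assoc, dsPoint_DSmap] at h2
    rw [← h2]
    have h3 : dsPoint M' p ((chFst χ).comp (AddMonoidHom.toMultiplicative φ) * chSnd χ) ≫ j₂ =
        (dsPoint M' p ((chFst χ).comp (AddMonoidHom.toMultiplicative φ)) ≫ j₂) * (dsPoint M' p (chSnd χ) ≫ j₂) :=
      (congrArg (· ≫ j₂) (map_mul _ _ _)).trans (MonObj.mul_comp _ _ j₂)
    rw [← h3]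
    constructor
    · intro h4
      have h5 : dsPoint M' p ((chFst χ).comp (AddMonoidHom.toMultiplicative φ) * chSnd χ) ≫ j₂ =
          dsPoint M' p 1 ≫ j₂ := h4.trans ((congrArg (· ≫ j₂) (map_one _)).trans (MonObj.one_comp j₂)).symm
      exact (dsPoint M' p).injective ((cancel_mono j₂).mp h5)
    · intro h4
      rw [h4]
      exact (congrArg (· ≫ j₂) (map_one _)).trans (MonObj.one_comp j₂)
  -- over such a locus the subgroups coincide
  have hover : ∀ (φ : M' →+ M), Function.Bijective φ → ∀ V : (Spec (CommRingCat.of A)).Opens,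
      (∀ Q ∈ V, Γ Q = graphSub φ) → Factor i₁ i₂ (V.ι ≫ f) ∧ Factor i₂ i₁ (V.ι ≫ f) := by
    intro φ hφ V hV
    have hT : TrivOver ((Red.DSmap _ φ ≫ j₂) * j₁⁻¹) V.ι := by
      refine trivOver_of_affine _ _ fun C _ t g => ?_
      set σ : A →+* C := (Spec.preimage (t ≫ V.ι)).hom
      have hσ : Spec.map (CommRingCat.ofHom σ) = t ≫ V.ι := by rw [CommRingCat.ofHom_hom, Spec.map_preimage]
      have hmem : ∀ Q : PrimeSpectrum C, Γ (PrimeSpectrum.comap σ Q) = graphSub φ := fun Q => by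
        refine hV _ ?_
        change (Spec.map (CommRingCat.ofHom σ)).base Q ∈ V
        rw [hσ, Scheme.Hom.comp_apply]
        exact (t.base Q).2
      have key : ∀ q : Spec (CommRingCat.of C) ⟶ Spec (CommRingCat.of A), q = Spec.map (CommRingCat.ofHom σ) →
          ∀ g : Over.mk q ⟶ Red.DS (Spec (CommRingCat.of A)) M, g ≫ ((Red.DSmap _ φ ≫ j₂) * j₁⁻¹) = 1 := by
        rintro _ rfl g
        obtain ⟨χ₁, rfl⟩ := (dsPoint M (Spec.map (CommRingCat.ofHom σ))).surjective g
        let ψ : Multiplicative M' →* Cˣ := (χ₁.comp (AddMonoidHom.toMultiplicative φ)).toHomUnits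
        let χ : Multiplicative (M × M') →* C :=
          (χ₁.coprod ((Units.coeHom C).comp ψ⁻¹)).comp (MulEquiv.prodMultiplicative M M').toMonoidHom
        have e1 : chFst χ = χ₁ := MonoidHom.ext fun m => by
          change χ₁ m * ((ψ 1)⁻¹ : Cˣ) = χ₁ m
          rw [map_one, inv_one, Units.val_one, _root_.mul_one]
        have e2 : (chFst χ).comp (AddMonoidHom.toMultiplicative φ) * chSnd χ = 1 := MonoidHom.ext fun m => by
          rw [MonoidHom.mul_apply, e1]
          change χ₁.comp (AddMonoidHom.toMultiplicative φ) m * (χ₁ 1 * ((ψ m)⁻¹ : Cˣ)) = 1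
          rw [map_one, _root_.one_mul, show χ₁.comp (AddMonoidHom.toMultiplicative φ) m = (ψ m : C) from rfl,
            Units.mul_inv]
        have h1 := (hkey C σ χ).mp (kills_of_const f e u I hI hfg Γ hΓ _ σ hmem χ ((graph_iff φ χ).mpr e2))
        rw [MonObj.comp_mul, GrpObj.comp_inv, ← Category.assoc, dsPoint_DSmap, mul_inv_eq_one]
        have h2 := congrArg (fun z => dsPoint M' (Spec.map (CommRingCat.ofHom σ)) z ≫ j₂) e2
        simp only [map_mul, map_one, MonObj.mul_comp, MonObj.one_comp] at h2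
        rw [e1] at h1 h2
        exact mul_right_cancel (h2.trans h1.symm)
      exact key _ hσ.symm g
    obtain ⟨hf, hf'⟩ := factor_of_trivOver j₁ j₂ φ hφ V.ι hT
    exact ⟨(factor_chart_iff f a b i₁ i₂ _).mp hf, (factor_chart_iff f b a i₂ i₁ _).mp hf'⟩
  have hset : f.base ⁻¹' {s | Factor i₁ i₂ (S.fromSpecResidueField s) ∧ Factor i₂ i₁ (S.fromSpecResidueField s)} =
      Γ ⁻¹' {Δ | ∃ φ : M' →+ M, Function.Bijective φ ∧ Δ = graphSub φ} := by
    ext P
    refine ⟨fun h => hgraph P h, ?_⟩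
    rintro ⟨φ, hφ, hP⟩
    let V : (Spec (CommRingCat.of A)).Opens := ⟨{Q | Γ Q = graphSub φ}, hΓc.isOpen_fiber _⟩
    obtain ⟨hf, hf'⟩ := hover φ hφ V fun Q hQ => hQ
    set L := (P : PrimeSpectrum A).asIdeal.ResidueField
    set σ := algebraMap A L
    refine (hres P L σ (Ideal.ker_algebraMap_residueField _)).mpr ?_
    have hr : Set.range (Spec.map (CommRingCat.ofHom σ)).base ⊆ Set.range V.ι.base := by
      rintro _ ⟨z, rfl⟩
      rw [V.range_ι]
      suffices (Spec.map (CommRingCat.ofHom σ)).base z = P by rw [this]; exact hP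
      refine PrimeSpectrum.ext ?_
      change Ideal.comap σ (z : PrimeSpectrum L).asIdeal = _
      rw [((z : PrimeSpectrum L).asIdeal.eq_bot_or_top).resolve_right (z : PrimeSpectrum L).isPrime.ne_top,
        ← RingHom.ker_eq_comap_bot,
        Ideal.ker_algebraMap_residueField]
    have hfac : Spec.map (CommRingCat.ofHom σ) ≫ f =
        IsOpenImmersion.lift V.ι _ hr ≫ V.ι ≫ f := by rw [IsOpenImmersion.lift_fac_assoc]
    exact ⟨(factor_chart_iff f a b i₁ i₂ _).mpr (hf.precomp _ _ hfac),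
      (factor_chart_iff f b a i₂ i₁ _).mpr (hf'.precomp _ _ hfac)⟩
  refine ⟨?_, fun hall => ?_⟩
  · rw [hset]
    exact ⟨⟨hΓc {Δ | ∃ φ : M' →+ M, Function.Bijective φ ∧ Δ = graphSub φ}ᶜ⟩, hΓc _⟩
  · choose φ hφ hP using fun P => hgraph P (hall P)
    let V : (Spec (CommRingCat.of A)) → (Spec (CommRingCat.of A)).Opens := fun P =>
      ⟨{Q | Γ Q = graphSub (φ P)}, hΓc.isOpen_fiber _⟩
    have hV : TopologicalSpace.IsOpenCover V := TopologicalSpace.IsOpenCover.mk
      (eq_top_iff.mpr fun P _ => TopologicalSpace.Opens.mem_iSup.mpr ⟨P, hP P⟩)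
    constructor
    · refine (factor_iff_isIso i₁ i₂ f).mpr (of_baseCover (MorphismProperty.isomorphisms Scheme.{u}) _ f
        (Scheme.openCoverOfIsOpenCover _ V hV) fun P => ?_)
      exact (factor_iff_isIso i₁ i₂ _).mp (hover (φ P) (hφ P) (V P) fun Q hQ => hQ).1
    · refine (factor_iff_isIso i₂ i₁ f).mpr (of_baseCover (MorphismProperty.isomorphisms Scheme.{u}) _ f
        (Scheme.openCoverOfIsOpenCover _ V hV) fun P => ?_)
      exact (factor_iff_isIso i₂ i₁ _).mp (hover (φ P) (hφ P) (V P) fun Q hQ => hQ).2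

end Pair

end GrothLib.DiagGrp
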