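import Groth.Agent.Lib.DiagGrp.TrivialLocus
import Groth.Agent.Lib.DiagGrp.BaseChange
import Groth.Agent.Lib.DiagGrp.SubgroupEq
import Groth.Agent.Lib.FlatFactor.OrbitImmersion
import Groth.Prelude.Def_ChGrp

/-!
Rigidity: a family over a connected group of homomorphisms between groups of multiplicative type which
is trivial at the unit is trivial.
-/

universe u

open CategoryTheory MonoidalCategory CartesianMonoidalCategory MonObj GrpObj AlgebraicGeometry

namespace GrothLib.DiagGrp

variable {k : Type u} [Field k] {G A B : Over (Spec (CommRingCat.of k))} [GrpObj G] [GrpObj A] [GrpObj B]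

/-- A bi-pointed family of homomorphisms of groups of multiplicative type over a connected group is trivial. -/
theorem bihom_trivial [ConnectedSpace G.left] (hA : SGA3x.IsMultTypeFT A) (hB : SGA3x.IsMultTypeFT B)
    (d : G ⊗ A ⟶ B)
    (hd : ∀ (T : Over (Spec (CommRingCat.of k))) (g : T ⟶ G) (x y : T ⟶ A),
      lift g (x * y) ≫ d = (lift g x ≫ d) * (lift g y ≫ d))
    (hd1 : ∀ (T : Over (Spec (CommRingCat.of k))) (x : T ⟶ A), lift (1 : T ⟶ G) x ≫ d = 1)
    (T : Over (Spec (CommRingCat.of k))) (g : T ⟶ G) (h : T ⟶ A) : lift g h ≫ d = 1 := by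
  classical
  set z := G.hom
  have hHc : HasChartsFpqc fgM B := hasChartsFpqc_of_isMultTypeFT hB
  have hWc := hHc.baseChange z
  have hη : IsClosedImmersion η[Red.bc z B].left := isClosedImmersion_one_of_charts hWc
  -- universal difference
  let gpt : ∀ {T : Over G.left}, (Over.map z).obj T ⟶ G := fun {T} => Over.homMk T.hom rfl
  let hp : (Over.map z).obj (Red.bc z A) ⟶ A := (bcPoint z A (Red.bc z A)).symm (𝟙 _)
  let u : Red.bc z A ⟶ Red.bc z B := bcPoint z B (Red.bc z A) (lift gpt hp ≫ d)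
  have hu : ∀ (Y : Over G.left) (σ : Y ⟶ Red.bc z A), σ ≫ u = bcPointMulEquiv z B Y
      (lift gpt ((bcPointMulEquiv z A Y).symm σ) ≫ d) := by
    intro Y σ
    have h1 : (bcPointMulEquiv z A Y).symm σ = (Over.map z).map σ ≫ hp := by
      apply (bcPointMulEquiv z A Y).injective
      rw [MulEquiv.apply_symm_apply]
      change σ = bcPoint z A Y ((Over.map z).map σ ≫ hp)
      rw [bcPoint_comp, Equiv.apply_symm_apply, Category.comp_id]
    have h2 : (Over.map z).map σ ≫ gpt = gpt := Over.OverMorphism.ext (Over.w σ)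
    change σ ≫ bcPoint z B (Red.bc z A) _ = bcPoint z B Y _
    rw [← bcPoint_comp, ← Category.assoc, comp_lift, h1, h2]
  have hmon : IsMonHom u := isMonHom_of_points u fun Y x y => by
    rw [hu, hu, hu, map_mul (bcPointMulEquiv z A Y).symm, hd, ← map_mul (bcPointMulEquiv z B Y)]
  have : LocallyOfFiniteType B.hom := locallyOfFiniteType_of_isMultTypeFT hB
  have hlft : LocallyOfFiniteType (Red.bc z B).hom :=
    inferInstanceAs (LocallyOfFiniteType (Limits.pullback.snd B.hom z))
  have hlfpH : LocallyOfFinitePresentation B.hom := lfp_of_isMultTypeFT hB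
  have hlfp' : LocallyOfFinitePresentation (Red.bc z B).hom :=
    inferInstanceAs (LocallyOfFinitePresentation (Limits.pullback.snd B.hom z))
  have hηlfp : LocallyOfFinitePresentation η[Red.bc z B].left := by
    have : LocallyOfFinitePresentation (η[Red.bc z B].left ≫ (Red.bc z B).hom) := by
      rw [Over.w η[Red.bc z B]]
      exact inferInstanceAs (LocallyOfFinitePresentation (𝟙 _))
    exact lfp_of_comp_of_lft _ (Red.bc z B).hom ‹_› inferInstance
  obtain ⟨U, hUcl, hUiff, hUtriv⟩ :=
    exists_clopen_trivial u (((hasChartsFpqc_of_isMultTypeFT hA).baseChange z).mono fun _ _ _ => trivial)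
  have he : TrivOver u η[G].left := by
    intro Y τ hτ σ
    rw [hu]
    have h1 : (gpt : (Over.map z).obj Y ⟶ G) = 1 := by
      apply Over.OverMorphism.ext
      change Y.hom = (toUnit ((Over.map z).obj Y) ≫ η[G]).left
      have h2 : η[G].left ≫ z = 𝟙 _ := Over.w η[G]
      have h3 : Y.hom ≫ z = τ := by rw [← hτ, Category.assoc, h2]; exact Category.comp_id τ
      rw [← hτ]
      exact congrArg (· ≫ η[G].left) h3.symm
    rw [h1, hd1, map_one]
  have heU : η[G].left.base (IsLocalRing.closedPoint k) ∈ U := by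
    rw [hUiff, trivOver_iff_pullback_eq_one, ← trivOver_field_iff u η[G].left]
    exact he
  have hUtop : U = ⊤ := by
    rcases isClopen_iff.mp ⟨hUcl, U.isOpen⟩ with h | h
    · exact absurd heU (by simp [← SetLike.mem_coe, h])
    · exact TopologicalSpace.Opens.ext h
  have htriv : TrivOver u (𝟙 G.left) := by
    subst hUtop
    exact ((trivOver_iff_pullback_eq_one u _).mp hUtriv).precomp (Scheme.topIso G.left).inv _
      ((Scheme.topIso G.left).inv_hom_id.symm)
  let Y : Over G.left := Over.mk g.left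
  let j : (Over.map z).obj Y ⟶ T := Over.homMk (𝟙 _) (by
    change 𝟙 _ ≫ T.hom = g.left ≫ z
    rw [Category.id_comp]; exact (Over.w g).symm)
  have h1 := htriv Y g.left (Category.comp_id _) (bcPointMulEquiv z A Y (j ≫ h))
  rw [hu, MulEquiv.symm_apply_apply] at h1
  have h2 := (bcPointMulEquiv z B Y).injective (h1.trans (map_one _).symm)
  have h3 : (gpt : (Over.map z).obj Y ⟶ G) = j ≫ g := Over.OverMorphism.ext (Category.id_comp g.left).symm
  rw [h3, ← comp_lift, Category.assoc, ← MonObj.comp_one j] at h2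
  apply Over.OverMorphism.ext
  have h4 := congrArg (fun t : (Over.map z).obj Y ⟶ B => t.left) h2
  exact ((Category.id_comp _).symm.trans h4).trans (Category.id_comp _)


theorem epi_left_whiskerLeft {A B : Over (Spec (CommRingCat.of k))} (p : A ⟶ B) [Flat p.left] [Surjective p.left]
    (C : Over (Spec (CommRingCat.of k))) : Flat (C ◁ p).left ∧ Surjective (C ◁ p).left := by
  have sq := GrothLib.GrpSchField.whiskerLeft_snd_isPullback C p
  exact ⟨MorphismProperty.of_isPullback sq.flip ‹Flat p.left›,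
    MorphismProperty.of_isPullback sq.flip ‹Surjective p.left›⟩

theorem epi_left_whiskerRight {A B : Over (Spec (CommRingCat.of k))} (p : A ⟶ B) [Flat p.left] [Surjective p.left]
    (C : Over (Spec (CommRingCat.of k))) : Flat (p ▷ C).left ∧ Surjective (p ▷ C).left := by
  have e : p ▷ C = (β_ A C).hom ≫ (C ◁ p) ≫ (β_ C B).hom := by
    rw [← BraidedCategory.braiding_naturality_left_assoc, SymmetricCategory.symmetry, Category.comp_id]
  obtain ⟨hf, hs⟩ := epi_left_whiskerLeft p C
  have : IsIso (β_ A C).hom.left := inferInstanceAs (IsIso ((Over.forget _).mapIso (β_ A C)).hom)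
  have : IsIso (β_ C B).hom.left := inferInstanceAs (IsIso ((Over.forget _).mapIso (β_ C B)).hom)
  rw [e, Over.comp_left, Over.comp_left]
  exact ⟨inferInstance, inferInstance⟩

/-- Descent of a morphism along a faithfully flat morphism, checked on points. -/
theorem exists_desc {A B Q : Over (Spec (CommRingCat.of k))} (c : A ⟶ B) [Flat c.left] [Surjective c.left]
    [LocallyOfFinitePresentation c.left] (l : A ⟶ Q)
    (w : ∀ (T : Over (Spec (CommRingCat.of k))) (a a' : T ⟶ A), a ≫ c = a' ≫ c → a ≫ l = a' ≫ l) :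
    ∃ d : B ⟶ Q, c ≫ d = l := by
  let d₀ : B.left ⟶ Q.left := EffectiveEpi.desc c.left l.left fun {Z} g₁ g₂ hg => by
    let T : Over (Spec (CommRingCat.of k)) := Over.mk (g₁ ≫ A.hom)
    have h2 : g₂ ≫ A.hom = g₁ ≫ A.hom := by rw [← Over.w c, ← reassoc_of% hg]
    exact congrArg (fun t => t.left) (w T (Over.homMk g₁ rfl) (Over.homMk g₂ h2) (Over.OverMorphism.ext hg))
  have hd : c.left ≫ d₀ = l.left := EffectiveEpi.fac _ _ _
  refine ⟨Over.homMk d₀ ?_, Over.OverMorphism.ext hd⟩
  rw [← cancel_epi c.left, reassoc_of% hd, Over.w l]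
  exact (Over.w c).symm

/-- A family of homomorphisms on a group, constant on cosets of the kernel of a faithfully flat homomorphism
to a group of multiplicative type, and trivial at the unit of the connected parameter group, is trivial. -/
theorem bihom_trivial_of_quot {H Q N : Over (Spec (CommRingCat.of k))} [GrpObj H] [GrpObj Q] [GrpObj N]
    [ConnectedSpace G.left] (p : H ⟶ Q) [IsMonHom p] [Flat p.left] [Surjective p.left]
    [LocallyOfFinitePresentation p.left] (i : N ⟶ H) (hp : AlgGrp.IsKernel i p)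
    (hQ : SGA3x.IsMultTypeFT Q) (hB : SGA3x.IsMultTypeFT B) (l : G ⊗ H ⟶ B)
    (hl : ∀ (T : Over (Spec (CommRingCat.of k))) (g : T ⟶ G) (x y : T ⟶ H),
      lift g (x * y) ≫ l = (lift g x ≫ l) * (lift g y ≫ l))
    (hl1 : ∀ (T : Over (Spec (CommRingCat.of k))) (x : T ⟶ H), lift (1 : T ⟶ G) x ≫ l = 1)
    (hN : ∀ (T : Over (Spec (CommRingCat.of k))) (g : T ⟶ G) (n : T ⟶ N), lift g (n ≫ i) ≫ l = 1)
    (T : Over (Spec (CommRingCat.of k))) (g : T ⟶ G) (h : T ⟶ H) : lift g h ≫ l = 1 := by
  have hlfp : LocallyOfFinitePresentation (G ◁ p).left :=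
    MorphismProperty.of_isPullback (GrothLib.GrpSchField.whiskerLeft_snd_isPullback G p).flip ‹_›
  obtain ⟨_, _⟩ := epi_left_whiskerLeft p G
  obtain ⟨d, hd⟩ := exists_desc (G ◁ p) l fun T a a' haa => by
    obtain ⟨g, x, rfl⟩ : ∃ g x, a = lift g x :=
      ⟨a ≫ fst G H, a ≫ snd G H, by apply CartesianMonoidalCategory.hom_ext <;> simp⟩
    obtain ⟨g', y, rfl⟩ : ∃ g' y, a' = lift g' y :=
      ⟨a' ≫ fst G H, a' ≫ snd G H, by apply CartesianMonoidalCategory.hom_ext <;> simp⟩
    rw [lift_whiskerLeft, lift_whiskerLeft] at haa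
    have hg : g = g' := by simpa using congrArg (· ≫ fst G Q) haa
    have hxy : x ≫ p = y ≫ p := by simpa using congrArg (· ≫ snd G Q) haa
    subst hg
    have hk : (x⁻¹ * y) ≫ p = toUnit T ≫ η[Q] := by
      rw [MonObj.mul_comp, GrpObj.inv_comp, hxy, inv_mul_cancel, Hom.one_def]
    have hn : hp.lift (x⁻¹ * y) (toUnit T) hk ≫ i = x⁻¹ * y := hp.lift_fst _ _ _
    have h0 := hN T g (hp.lift (x⁻¹ * y) (toUnit T) hk)
    rw [hn] at h0
    have h1 := hl T g x (x⁻¹ * y)
    rw [mul_inv_cancel_left, h0, _root_.mul_one] at h1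
    exact h1.symm
  have hpl : ∀ (T : Over (Spec (CommRingCat.of k))) (g : T ⟶ G) (x : T ⟶ H),
      lift g (x ≫ p) ≫ d = lift g x ≫ l := fun T g x => by
    rw [← hd, lift_whiskerLeft_assoc]
  obtain ⟨_, _⟩ := epi_left_whiskerLeft p Q
  obtain ⟨_, _⟩ := epi_left_whiskerRight p H
  obtain ⟨_, _⟩ : Flat ((p ▷ H) ≫ (Q ◁ p)).left ∧ Surjective ((p ▷ H) ≫ (Q ◁ p)).left := by
    rw [Over.comp_left]; exact ⟨inferInstance, inferInstance⟩
  obtain ⟨_, _⟩ := epi_left_whiskerLeft ((p ▷ H) ≫ (Q ◁ p)) G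
  have : Epi (G ◁ ((p ▷ H) ≫ (Q ◁ p))).left := Flat.epi_of_flat_of_surjective _
  have key : lift (fst G (Q ⊗ Q)) (snd G (Q ⊗ Q) ≫ fst Q Q * (snd G (Q ⊗ Q) ≫ snd Q Q)) ≫ d =
      (lift (fst G (Q ⊗ Q)) (snd G (Q ⊗ Q) ≫ fst Q Q) ≫ d) *
        (lift (fst G (Q ⊗ Q)) (snd G (Q ⊗ Q) ≫ snd Q Q) ≫ d) := by
    apply Over.OverMorphism.ext
    rw [← cancel_epi (G ◁ ((p ▷ H) ≫ (Q ◁ p))).left, ← Over.comp_left, ← Over.comp_left]
    apply congrArg (fun t : _ ⟶ B => t.left)
    simp only [MonObj.comp_mul, ← Category.assoc, comp_lift, whiskerLeft_fst, whiskerLeft_snd]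
    simp only [Category.assoc, whiskerLeft_fst, whiskerRight_fst, whiskerLeft_snd, whiskerRight_snd_assoc]
    simp only [← Category.assoc]
    rw [← MonObj.mul_comp, hpl, hpl, hpl]
    exact hl _ _ _ _
  rw [← hpl]
  refine bihom_trivial hQ hB d (fun T g x y => ?_) (fun T x => ?_) T g (h ≫ p)
  · have h1 := congrArg (lift g (lift x y) ≫ ·) key
    simpa [MonObj.comp_mul, comp_lift_assoc] using h1
  · let p' := (toUnit T ≫ η[G] : T ⟶ G)
    have : Epi (Limits.pullback.fst x.left p.left) := Flat.epi_of_flat_of_surjective _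
    let T' : Over (Spec (CommRingCat.of k)) := Over.mk (Limits.pullback.fst x.left p.left ≫ T.hom)
    let j : T' ⟶ T := Over.homMk (Limits.pullback.fst x.left p.left) rfl
    let x' : T' ⟶ H := Over.homMk (Limits.pullback.snd x.left p.left) (by
      change _ = Limits.pullback.fst x.left p.left ≫ T.hom
      rw [← Over.w p, ← Over.w x, Limits.pullback.condition_assoc])
    have hx' : j ≫ x = x' ≫ p := Over.OverMorphism.ext Limits.pullback.condition
    have h2 : j ≫ lift (1 : T ⟶ G) x ≫ d = j ≫ 1 := by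
      rw [comp_lift_assoc, MonObj.comp_one, MonObj.comp_one, hx', hpl, hl1]
    apply Over.OverMorphism.ext
    rw [← cancel_epi (Limits.pullback.fst x.left p.left)]
    exact congrArg (fun t : T' ⟶ B => t.left) h2

end GrothLib.DiagGrp
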