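import Groth.Agent.Lib.DiagGrp.CharHom

/-!
Clopen loci of a homomorphism of groups of multiplicative type, defined by a property of morphisms which
on diagonalisable groups depends on the characters only.
-/

universe u

open CategoryTheory MonoidalCategory CartesianMonoidalCategory MonObj GrpObj AlgebraicGeometry
open CategoryTheory.Limits

namespace GrothLib.DiagGrp

variable {S : Scheme.{u}} {A B : Over S} (P : MorphismProperty Scheme.{u})

theorem pAt_congr (u : A ⟶ B) {W : Scheme.{u}} {f f' : W ⟶ S} (h : f = f')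
    (hP : P ((Over.pullback f).map u).left) : P ((Over.pullback f').map u).left := by subst h; exact hP

theorem pAt_of [P.IsStableUnderBaseChange] (u : A ⟶ B) {W W' : Scheme.{u}} (f : W ⟶ S) (g : W' ⟶ W) (f' : W' ⟶ S)
    (hf : f' = g ≫ f) (h : P ((Over.pullback f).map u).left) : P ((Over.pullback f').map u).left := by
  subst hf
  exact MorphismProperty.of_isPullback (P := P) (isPullback_overMap_bcMor u f g).flip h

theorem pAt_descend [P.DescendsAlong (@Surjective ⊓ @Flat ⊓ @QuasiCompact)] (u : A ⟶ B) {W W' : Scheme.{u}}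
    (f : W ⟶ S) (g : W' ⟶ W) [Surjective g] [Flat g] [QuasiCompact g]
    (h : P ((Over.pullback (g ≫ f)).map u).left) : P ((Over.pullback f).map u).left :=
  MorphismProperty.of_isPullback_of_descendsAlong (P := P)
    (Q := @Surjective ⊓ @Flat ⊓ @QuasiCompact) (isPullback_overMap_bcMor u f g)
    (MorphismProperty.of_isPullback (P := @Surjective ⊓ @Flat ⊓ @QuasiCompact)
      (isPullback_bcMor B f g).flip ⟨⟨inferInstance, inferInstance⟩, inferInstance⟩) h

theorem pAt_comp [P.RespectsIso] (u : A ⟶ B) {W W' : Scheme.{u}} (f : W ⟶ S) (g : W' ⟶ W) :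
    P ((Over.pullback (g ≫ f)).map u).left ↔ P ((Over.pullback g).map ((Over.pullback f).map u)).left :=
  P.arrow_mk_iso_iff (Arrow.isoMk ((Over.forget W').mapIso ((Over.pullbackComp g f).app A))
    ((Over.forget W').mapIso ((Over.pullbackComp g f).app B))
    (congrArg (fun t => t.left) ((Over.pullbackComp g f).hom.naturality u)).symm)

theorem p_map_iso_iff [P.RespectsIso] {W W' : Scheme.{u}} {A₁ A₂ B₁ B₂ : Over W} (a : A₁ ≅ A₂) (b : B₁ ≅ B₂)
    (g : A₁ ⟶ B₁) (k : W' ⟶ W) :
    P ((Over.pullback k).map (a.inv ≫ g ≫ b.hom)).left ↔ P ((Over.pullback k).map g).left :=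
  P.arrow_mk_iso_iff (Arrow.isoMk ((Over.forget W').mapIso ((Over.pullback k).mapIso a.symm))
    ((Over.forget W').mapIso ((Over.pullback k).mapIso b.symm)) (by
      have h : (Over.pullback k).map a.inv ≫ (Over.pullback k).map g =
          (Over.pullback k).map (a.inv ≫ g ≫ b.hom) ≫ (Over.pullback k).map b.inv := by
        simp [← Functor.map_comp]
      exact congrArg (fun t => t.left) h))

theorem pAt_field_iff [P.IsStableUnderBaseChange] [P.DescendsAlong (@Surjective ⊓ @Flat ⊓ @QuasiCompact)]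
    (u : A ⟶ B) {L : Type u} [Field L] (m : Spec (CommRingCat.of L) ⟶ S) :
    P ((Over.pullback m).map u).left ↔
      P ((Over.pullback (S.fromSpecResidueField (m.base (IsLocalRing.closedPoint L)))).map u).left := by
  have key : ∀ p : (x : S) × (S.residueField x ⟶ CommRingCat.of L),
      P ((Over.pullback (Spec.map p.2 ≫ S.fromSpecResidueField p.1)).map u).left ↔
        P ((Over.pullback (S.fromSpecResidueField p.1)).map u).left := by
    intro p
    refine ⟨fun h => ?_, fun h => pAt_of P u _ (Spec.map p.2) _ rfl h⟩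
    have : Flat (Spec.map p.2) := flat_of_field (L := S.residueField p.1) _
    have : Surjective (Spec.map p.2) :=
      ⟨fun x => ⟨IsLocalRing.closedPoint L, Subsingleton.elim (α := PrimeSpectrum (S.residueField p.1)) _ _⟩⟩
    exact pAt_descend P u _ (Spec.map p.2) h
  have h2 := key (Scheme.SpecToEquivOfField L S m)
  have h3 : Spec.map (Scheme.SpecToEquivOfField L S m).2 ≫
      S.fromSpecResidueField (Scheme.SpecToEquivOfField L S m).1 = m :=
    (Scheme.SpecToEquivOfField L S).symm_apply_apply m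
  rw [h3] at h2
  exact h2

variable (cond : ∀ (M N : Type) (_ : AddCommGroup M) (_ : AddCommGroup N), (N →+ M) → Prop)

/-- On diagonalisable groups, `P` holds exactly for the homomorphisms satisfying `cond` on characters. -/
structure CharCond : Prop where
  pos : ∀ (M N : Type) [AddCommGroup M] [AddCommGroup N] (φ : N →+ M),
    cond M N inferInstance inferInstance φ → P (Red.diagMap (ULift.{u} ℤ) φ).left
  neg : ∀ (L : Type u) [Field L] (M N : Type) [AddCommGroup M] [AddCommGroup N] (φ : N →+ M),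
    P (Red.DSmap (Spec (CommRingCat.of L)) φ).left → cond M N inferInstance inferInstance φ

variable {P cond}

theorem CharCond.dsmap [P.IsStableUnderBaseChange] (hc : CharCond P cond) {M N : Type} [AddCommGroup M]
    [AddCommGroup N] (φ : N →+ M) (h : cond M N inferInstance inferInstance φ) (W : Scheme.{u}) :
    P (Red.DSmap W φ).left :=
  MorphismProperty.of_isPullback (P := P)
    (isPullback_overMap (Red.diagMap (ULift.{u} ℤ) φ) (Limits.IsTerminal.from specULiftZIsTerminal W)).flip
    (hc.pos M N φ h)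

theorem pAt_dsmap_iff [P.IsStableUnderBaseChange] {M N : Type} [AddCommGroup M]
    [AddCommGroup N] (φ : N →+ M) {W W' : Scheme.{u}} (g : W' ⟶ W) :
    P ((Over.pullback g).map (Red.DSmap W φ)).left ↔ P (Red.DSmap W' φ).left := by
  have h : g ≫ Limits.IsTerminal.from specULiftZIsTerminal W = Limits.IsTerminal.from specULiftZIsTerminal W' :=
    specULiftZIsTerminal.hom_ext _ _
  exact (pAt_comp P (Red.diagMap (ULift.{u} ℤ) φ) _ g).symm.trans ⟨pAt_congr P _ h, pAt_congr P _ h.symm⟩

variable [P.IsStableUnderBaseChange] [IsZariskiLocalAtTarget P]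
  [P.DescendsAlong (@Surjective ⊓ @Flat ⊓ @QuasiCompact)] (hc : CharCond P cond)
  [GrpObj A] [GrpObj B] (u : A ⟶ B) [IsMonHom u]

include hc in
theorem locus_chart {W : Scheme.{u}} (f : W ⟶ S) (hA : HasChart anyM A f) (hB : HasChart fgM B f) :
    IsClopen (f.base ⁻¹' {s : S | P ((Over.pullback (S.fromSpecResidueField s)).map u).left}) ∧
    ∀ V : W.Opens, (∀ x ∈ V, P ((Over.pullback (S.fromSpecResidueField (f.base x))).map u).left) →
      P ((Over.pullback (V.ι ≫ f)).map u).left := by
  obtain ⟨M, instM, -, ⟨eA⟩⟩ := hA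
  obtain ⟨N, instN, hN, ⟨eB⟩⟩ := hB
  letI := instM
  letI := instN
  let a : Red.bc f A ≅ Red.DS W M := (Grp.forget (Over W)).mapIso eA
  let b : Red.bc f B ≅ Red.DS W N := (Grp.forget (Over W)).mapIso eB
  have : IsMonHom a.inv := eA.inv.hom.isMonHom_hom
  have : IsMonHom b.hom := eB.hom.hom.isMonHom_hom
  set v : Red.DS W M ⟶ Red.DS W N := a.inv ≫ (Over.pullback f).map u ≫ b.hom
  choose U hUc hU hUeq using fun φ : N →+ M => isClopen_charLocus hN v φ
  have hcover : ∀ w : W, ∃ φ, w ∈ U φ := fun w => by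
    obtain ⟨φ, hφ⟩ := exists_char v (L := W.residueField w) (W.fromSpecResidueField w)
    exact ⟨φ, (hU φ w).mpr hφ⟩
  have hiff : ∀ (w : W) (φ : N →+ M), w ∈ U φ →
      (P ((Over.pullback (S.fromSpecResidueField (f.base w))).map u).left ↔ cond M N instM instN φ) := by
    intro w φ hw
    have := isMonHom_mul_inv (mul_comm_of_charts (hasChartsFpqc_DS (M := N) W fgM hN)) v (Red.DSmap W φ)
    have h1 := pAt_field_iff P u (L := W.residueField w) (W.fromSpecResidueField w ≫ f)
    have hs : (W.fromSpecResidueField w ≫ f).base (IsLocalRing.closedPoint (W.residueField w)) = f.base w := by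
      rw [Scheme.Hom.comp_apply, Scheme.fromSpecResidueField_apply]
    rw [hs] at h1
    refine h1.symm.trans ((pAt_comp P u f _).trans ((p_map_iso_iff P a b _ _).symm.trans ?_))
    rw [show (Over.pullback (W.fromSpecResidueField w)).map (a.inv ≫ (Over.pullback f).map u ≫ b.hom) = _ from
      pullback_map_eq v (Red.DSmap W φ) _ ((hU φ w).mp hw)]
    exact (pAt_dsmap_iff φ _).trans ⟨hc.neg (W.residueField w) M N φ, fun h => hc.dsmap φ h _⟩
  refine ⟨?_, fun V hV => ?_⟩
  · constructor
    · refine ⟨isOpen_iff_forall_mem_open.mpr fun w hw => ?_⟩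
      obtain ⟨φ, hφ⟩ := hcover w
      exact ⟨U φ, fun x hx hx' => hw ((hiff w φ hφ).mpr ((hiff x φ hx).mp hx')), (U φ).isOpen, hφ⟩
    · refine isOpen_iff_forall_mem_open.mpr fun w hw => ?_
      obtain ⟨φ, hφ⟩ := hcover w
      exact ⟨U φ, fun x hx => (hiff x φ hx).mpr ((hiff w φ hφ).mp hw), (U φ).isOpen, hφ⟩
  · choose φ hφ using fun x : (V : Scheme.{u}) => hcover (V.ι.base x)
    refine of_baseCover P u (V.ι ≫ f) (Scheme.openCoverOfIsOpenCover _ (fun x => V.ι ⁻¹ᵁ U (φ x))
      (TopologicalSpace.IsOpenCover.mk (eq_top_iff.mpr fun x _ => TopologicalSpace.Opens.mem_iSup.mpr ⟨x, hφ x⟩)))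
      fun x => ?_
    refine pAt_of P u ((U (φ x)).ι ≫ f) (V.ι ∣_ U (φ x)) _ ?_ ?_
    · exact (morphismRestrict_ι_assoc _ _ _).symm
    · refine (pAt_comp P u f _).mpr ((p_map_iso_iff P a b _ _).mp ?_)
      rw [show (Over.pullback (U (φ x)).ι).map (a.inv ≫ (Over.pullback f).map u ≫ b.hom) = _ from hUeq (φ x)]
      exact (pAt_dsmap_iff (φ x) _).mpr (hc.dsmap _ ((hiff _ _ (hφ x)).mp (hV _ x.2)) _)

include hc in
/-- The locus of the base where `P` holds on the fibre is open and closed, and `P` holds above it. -/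
theorem exists_clopen_locus (hA : HasChartsFpqc anyM A) (hB : HasChartsFpqc fgM B) :
    ∃ U : S.Opens, IsClosed (U : Set S) ∧
      (∀ s : S, s ∈ U ↔ P ((Over.pullback (S.fromSpecResidueField s)).map u).left) ∧
      P ((Over.pullback U.ι).map u).left := by
  set T : Set S := {s : S | P ((Over.pullback (S.fromSpecResidueField s)).map u).left} with hT
  have hcov : ∀ V : S.Opens, IsAffineOpen V →
      CoverBy (fun W f => HasChart anyM A f ∧ HasChart fgM B f) V := fun V hV =>
    (hA.coverBy V hV).inter (hB.coverBy V hV) (fun _ g f' hf' h => h.precomp g f' hf')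
      (fun _ g f' hf' h => h.precomp g f' hf')
  have hclopen : IsClopen T :=
    isClopen_of_coverBy (P := fun _ f => HasChart anyM A f ∧ HasChart fgM B f) hcov T
      fun f hf => (locus_chart hc u f hf.1 hf.2).1
  set U : S.Opens := ⟨T, hclopen.isOpen⟩
  refine ⟨U, hclopen.isClosed, fun s => Iff.rfl, ?_⟩
  choose V hV hxV hVU using fun x : (U : Scheme.{u}) => exists_isAffineOpen_mem_and_subset x.2
  refine of_baseCover P u U.ι (Scheme.openCoverOfIsOpenCover _ (fun x => U.ι ⁻¹ᵁ V x)
    (TopologicalSpace.IsOpenCover.mk (eq_top_iff.mpr fun x _ => TopologicalSpace.Opens.mem_iSup.mpr ⟨x, hxV x⟩)))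
    fun x => ?_
  refine pAt_of P u (V x).ι (U.ι ∣_ V x) _ (morphismRestrict_ι _ _).symm ?_
  obtain ⟨W, q, _, _, _, hR⟩ := hcov (V x) (hV x)
  refine pAt_descend P u (V x).ι q ?_
  choose R hR₁ _ hR₂ using hR
  refine of_baseCover P u (q ≫ (V x).ι) (Scheme.openCoverOfIsOpenCover _ R
    (TopologicalSpace.IsOpenCover.mk (eq_top_iff.mpr fun w _ => TopologicalSpace.Opens.mem_iSup.mpr ⟨w, hR₁ w⟩)))
    fun w => ?_
  refine pAt_of P u ((⊤ : (R w : Scheme.{u}).Opens).ι ≫ (R w).ι ≫ q ≫ (V x).ι) (Scheme.topIso _).inv _ ?_ ?_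
  · exact (Scheme.topIso _).eq_inv_comp.mpr rfl
  · exact (locus_chart hc u _ (hR₂ w).1 (hR₂ w).2).2 ⊤ fun z _ => hVU x (by
      rw [Scheme.Hom.comp_apply, Scheme.Hom.comp_apply]
      exact (q.base ((R w).ι.base z)).2)

end GrothLib.DiagGrp
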