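import Groth.Agent.Lib.DiagGrp.SubgroupEq

/-!
Charts of a product of two groups of multiplicative type.
-/

universe u

open CategoryTheory MonoidalCategory CartesianMonoidalCategory MonObj GrpObj AlgebraicGeometry
open CategoryTheory.Limits

namespace GrothLib.DiagGrp

variable {S : Scheme.{u}}

theorem bc_prod_ext {W : Scheme.{u}} (f : W ⟶ S) {A B : Over S} {T : Over W} {x y : T ⟶ Red.bc f (A ⊗ B)}
    (h1 : x ≫ (Over.pullback f).map (fst A B) = y ≫ (Over.pullback f).map (fst A B))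
    (h2 : x ≫ (Over.pullback f).map (snd A B) = y ≫ (Over.pullback f).map (snd A B)) : x = y := by
  obtain ⟨x, rfl⟩ := (bcPoint f (A ⊗ B) T).surjective x
  obtain ⟨y, rfl⟩ := (bcPoint f (A ⊗ B) T).surjective y
  rw [← bcPoint_comp_right, ← bcPoint_comp_right] at h1 h2
  exact congrArg _ (CartesianMonoidalCategory.hom_ext _ _ ((bcPoint f A T).injective h1) ((bcPoint f B T).injective h2))

theorem ptG_comp_hom {W : Scheme.{u}} (f : W ⟶ S) {H : Over S} [GrpObj H] {M : Type} [AddCommGroup M]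
    (e : Grp.mk (Red.bc f H) ≅ Grp.mk (Red.DS W M)) {C : Type u} [CommRing C] (p : Spec (CommRingCat.of C) ⟶ W)
    (χ : Multiplicative M →* C) :
    bcPoint f H _ (ptG f e p χ) = dsPoint M p χ ≫ e.inv.hom.hom :=
  (bcPointMulEquiv f H (Over.mk p)).apply_symm_apply _

variable {H₁ H₂ : Over S} [GrpObj H₁] [GrpObj H₂] {W : Scheme.{u}} [IsAffine W]
  (f : W ⟶ S) {M M' : Type} [AddCommGroup M] [AddCommGroup M']
  (e₁ : Grp.mk (Red.bc f H₁) ≅ Grp.mk (Red.DS W M))
  (e₂ : Grp.mk (Red.bc f H₂) ≅ Grp.mk (Red.DS W M'))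

/-- The chart of a product. -/
theorem exists_prod_chart :
    ∃ e : Grp.mk (Red.bc f (H₁ ⊗ H₂)) ≅ Grp.mk (Red.DS W (M × M')),
      ∀ (C : Type u) [CommRing C] (p : Spec (CommRingCat.of C) ⟶ W)
        (χ : Multiplicative (M × M') →* C),
        ptG f e p χ ≫ fst H₁ H₂ = ptG f e₁ p (χ.comp (AddMonoidHom.toMultiplicative (AddMonoidHom.inl M M'))) ∧
        ptG f e p χ ≫ snd H₁ H₂ = ptG f e₂ p (χ.comp (AddMonoidHom.toMultiplicative (AddMonoidHom.inr M M'))) := by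
  let a : Red.bc f H₁ ≅ Red.DS W M := (Grp.forget _).mapIso e₁
  let b : Red.bc f H₂ ≅ Red.DS W M' := (Grp.forget _).mapIso e₂
  haveI : IsMonHom a.inv := e₁.inv.hom.isMonHom_hom
  haveI : IsMonHom b.inv := e₂.inv.hom.isMonHom_hom
  haveI : IsMonHom a.hom := e₁.hom.hom.isMonHom_hom
  haveI : IsMonHom b.hom := e₂.hom.hom.isMonHom_hom
  set T := Red.DS W (M × M')
  let v : T ⟶ Red.bc f (H₁ ⊗ H₂) := bcPoint f (H₁ ⊗ H₂) T (lift
    ((bcPoint f H₁ T).symm (Red.DSmap W (AddMonoidHom.inl M M') ≫ a.inv))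
    ((bcPoint f H₂ T).symm (Red.DSmap W (AddMonoidHom.inr M M') ≫ b.inv)))
  have hv₁ : v ≫ (Over.pullback f).map (fst H₁ H₂) = Red.DSmap W (AddMonoidHom.inl M M') ≫ a.inv := by
    rw [← bcPoint_comp_right, lift_fst, Equiv.apply_symm_apply]
  have hv₂ : v ≫ (Over.pullback f).map (snd H₁ H₂) = Red.DSmap W (AddMonoidHom.inr M M') ≫ b.inv := by
    rw [← bcPoint_comp_right, lift_snd, Equiv.apply_symm_apply]
  haveI : IsMonHom v := isMonHom_of_points v fun Y x y => by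
    apply bc_prod_ext f
    · simp only [MonObj.mul_comp, Category.assoc, hv₁]
    · simp only [MonObj.mul_comp, Category.assoc, hv₂]
  have hp₁ : ∀ (C : Type u) [CommRing C] (p : Spec (CommRingCat.of C) ⟶ W) (χ : Multiplicative (M × M') →* C),
      (dsPoint (M × M') p χ ≫ v) ≫ (Over.pullback f).map (fst H₁ H₂) =
        dsPoint M p (χ.comp (AddMonoidHom.toMultiplicative (AddMonoidHom.inl M M'))) ≫ a.inv := fun C _ p χ => by
    rw [Category.assoc, hv₁, ← Category.assoc, dsPoint_DSmap]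
  have hp₂ : ∀ (C : Type u) [CommRing C] (p : Spec (CommRingCat.of C) ⟶ W) (χ : Multiplicative (M × M') →* C),
      (dsPoint (M × M') p χ ≫ v) ≫ (Over.pullback f).map (snd H₁ H₂) =
        dsPoint M' p (χ.comp (AddMonoidHom.toMultiplicative (AddMonoidHom.inr M M'))) ≫ b.inv := fun C _ p χ => by
    rw [Category.assoc, hv₂, ← Category.assoc, dsPoint_DSmap]
  -- the universal point of the base change
  haveI : IsAffine (Red.bc f H₁).left := by
    haveI : IsAffine (Red.DS W M).left := by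
      have : IsAffine (Red.diag (ULift.{u} ℤ) M).left := inferInstanceAs (IsAffine (Spec _))
      exact inferInstanceAs (IsAffine (pullback (Red.diag (ULift.{u} ℤ) M).hom _))
    haveI : IsIso a.hom.left := inferInstanceAs (IsIso ((Over.forget W).map a.hom))
    exact IsAffine.of_isIso a.hom.left
  haveI : IsAffine (Red.bc f H₂).left := by
    haveI : IsAffine (Red.DS W M').left := by
      have : IsAffine (Red.diag (ULift.{u} ℤ) M').left := inferInstanceAs (IsAffine (Spec _))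
      exact inferInstanceAs (IsAffine (pullback (Red.diag (ULift.{u} ℤ) M').hom _))
    haveI : IsIso b.hom.left := inferInstanceAs (IsIso ((Over.forget W).map b.hom))
    exact IsAffine.of_isIso b.hom.left
  haveI : IsAffine (Red.bc f (H₁ ⊗ H₂)).left := by
    haveI : IsAffine (Red.bc f H₁ ⊗ Red.bc f H₂).left :=
      inferInstanceAs (IsAffine (pullback (Red.bc f H₁).hom (Red.bc f H₂).hom))
    haveI : IsIso (Functor.Monoidal.μIso (Over.pullback f) H₁ H₂).inv.left :=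
      inferInstanceAs (IsIso ((Over.forget W).map (Functor.Monoidal.μIso (Over.pullback f) H₁ H₂).inv))
    exact IsAffine.of_isIso (Functor.Monoidal.μIso (Over.pullback f) H₁ H₂).inv.left
  set p₀ : Spec Γ(((Red.bc f (H₁ ⊗ H₂)).left), ⊤) ⟶ W := ((Red.bc f (H₁ ⊗ H₂)).left).isoSpec.inv ≫ (Red.bc f (H₁ ⊗ H₂)).hom
  let k : Over.mk p₀ ⟶ (Red.bc f (H₁ ⊗ H₂)) := Over.homMk ((Red.bc f (H₁ ⊗ H₂)).left).isoSpec.inv rfl
  obtain ⟨χ₁, hχ₁⟩ := (dsPoint M p₀).surjective (k ≫ (Over.pullback f).map (fst H₁ H₂) ≫ a.hom)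
  obtain ⟨χ₂, hχ₂⟩ := (dsPoint M' p₀).surjective (k ≫ (Over.pullback f).map (snd H₁ H₂) ≫ b.hom)
  let χ₀ : Multiplicative (M × M') →* Γ(((Red.bc f (H₁ ⊗ H₂)).left), ⊤) :=
    (χ₁.coprod χ₂).comp (MulEquiv.prodMultiplicative M M').toMonoidHom
  have e1 : χ₀.comp (AddMonoidHom.toMultiplicative (AddMonoidHom.inl M M')) = χ₁ := MonoidHom.ext fun m => by
    change χ₁ m * χ₂ 1 = χ₁ m
    rw [map_one, _root_.mul_one]
  have e2 : χ₀.comp (AddMonoidHom.toMultiplicative (AddMonoidHom.inr M M')) = χ₂ := MonoidHom.ext fun m => by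
    change χ₁ 1 * χ₂ m = χ₂ m
    rw [map_one, _root_.one_mul]
  have hk : dsPoint (M × M') p₀ χ₀ ≫ v = k := by
    apply bc_prod_ext f
    · rw [hp₁, e1, hχ₁, Category.assoc, Category.assoc, Iso.hom_inv_id, Category.comp_id]
    · rw [hp₂, e2, hχ₂, Category.assoc, Category.assoc, Iso.hom_inv_id, Category.comp_id]
  let w : (Red.bc f (H₁ ⊗ H₂)) ⟶ T := Over.homMk (((Red.bc f (H₁ ⊗ H₂)).left).isoSpec.hom ≫ (dsPoint (M × M') p₀ χ₀).left) (by
    rw [Category.assoc, Over.w (dsPoint (M × M') p₀ χ₀)]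
    change ((Red.bc f (H₁ ⊗ H₂)).left).isoSpec.hom ≫ ((Red.bc f (H₁ ⊗ H₂)).left).isoSpec.inv ≫ (Red.bc f (H₁ ⊗ H₂)).hom = (Red.bc f (H₁ ⊗ H₂)).hom
    rw [Iso.hom_inv_id_assoc])
  have hwv : w ≫ v = 𝟙 (Red.bc f (H₁ ⊗ H₂)) := by
    apply Over.OverMorphism.ext
    change (((Red.bc f (H₁ ⊗ H₂)).left).isoSpec.hom ≫ (dsPoint (M × M') p₀ χ₀).left) ≫ v.left = 𝟙 _
    have h1 : (dsPoint (M × M') p₀ χ₀).left ≫ v.left = ((Red.bc f (H₁ ⊗ H₂)).left).isoSpec.inv := congrArg (fun t => t.left) hk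
    rw [Category.assoc, h1, Iso.hom_inv_id]
  have hinj : ∀ (C : Type u) [CommRing C] (p : Spec (CommRingCat.of C) ⟶ W) (χ χ' : Multiplicative (M × M') →* C),
      dsPoint (M × M') p χ ≫ v = dsPoint (M × M') p χ' ≫ v → χ = χ' := by
    intro C _ p χ χ' h
    have h1 := (hp₁ C p χ).symm.trans ((congrArg (· ≫ _) h).trans (hp₁ C p χ'))
    have h2 := (hp₂ C p χ).symm.trans ((congrArg (· ≫ _) h).trans (hp₂ C p χ'))
    rw [cancel_mono] at h1 h2
    refine MonoidHom.ext fun m => ?_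
    have hm : m = AddMonoidHom.toMultiplicative (AddMonoidHom.inl M M') (Multiplicative.ofAdd m.toAdd.1) *
        AddMonoidHom.toMultiplicative (AddMonoidHom.inr M M') (Multiplicative.ofAdd m.toAdd.2) := by
      change m = Multiplicative.ofAdd ((m.toAdd.1, (0 : M')) + ((0 : M), m.toAdd.2))
      rw [Prod.mk_add_mk, _root_.add_zero, _root_.zero_add]
      rfl
    rw [hm, map_mul, map_mul]
    exact congrArg₂ (· * ·) (DFunLike.congr_fun ((dsPoint M p).injective h1) _)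
      (DFunLike.congr_fun ((dsPoint M' p).injective h2) _)
  have hvw : v ≫ w = 𝟙 T := by
    refine ds_hom_ext fun C _ p χ => ?_
    obtain ⟨χ', hχ'⟩ := (dsPoint (M × M') p).surjective (dsPoint (M × M') p χ ≫ v ≫ w)
    rw [← hχ', Category.comp_id]
    refine congrArg _ (hinj C p χ' χ ?_)
    rw [hχ']
    simp only [Category.assoc, hwv, Category.comp_id]
  let E : T ≅ (Red.bc f (H₁ ⊗ H₂)) := ⟨v, w, hvw, hwv⟩
  haveI : IsMonHom E.hom := ‹IsMonHom v›
  refine ⟨(Grp.mkIso (G := Grp.mk T) (H := Grp.mk (Red.bc f (H₁ ⊗ H₂))) E (IsMonHom.one_hom v) (IsMonHom.mul_hom v)).symm, fun C _ p χ => ⟨?_, ?_⟩⟩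
  · apply (bcPoint f H₁ _).injective
    rw [bcPoint_comp_right, ptG_comp_hom, ptG_comp_hom]
    exact hp₁ C p χ
  · apply (bcPoint f H₂ _).injective
    rw [bcPoint_comp_right, ptG_comp_hom, ptG_comp_hom]
    exact hp₂ C p χ

end GrothLib.DiagGrp
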