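import Mathlib.RingTheory.Unramified.Basic
import Mathlib.RingTheory.Kaehler.Basic
import Mathlib.RingTheory.LocalRing.Module
import Mathlib.Algebra.TrivSqZeroExt.Basic
import Mathlib.RingTheory.Support

/-!
An algebra of finite type all of whose fibres have no two distinct infinitesimally close points is
formally unramified.
-/

universe u

open TensorProduct

namespace GrothLib.DiagGrp

theorem formallyUnramified_of_points_unique {R A : Type u} [CommRing R] [CommRing A] [Algebra R A]
    [Algebra.EssFiniteType R A]
    (h : ∀ (L : Type u) [Field L] (C : Type u) [CommRing C] (ι : L →+* C) (r : R →+* L) (x y : A →+* C),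
      x.comp (algebraMap R A) = ι.comp r → y.comp (algebraMap R A) = ι.comp r → x = y) :
    Algebra.FormallyUnramified R A := by
  rw [Algebra.formallyUnramified_iff, ← Module.support_eq_empty_iff (R := A), Set.eq_empty_iff_forall_notMem]
  intro q hq
  rw [Module.mem_support_iff_nontrivial_residueField_tensorProduct] at hq
  set L := q.asIdeal.ResidueField
  refine not_subsingleton_iff_nontrivial.mpr hq ?_
  let d : A → L ⊗[A] Ω[A⁄R] := fun a => (1 : L) ⊗ₜ KaehlerDifferential.D R A a
  let x : A →+* TrivSqZeroExt L (L ⊗[A] Ω[A⁄R]) := (TrivSqZeroExt.inlHom L _).comp (algebraMap A L)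
  let y : A →+* TrivSqZeroExt L (L ⊗[A] Ω[A⁄R]) :=
    { toFun := fun a => TrivSqZeroExt.inl (algebraMap A L a) + TrivSqZeroExt.inr (d a)
      map_one' := by ext <;> simp [d]
      map_zero' := by ext <;> simp [d]
      map_add' := fun a b => by
        simp only [map_add, d, TensorProduct.tmul_add, TrivSqZeroExt.inl_add]
        apply TrivSqZeroExt.ext <;> simp <;> abel
      map_mul' := fun a b => by
        apply TrivSqZeroExt.ext
        · simp
        · simp only [TrivSqZeroExt.snd_mul, TrivSqZeroExt.fst_add, TrivSqZeroExt.snd_add, TrivSqZeroExt.fst_inl,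
            TrivSqZeroExt.fst_inr, TrivSqZeroExt.snd_inl, TrivSqZeroExt.snd_inr, zero_add, add_zero,
            op_smul_eq_smul, d, Derivation.leibniz, TensorProduct.tmul_add, TensorProduct.smul_tmul']
          congr 1 <;> rw [← TensorProduct.smul_tmul, ← TensorProduct.smul_tmul' ] <;>
            simp [Algebra.smul_def, TensorProduct.smul_tmul'] }
  have hxy := h L _ (TrivSqZeroExt.inlHom L _) ((algebraMap A L).comp (algebraMap R A)) x y rfl
    (RingHom.ext fun r => by
      change TrivSqZeroExt.inl (algebraMap A L (algebraMap R A r)) + TrivSqZeroExt.inr (d (algebraMap R A r)) = _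
      simp [d])
  have hd : ∀ a, d a = 0 := fun a => by
    have := congrArg TrivSqZeroExt.snd (RingHom.congr_fun hxy a)
    simpa [x, y] using this.symm
  refine ⟨fun a b => ?_⟩
  suffices ∀ t : L ⊗[A] Ω[A⁄R], t = 0 by rw [this a, this b]
  intro t
  induction t with
  | zero => rfl
  | add s t hs ht => rw [hs, ht, add_zero]
  | tmul l w =>
    have hw : w ∈ Submodule.span A (Set.range (KaehlerDifferential.D R A)) := by
      rw [KaehlerDifferential.span_range_derivation]; trivial
    induction hw using Submodule.span_induction with
    | mem z hz =>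
      obtain ⟨a, rfl⟩ := hz
      have := congrArg (l • ·) (hd a)
      simpa [d, TensorProduct.smul_tmul'] using this
    | zero => simp
    | add u v _ _ hu hv => rw [TensorProduct.tmul_add, hu, hv, add_zero]
    | smul r u _ hu => rw [TensorProduct.tmul_smul, hu, smul_zero]

end GrothLib.DiagGrp
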