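import Groth.Agent.Lib.DiagGrp.MultTypeFT
import Groth.Agent.Lib.DiagGrp.UnramifiedPts
import Mathlib.AlgebraicGeometry.Morphisms.FormallyUnramified
import Mathlib.AlgebraicGeometry.Morphisms.Immersion
import Mathlib.AlgebraicGeometry.Morphisms.UniversallyInjective
import Mathlib.AlgebraicGeometry.ResidueField
import Mathlib.CategoryTheory.Limits.Constructions.Over.Connected

/-!
A homomorphism of group schemes, locally of finite type at the source, which is a monomorphism on every
fibre is a monomorphism.
-/

universe u

open CategoryTheory MonoidalCategory CartesianMonoidalCategory MonObj GrpObj AlgebraicGeometry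
open CategoryTheory.Limits

namespace GrothLib.DiagGrp

variable {S : Scheme.{u}}

theorem bcPoint_mul {G : Over S} [GrpObj G] {S' : Scheme.{u}} (f : S' ⟶ S) (T : Over S')
    (a : (Over.map f).obj T ⟶ G) (ha : bcPoint f G T a = 1) : a = 1 :=
  (bcPointMulEquiv f G T).injective (ha.trans (map_one (bcPointMulEquiv f G T)).symm)

theorem eq_one_of_fibre {H G : Over S} [GrpObj H] [GrpObj G] (u : H ⟶ G) [IsMonHom u]
    (hfib : ∀ s : S, Mono ((Over.pullback (S.fromSpecResidueField s)).map u).left)
    {T : Over S} (s : S) (σ : T.left ⟶ Spec (S.residueField s)) (hσ : σ ≫ S.fromSpecResidueField s = T.hom)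
    (x : T ⟶ H) (hx : x ≫ u = 1) : x = 1 := by
  set f := S.fromSpecResidueField s
  let T' : Over (Spec (S.residueField s)) := Over.mk σ
  let k : (Over.map f).obj T' ≅ T := Over.isoMk (Iso.refl _) (by
    change 𝟙 _ ≫ T.hom = σ ≫ f
    rw [Category.id_comp, hσ])
  have h1 : bcPoint f H T' (k.hom ≫ x) ≫ (Over.pullback f).map u =
      (1 : T' ⟶ Red.bc f H) ≫ (Over.pullback f).map u := by
    rw [← bcPoint_comp_right, Category.assoc, hx, MonObj.comp_one]
    rw [show (1 : T' ⟶ Red.bc f H) = bcPoint f H T' (1 : (Over.map f).obj T' ⟶ H) from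
      (map_one (bcPointMulEquiv f H T')).symm, ← bcPoint_comp_right, MonObj.one_comp]
  haveI := hfib s
  haveI : Mono ((Over.pullback f).map u) :=
    (Over.forget _).mono_of_mono_map (show Mono ((Over.forget _).map ((Over.pullback f).map u)) from hfib s)
  have h2 := bcPoint_mul f T' _ ((cancel_mono _).mp h1)
  rw [← cancel_epi k.hom, h2, MonObj.comp_one]

theorem exists_residueField_factor {L : Type u} [Field L] (m : Spec (CommRingCat.of L) ⟶ S) :
    ∃ (s : S) (σ : Spec (CommRingCat.of L) ⟶ Spec (S.residueField s)), σ ≫ S.fromSpecResidueField s = m :=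
  ⟨(Scheme.SpecToEquivOfField L S m).1, Spec.map (Scheme.SpecToEquivOfField L S m).2,
    (Scheme.SpecToEquivOfField L S).symm_apply_apply m⟩

/-- The kernel of a fibrewise monomorphism has at most one point over a point of the base. -/
theorem points_unique {H G : Over S} [GrpObj H] [GrpObj G] (u : H ⟶ G) [IsMonHom u]
    (hfib : ∀ s : S, Mono ((Over.pullback (S.fromSpecResidueField s)).map u).left)
    {Z : Scheme.{u}} (x y : Z ⟶ (pullback u η[G]).left) (hxy : x ≫ (pullback u η[G]).hom = y ≫ (pullback u η[G]).hom)
    (s : S) (σ : Z ⟶ Spec (S.residueField s)) (hσ : σ ≫ S.fromSpecResidueField s = x ≫ (pullback u η[G]).hom) :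
    x = y := by
  set T : Over S := Over.mk (x ≫ (pullback u η[G]).hom)
  have hone : ∀ z : T ⟶ pullback u η[G], z ≫ pullback.fst u η[G] = 1 := fun z =>
    eq_one_of_fibre u hfib s σ hσ _ (by
      rw [Category.assoc, pullback.condition, ← Category.assoc, Hom.one_def]
      congr 1
      exact toUnit_unique _ _)
  let x' : T ⟶ pullback u η[G] := Over.homMk x rfl
  let y' : T ⟶ pullback u η[G] := Over.homMk y hxy.symm
  have h : x' = y' := pullback.hom_ext ((hone x').trans (hone y').symm) (toUnit_unique _ _)
  exact congrArg (fun t => t.left) h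

/-- The kernel of a fibrewise monomorphism is trivial. -/
theorem mono_of_fibres {H G : Over S} [GrpObj H] [GrpObj G] [LocallyOfFiniteType H.hom] (u : H ⟶ G) [IsMonHom u]
    (hfib : ∀ s : S, Mono ((Over.pullback (S.fromSpecResidueField s)).map u).left) : Mono u := by
  set K := pullback u η[G]
  haveI : IsImmersion η[G].left := by
    have : IsImmersion (η[G].left ≫ G.hom) := by
      rw [Over.w η[G]]
      exact inferInstanceAs (IsImmersion (𝟙 S))
    exact IsImmersion.of_comp _ G.hom
  haveI : IsImmersion (pullback.fst u η[G]).left :=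
    MorphismProperty.of_isPullback (P := @IsImmersion)
      ((IsPullback.of_hasPullback u η[G]).map (Over.forget S)).flip ‹IsImmersion η[G].left›
  haveI : LocallyOfFiniteType K.hom := by
    rw [← Over.w (pullback.fst u η[G])]
    infer_instance
  haveI : FormallyUnramified K.hom := by
    refine ⟨fun {U} hU {V} hV e => ?_⟩
    letI := (K.hom.appLE U V e).hom.toAlgebra
    haveI : Algebra.FiniteType Γ(S, U) Γ(K.left, V) := K.hom.finiteType_appLE hU hV e
    refine formallyUnramified_of_points_unique fun L _ C _ j r x y hx hy => ?_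
    obtain ⟨s, σ, hσ⟩ := exists_residueField_factor (Spec.map (CommRingCat.ofHom r) ≫ hU.fromSpec)
    have key : ∀ z : Γ(K.left, V) →+* C, z.comp (algebraMap Γ(S, U) Γ(K.left, V)) = j.comp r →
        (Spec.map (CommRingCat.ofHom z) ≫ hV.fromSpec) ≫ K.hom =
          (Spec.map (CommRingCat.ofHom j) ≫ σ) ≫ S.fromSpecResidueField s := fun z hz => by
      rw [Category.assoc, Category.assoc, hσ, ← IsAffineOpen.SpecMap_appLE_fromSpec K.hom hU hV e,
        ← Category.assoc, ← Category.assoc, ← Spec.map_comp, ← Spec.map_comp]
      congr 2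
      exact CommRingCat.hom_ext hz
    have h := points_unique u hfib _ _ ((key x hx).trans (key y hy).symm) s _ (key x hx).symm
    rw [cancel_mono] at h
    exact congrArg CommRingCat.Hom.hom (Spec.map_injective h)
  haveI : Surjective (pullback.diagonal K.hom) := ⟨fun z => by
    obtain ⟨s, σ, hσ⟩ := exists_residueField_factor
      ((pullback K.hom K.hom).fromSpecResidueField z ≫ pullback.fst K.hom K.hom ≫ K.hom)
    have hxy := points_unique u hfib
      ((pullback K.hom K.hom).fromSpecResidueField z ≫ pullback.fst K.hom K.hom)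
      ((pullback K.hom K.hom).fromSpecResidueField z ≫ pullback.snd K.hom K.hom)
      (by rw [Category.assoc, Category.assoc, pullback.condition]) s σ (hσ.trans (Category.assoc _ _ _).symm)
    have hd : ((pullback K.hom K.hom).fromSpecResidueField z ≫ pullback.fst K.hom K.hom) ≫ pullback.diagonal K.hom =
        (pullback K.hom K.hom).fromSpecResidueField z := by
      apply pullback.hom_ext
      · rw [Category.assoc, pullback.diagonal_fst, Category.comp_id]
      · rw [Category.assoc, pullback.diagonal_snd, Category.comp_id, hxy]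
    let o : ↥(Spec ((pullback K.hom K.hom).residueField z)) := IsLocalRing.closedPoint _
    refine ⟨((pullback K.hom K.hom).fromSpecResidueField z ≫ pullback.fst K.hom K.hom).base o, ?_⟩
    rw [← Scheme.Hom.comp_apply, hd]
    exact Scheme.fromSpecResidueField_apply z o⟩
  haveI : IsIso (pullback.diagonal K.hom) :=
    (isIso_iff_isOpenImmersion_and_surjective _).mpr ⟨inferInstance, inferInstance⟩
  haveI : Mono K.hom := pullback.isIso_diagonal_iff _ |>.mp inferInstance
  constructor
  intro T a b hab
  have h1 : (a * b⁻¹) ≫ u = 1 := by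
    rw [MonObj.mul_comp, GrpObj.inv_comp, hab, mul_inv_cancel]
  let l : T ⟶ K := pullback.lift (a * b⁻¹) (toUnit T) (by rw [h1, Hom.one_def])
  let e : T ⟶ K := pullback.lift 1 (toUnit T) (by rw [MonObj.one_comp, Hom.one_def])
  have hle : l = e := by
    apply Over.OverMorphism.ext
    rw [← cancel_mono K.hom, Over.w, Over.w]
  have h2 := congrArg (· ≫ pullback.fst u η[G]) hle
  simp only [l, e, pullback.lift_fst] at h2
  exact mul_inv_eq_one.mp h2

end GrothLib.DiagGrp
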