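import Mathlib.Algebra.MonoidAlgebra.Basic
import Mathlib.RingTheory.Ideal.Maps
import Mathlib.RingTheory.Ideal.Operations

/-!
A diagonalisable group acting trivially modulo a nilpotent ideal acts trivially: the algebra.
-/

universe u

namespace GrothLib.DiagGrp

variable {R B : Type u} [CommRing R] [CommRing B] [Algebra R B] {G : Type} [CommMonoid G]

/-- The `m`-th homogeneous component of a coaction. -/
noncomputable def comp' (α : B →ₐ[R] MonoidAlgebra B G) (m : G) : B →ₗ[R] B where
  toFun b := (α b).coeff m
  map_add' x y := by rw [map_add, MonoidAlgebra.coeff_add]; rfl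
  map_smul' r x := by rw [map_smul, MonoidAlgebra.coeff_smul]; rfl

variable (α : B →ₐ[R] MonoidAlgebra B G)

/-- A coaction which is trivial modulo a nilpotent ideal is trivial. -/
theorem eq_single_one [DecidableEq G] (h1 : ∀ b, (α b).coeff.sum (fun _ c => c) = b)
    (h2 : ∀ b m n, comp' α n (comp' α m b) = if n = m then comp' α m b else 0)
    (I : Ideal R) (hI : IsNilpotent I)
    (h0 : ∀ b, ∀ m, m ≠ 1 → (α b).coeff m ∈ I.map (algebraMap R B)) (b : B) :
    α b = MonoidAlgebra.single 1 b := by
  obtain ⟨N, hN⟩ := hI
  have key : ∀ m, m ≠ 1 → ∀ k : ℕ, ∀ b, comp' α m b ∈ (I ^ k).map (algebraMap R B) := by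
    intro m hm k
    induction k with
    | zero => intro b; rw [pow_zero, Ideal.one_eq_top, Ideal.map_top]; trivial
    | succ k ih =>
      have hlin : ∀ c ∈ I.map (algebraMap R B), comp' α m c ∈ (I ^ (k + 1)).map (algebraMap R B) := by
        intro c hc
        have hc' : c ∈ I • (⊤ : Submodule R B) := by
          rw [Ideal.smul_top_eq_map]; exact hc
        induction hc' using Submodule.smul_induction_on' with
        | smul r hr x _ =>
          rw [map_smul, Algebra.smul_def, pow_succ', Ideal.map_mul]
          exact Ideal.mul_mem_mul (Ideal.mem_map_of_mem _ hr) (ih x)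
        | add x hx y hy hx' hy' =>
          rw [map_add]
          exact add_mem (hx' (by rw [Ideal.smul_top_eq_map] at hx; exact hx))
            (hy' (by rw [Ideal.smul_top_eq_map] at hy; exact hy))
      intro b
      have := hlin _ (h0 b m hm)
      change comp' α m (comp' α m b) ∈ _ at this
      rwa [h2, if_pos rfl] at this
  have hz : ∀ m, m ≠ 1 → (α b).coeff m = 0 := fun m hm => by
    have := key m hm N b
    rw [hN, Ideal.zero_eq_bot, Ideal.map_bot, Ideal.mem_bot] at this
    exact this
  have hcoeff : (α b).coeff = Finsupp.single 1 ((α b).coeff 1) := by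
    refine Finsupp.ext fun m => ?_
    rcases eq_or_ne m 1 with rfl | hm
    · rw [Finsupp.single_eq_same]
    · rw [Finsupp.single_eq_of_ne hm, hz m hm]
  have hb : (α b).coeff 1 = b := by
    have := h1 b
    rw [hcoeff, Finsupp.sum_single_index rfl] at this
    exact this
  apply MonoidAlgebra.coeff_injective
  rw [hcoeff, MonoidAlgebra.coeff_single, hb]

end GrothLib.DiagGrp
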