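import Mathlib.Algebra.MonoidAlgebra.Basic
import Mathlib.RingTheory.FiniteType
import Mathlib.RingTheory.LocalRing.Module
import Mathlib.RingTheory.LocalRing.ResidueField.Ideal
import Mathlib.RingTheory.Support
import Mathlib.RingTheory.Spectrum.Prime.RingHom
import Groth.Agent.Lib.DiagGrp.Grading

/-!
A coaction of a group algebra on an algebra of finite type which is trivial on every fibre is trivial.
-/

universe u

open TensorProduct

namespace GrothLib.DiagGrp

variable {R B : Type u} [CommRing R] [CommRing B] [Algebra R B] {G : Type} [CommMonoid G]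

/-- A coaction on an algebra of finite type, trivial on every fibre, is trivial. -/
theorem eq_single_one_of_fibres [Algebra.FiniteType R B] (α : B →ₐ[R] MonoidAlgebra B G)
    (h1 : ∀ b, (α b).coeff.sum (fun _ c => c) = b)
    (h2 : ∀ b m, comp' α m (comp' α m b) = comp' α m b)
    (h0 : ∀ (p : PrimeSpectrum R) (b : B) (m : G), m ≠ 1 →
      ((α b).coeff m) ⊗ₜ[R] (1 : p.asIdeal.ResidueField) = 0) (b : B) :
    α b = MonoidAlgebra.single 1 b := by
  classical
  obtain ⟨T, hT⟩ := ‹Algebra.FiniteType R B›.out
  let gens : Finset B := T.biUnion fun t => ((α t).coeff.support.filter fun m => m ≠ 1).image fun m => (α t).coeff m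
  set J : Ideal B := Ideal.span (gens : Set B) with hJdef
  let π : B →ₐ[R] B ⧸ J := Ideal.Quotient.mkₐ R J
  have hgen : ∀ b, ∀ m, m ≠ 1 → (α b).coeff m ∈ J := by
    intro b m hm
    have hb : b ∈ Algebra.adjoin R (T : Set B) := by rw [hT]; trivial
    induction hb using Algebra.adjoin_induction generalizing m with
    | mem t ht =>
      by_cases hmem : m ∈ (α t).coeff.support
      · refine Ideal.subset_span ?_
        simp only [gens, Finset.coe_biUnion, Set.mem_iUnion, Finset.mem_coe, Finset.mem_image, Finset.mem_filter]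
        exact ⟨t, ht, m, ⟨hmem, hm⟩, rfl⟩
      · rw [Finsupp.notMem_support_iff.mp hmem]; exact zero_mem _
    | algebraMap r =>
      rw [AlgHom.commutes]
      change (MonoidAlgebra.single 1 (algebraMap R B r)).coeff m ∈ J
      rw [MonoidAlgebra.coeff_single, Finsupp.single_eq_of_ne hm]
      exact zero_mem _
    | add x y _ _ hx hy => rw [map_add, MonoidAlgebra.coeff_add]; exact add_mem (hx m hm) (hy m hm)
    | mul x y _ _ hx hy =>
      rw [map_mul, MonoidAlgebra.coeff_mul, Finsupp.sum]
      refine Submodule.sum_mem _ fun i _ => Submodule.sum_mem _ fun j _ => ?_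
      dsimp only
      split_ifs with hij
      · by_cases hi : i = 1
        · refine Ideal.mul_mem_left _ _ (hy j ?_)
          rintro rfl
          exact hm (by rw [← hij, hi, one_mul])
        · exact Ideal.mul_mem_right _ _ (hx i hi)
      · exact zero_mem _
  have hfg : Module.Finite B J := Module.Finite.iff_fg.mpr ⟨gens, rfl⟩
  have hzero : Subsingleton J := by
    rw [← Module.support_eq_empty_iff (R := B), Set.eq_empty_iff_forall_notMem]
    intro q hq
    rw [Module.mem_support_iff_nontrivial_residueField_tensorProduct] at hq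
    refine not_subsingleton_iff_nontrivial.mpr hq (subsingleton_of_forall_eq 0 ?_)
    set p : PrimeSpectrum R := PrimeSpectrum.comap (algebraMap R B) q
    let ρ : p.asIdeal.ResidueField →ₐ[R] q.asIdeal.ResidueField :=
      Ideal.ResidueField.mapₐ p.asIdeal q.asIdeal (Algebra.ofId R B) rfl
    let ψ : J ⊗[R] p.asIdeal.ResidueField →ₗ[R] q.asIdeal.ResidueField ⊗[B] J :=
      TensorProduct.lift (LinearMap.mk₂ R (fun x l => ρ l ⊗ₜ[B] x)
        (fun x y l => TensorProduct.tmul_add _ _ _)
        (fun r x l => by
          rw [← algebraMap_smul B r x, TensorProduct.tmul_smul, algebraMap_smul])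
        (fun x l l' => by rw [map_add, TensorProduct.add_tmul])
        (fun r x l => by rw [map_smul]; rfl))
    have hc : ∀ c : B, (hc : c ∈ gens) → (1 : q.asIdeal.ResidueField) ⊗ₜ[B] (⟨c, Ideal.subset_span hc⟩ : J) = 0 := by
      intro c hc
      obtain ⟨t, -, hc'⟩ := Finset.mem_biUnion.mp hc
      obtain ⟨m, hm, rfl⟩ := Finset.mem_image.mp hc'
      have hm1 : m ≠ 1 := (Finset.mem_filter.mp hm).2
      let P : B →ₗ[R] (J.restrictScalars R : Submodule R B) :=
        LinearMap.codRestrict _ (comp' α m) fun x => hgen x m hm1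
      have h3 := congrArg (LinearMap.rTensor p.asIdeal.ResidueField P) (h0 p t m hm1)
      rw [LinearMap.rTensor_tmul, map_zero] at h3
      have hP : P ((α t).coeff m) = (⟨(α t).coeff m, Ideal.subset_span hc⟩ : J) := Subtype.ext (h2 t m)
      rw [hP] at h3
      have h4 := (congrArg ψ h3).trans ψ.map_zero
      change ρ 1 ⊗ₜ[B] (⟨(α t).coeff m, Ideal.subset_span hc⟩ : J) = 0 at h4
      rwa [map_one] at h4
    intro z
    induction z with
    | zero => rfl
    | add x y hx hy => rw [hx, hy, add_zero]
    | tmul l x =>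
      obtain ⟨x, hx⟩ := x
      rw [show l ⊗ₜ[B] (⟨x, hx⟩ : J) = l • ((1 : q.asIdeal.ResidueField) ⊗ₜ[B] (⟨x, hx⟩ : J)) by
        rw [TensorProduct.smul_tmul', smul_eq_mul, mul_one]]
      suffices h : (1 : q.asIdeal.ResidueField) ⊗ₜ[B] (⟨x, hx⟩ : J) = 0 by rw [h, smul_zero]
      induction hx using Submodule.span_induction with
      | mem y hy => exact hc y hy
      | zero => exact TensorProduct.tmul_zero _ _
      | add y y' hy hy' h h' =>
        rw [show (⟨y + y', _⟩ : J) = (⟨y, hy⟩ : J) + ⟨y', hy'⟩ from rfl, TensorProduct.tmul_add, h, h', add_zero]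
      | smul r y hy h =>
        rw [show (⟨r • y, _⟩ : J) = r • (⟨y, hy⟩ : J) from rfl, TensorProduct.tmul_smul, h, smul_zero]
  have hz : ∀ m, m ≠ 1 → (α b).coeff m = 0 := fun m hm =>
    congrArg Subtype.val (Subsingleton.elim (⟨(α b).coeff m, hgen b m hm⟩ : J) 0)
  have hcoeff : (α b).coeff = Finsupp.single 1 ((α b).coeff 1) := by
    refine Finsupp.ext fun m => ?_
    rcases eq_or_ne m 1 with rfl | hm
    · rw [Finsupp.single_eq_same]
    · rw [Finsupp.single_eq_of_ne hm, hz m hm]
  have hb : (α b).coeff 1 = b := by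
    have := h1 b
    rw [hcoeff, Finsupp.sum_single_index rfl] at this
    exact this
  apply MonoidAlgebra.coeff_injective
  rw [hcoeff, MonoidAlgebra.coeff_single, hb]

end GrothLib.DiagGrp
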