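import Groth.Agent.Lib.DiagGrp.Trivial
import Groth.Agent.Lib.DiagGrp.FibreGrading
import Mathlib.AlgebraicGeometry.ResidueField
import Mathlib.AlgebraicGeometry.Morphisms.FiniteType

/-!
A system of operations of characters which is trivial on the fibres is trivial.
-/

universe u

open CategoryTheory AlgebraicGeometry TensorProduct

namespace GrothLib.DiagGrp

variable {S X : Scheme.{u}} {q : X ⟶ S} {G : Type} [CommMonoid G] (A : CharAction q G)

/-- The operation is trivial on points lying over a field-valued point of the base. -/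
def CharAction.TrivialOnFibres : Prop :=
  ∀ (L : Type u) [Field L] (C : Type u) [CommRing C] (j : L →+* C) (r : Spec (CommRingCat.of L) ⟶ S)
    (χ : G →* C) (x : Spec (CommRingCat.of C) ⟶ X), x ≫ q = Spec.map (CommRingCat.ofHom j) ≫ r → A.op C χ x = x

theorem CharAction.trivial_on_chart_of_fibres {R B : Type u} [CommRing R] [CommRing B] [Algebra R B]
    [Algebra.FiniteType R B]
    (w : Spec (CommRingCat.of R) ⟶ S) [Mono w] (ι : Spec (CommRingCat.of B) ⟶ X) [IsOpenImmersion ι]
    (hι : ι ≫ q = Spec.map (CommRingCat.ofHom (algebraMap R B)) ≫ w) (h0 : A.TrivialOnFibres)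
    {C : Type u} [CommRing C] (χ : G →* C) (h : B →+* C) :
    A.op C χ (Spec.map (CommRingCat.ofHom h) ≫ ι) = Spec.map (CommRingCat.ofHom h) ≫ ι := by
  classical
  set D := MonoidAlgebra B G with hD
  set c : B →+* D := MonoidAlgebra.singleOneRingHom with hc
  let χ₀ : G →* D := MonoidAlgebra.of B G
  set y₀ := A.op D χ₀ (Spec.map (CommRingCat.ofHom c) ≫ ι) with hy₀
  have hrange : Set.range y₀.base ⊆ Set.range ι.base := by
    rintro _ ⟨P, rfl⟩
    let F := (Spec (CommRingCat.of D)).residueField P
    let π : D →+* F := (Spec.preimage ((Spec (CommRingCat.of D)).fromSpecResidueField P)).hom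
    have hπ : Spec.map (CommRingCat.ofHom π) = (Spec (CommRingCat.of D)).fromSpecResidueField P := by
      rw [CommRingCat.ofHom_hom, Spec.map_preimage]
    have hred : Spec.map (CommRingCat.ofHom π) ≫ y₀ =
        Spec.map (CommRingCat.ofHom π) ≫ Spec.map (CommRingCat.ofHom c) ≫ ι := by
      rw [hy₀, ← A.op_nat]
      exact h0 F F (RingHom.id F) ((Spec.map (CommRingCat.ofHom π) ≫ Spec.map (CommRingCat.ofHom c) ≫ ι) ≫ q) _ _
        (by rw [CommRingCat.ofHom_id, Spec.map_id, Category.id_comp])
    obtain ⟨o⟩ : Nonempty (Spec (CommRingCat.of F)) := inferInstanceAs (Nonempty (PrimeSpectrum F))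
    have hP : (Spec.map (CommRingCat.ofHom π)).base o = P := by
      rw [hπ]; exact Scheme.fromSpecResidueField_apply P o
    refine ⟨(Spec.map (CommRingCat.ofHom c)).base ((Spec.map (CommRingCat.ofHom π)).base o), ?_⟩
    have := congrArg (fun f : Spec (CommRingCat.of F) ⟶ X => f.base o) hred
    simp only [Scheme.Hom.comp_base, TopCat.coe_comp, Function.comp_apply] at this
    rw [hP] at this
    rw [hP, this]
  set α₀ := IsOpenImmersion.lift ι y₀ hrange
  set α : B →+* D := (Spec.preimage α₀).hom with hα
  have hαι : Spec.map (CommRingCat.ofHom α) ≫ ι = y₀ := by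
    rw [hα, CommRingCat.ofHom_hom, Spec.map_preimage, IsOpenImmersion.lift_fac]
  have hspec : ∀ {E : Type u} [CommRing E] (f g : B →+* E),
      Spec.map (CommRingCat.ofHom f) ≫ ι = Spec.map (CommRingCat.ofHom g) ≫ ι → f = g := by
    intro E _ f g hfg
    rw [cancel_mono] at hfg
    exact congrArg CommRingCat.Hom.hom (Spec.map_injective hfg)
  -- the operation on every point of the chart
  let u : ∀ {E : Type u} [CommRing E], (G →* E) → (B →+* E) → (D →+* E) := fun {E} _ ψ g =>
    letI := g.toAlgebra
    (MonoidAlgebra.lift B E G ψ).toRingHom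
  have hu_of : ∀ {E : Type u} [CommRing E] (ψ : G →* E) (g : B →+* E) (m : G) (b : B),
      u ψ g (MonoidAlgebra.single m b) = g b * ψ m := fun {E} _ ψ g m b => by
    letI := g.toAlgebra
    change MonoidAlgebra.lift B E G ψ (MonoidAlgebra.single m b) = _
    rw [MonoidAlgebra.lift_single, Algebra.smul_def]
    rfl
  have hop : ∀ {E : Type u} [CommRing E] (ψ : G →* E) (g : B →+* E),
      A.op E ψ (Spec.map (CommRingCat.ofHom g) ≫ ι) = Spec.map (CommRingCat.ofHom ((u ψ g).comp α)) ≫ ι := by
    intro E _ ψ g
    have h1 := A.op_nat D E (u ψ g) χ₀ (Spec.map (CommRingCat.ofHom c) ≫ ι)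
    have hχ : ((u ψ g : D →+* E) : D →* E).comp χ₀ = ψ := MonoidHom.ext fun m => by
      change u ψ g (MonoidAlgebra.single m 1) = ψ m
      rw [hu_of, map_one, one_mul]
    have hg : (u ψ g).comp c = g := RingHom.ext fun b => by
      change u ψ g (MonoidAlgebra.single 1 b) = g b
      rw [hu_of, map_one, mul_one]
    rw [← Category.assoc, ← Spec.map_comp, ← CommRingCat.ofHom_comp, hg, hχ, ← hy₀, ← hαι,
      ← Category.assoc, ← Spec.map_comp, ← CommRingCat.ofHom_comp] at h1
    exact h1
  have hover : α.comp (algebraMap R B) = c.comp (algebraMap R B) := by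
    have h1 : Spec.map (CommRingCat.ofHom (α.comp (algebraMap R B))) ≫ w =
        Spec.map (CommRingCat.ofHom (c.comp (algebraMap R B))) ≫ w := by
      rw [CommRingCat.ofHom_comp, CommRingCat.ofHom_comp, Spec.map_comp, Spec.map_comp, Category.assoc,
        Category.assoc, ← hι, ← Category.assoc, hαι, hy₀, A.op_over, Category.assoc]
    rw [cancel_mono] at h1
    exact congrArg CommRingCat.Hom.hom (Spec.map_injective h1)
  let αa : B →ₐ[R] D :=
    { α with commutes' := show ∀ r : R, α (algebraMap R B r) = algebraMap R D r from fun r =>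
      (RingHom.congr_fun hover r).trans rfl }
  have h1 : ∀ b, (α b).coeff.sum (fun _ x => x) = b := by
    intro b
    have h2 := hop (1 : G →* B) (RingHom.id B)
    rw [A.op_one] at h2
    have h3 := RingHom.congr_fun (hspec _ _ h2) b
    change b = u (1 : G →* B) (RingHom.id B) (α b) at h3
    conv_rhs => rw [h3, ← MonoidAlgebra.sum_coeff_single (α b)]
    rw [Finsupp.sum, Finsupp.sum, map_sum]
    refine Finset.sum_congr rfl fun m _ => ?_
    rw [hu_of]
    simp
  have h2 : ∀ b m n, comp' αa n (comp' αa m b) = if n = m then comp' αa m b else 0 := by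
    intro b m n
    let E := MonoidAlgebra B (G × G)
    let g : B →+* E := MonoidAlgebra.singleOneRingHom
    let χ₁ : G →* E := (MonoidAlgebra.of B (G × G)).comp (MonoidHom.inl G G)
    let χ₂ : G →* E := (MonoidAlgebra.of B (G × G)).comp (MonoidHom.inr G G)
    have h4 := A.op_mul E χ₁ χ₂ (Spec.map (CommRingCat.ofHom g) ≫ ι)
    rw [hop, hop, hop] at h4
    have h5 := RingHom.congr_fun (hspec _ _ h4) b
    have e1 : ∀ y : D, u (χ₁ * χ₂) g y = y.coeff.sum fun i x => MonoidAlgebra.single (i, i) x := fun y => by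
      conv_lhs => rw [← MonoidAlgebra.sum_coeff_single y]
      rw [Finsupp.sum, map_sum]
      refine Finset.sum_congr rfl fun i _ => ?_
      rw [hu_of]
      change (MonoidAlgebra.single (1 : G × G) (y.coeff i) : MonoidAlgebra B (G × G)) *
        (MonoidAlgebra.single (i, (1 : G)) 1 * MonoidAlgebra.single ((1 : G), i) 1) = MonoidAlgebra.single (i, i) (y.coeff i)
      simp [MonoidAlgebra.single_mul_single]
    have e2 : ∀ y : D, u χ₁ ((u χ₂ g).comp α) y = y.coeff.sum fun i x =>
        (α x).coeff.sum fun j z => MonoidAlgebra.single (i, j) z := fun y => by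
      conv_lhs => rw [← MonoidAlgebra.sum_coeff_single y]
      rw [Finsupp.sum, map_sum]
      refine Finset.sum_congr rfl fun i _ => ?_
      rw [hu_of, RingHom.comp_apply]
      conv_lhs => rw [← MonoidAlgebra.sum_coeff_single (α (y.coeff i))]
      simp only [Finsupp.sum, map_sum, Finset.sum_mul]
      refine Finset.sum_congr rfl fun j _ => ?_
      rw [hu_of]
      change (MonoidAlgebra.single (1 : G × G) _ : MonoidAlgebra B (G × G)) * MonoidAlgebra.single ((1 : G), j) 1 *
        MonoidAlgebra.single (i, (1 : G)) 1 = MonoidAlgebra.single (i, j) ((α (y.coeff i)).coeff j)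
      rw [MonoidAlgebra.single_mul_single, MonoidAlgebra.single_mul_single]
      simp
    simp only [RingHom.comp_apply] at h5
    rw [e1, e2] at h5
    have h6 := congrArg (fun z : E => z.coeff (m, n)) h5
    simp only [MonoidAlgebra.coeff_finsuppSum, Finsupp.sum_apply, MonoidAlgebra.coeff_single,
      Finsupp.single_apply, Prod.mk.injEq] at h6
    change (α ((α b).coeff m)).coeff n = if n = m then (α b).coeff m else 0
    rw [Finsupp.sum, Finset.sum_eq_single m (fun i _ hi => by
        rw [if_neg (fun h => hi h.1)]) (fun hm => by simp [Finsupp.notMem_support_iff.mp hm])] at h6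
    rw [Finsupp.sum, Finset.sum_eq_single m (fun i _ hi => by
        rw [Finsupp.sum]; exact Finset.sum_eq_zero fun j _ => if_neg fun h => hi h.1)
      (fun hm => by simp [Finsupp.notMem_support_iff.mp hm])] at h6
    rw [Finsupp.sum, Finset.sum_eq_single n (fun j _ hj => if_neg fun h => hj h.2)
      (fun hn => by simp [Finsupp.notMem_support_iff.mp hn])] at h6
    simp only [true_and, and_self, if_true] at h6
    rw [← h6]
    rcases eq_or_ne m n with rfl | hmn
    · simp
    · rw [if_neg hmn, if_neg (Ne.symm hmn)]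
  have h0' : ∀ (p : PrimeSpectrum R) (b : B) (m : G), m ≠ 1 →
      ((αa b).coeff m) ⊗ₜ[R] (1 : p.asIdeal.ResidueField) = 0 := by
    intro p b m hm
    let E := B ⊗[R] p.asIdeal.ResidueField
    let il : B →+* E := Algebra.TensorProduct.includeLeftRingHom
    let ir : p.asIdeal.ResidueField →+* E :=
      (Algebra.TensorProduct.includeRight : p.asIdeal.ResidueField →ₐ[R] E).toRingHom
    let g : B →+* MonoidAlgebra E G := MonoidAlgebra.singleOneRingHom.comp il
    let ψ : G →* MonoidAlgebra E G := MonoidAlgebra.of E G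
    have hcomm : g.comp (algebraMap R B) =
        (MonoidAlgebra.singleOneRingHom.comp ir).comp (algebraMap R p.asIdeal.ResidueField) := by
      refine RingHom.ext fun r => congrArg (MonoidAlgebra.single (1 : G)) ?_
      change (algebraMap R B r) ⊗ₜ[R] (1 : p.asIdeal.ResidueField) = (1 : B) ⊗ₜ[R] algebraMap R _ r
      rw [Algebra.algebraMap_eq_smul_one, Algebra.algebraMap_eq_smul_one, TensorProduct.smul_tmul]
    have h4 := hop ψ g
    rw [h0 p.asIdeal.ResidueField (MonoidAlgebra E G) (MonoidAlgebra.singleOneRingHom.comp ir)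
      (Spec.map (CommRingCat.ofHom (algebraMap R p.asIdeal.ResidueField)) ≫ w) _ _
      (by rw [Category.assoc, hι, ← Category.assoc, ← Category.assoc, ← Spec.map_comp, ← Spec.map_comp,
            ← CommRingCat.ofHom_comp, ← CommRingCat.ofHom_comp, hcomm])] at h4
    have h5 := RingHom.congr_fun (hspec _ _ h4) b
    have h6 := congrArg (fun z : MonoidAlgebra E G => z.coeff m) h5
    simp only [RingHom.comp_apply] at h6
    rw [← MonoidAlgebra.sum_coeff_single (α b), Finsupp.sum, map_sum, MonoidAlgebra.coeff_sum, Finset.sum_apply',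
      Finset.sum_eq_single m] at h6
    · refine Eq.trans ?_ (h6.symm.trans ?_)
      · rw [hu_of]
        simp [g, ψ, il, MonoidAlgebra.of, MonoidAlgebra.single_mul_single]
        rfl
      · simp [g, Finsupp.single_eq_of_ne hm]
    · intro i _ hi
      rw [hu_of]
      simp [g, ψ, MonoidAlgebra.of, MonoidAlgebra.single_mul_single, Finsupp.single_eq_of_ne (Ne.symm hi)]
    · intro hm'
      rw [hu_of, Finsupp.notMem_support_iff.mp hm']
      simp
  have hconst : ∀ b, α b = c b := fun b =>
    eq_single_one_of_fibres αa h1 (fun b m => by rw [h2, if_pos rfl]) h0' b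
  rw [hop]
  congr 2
  refine congrArg CommRingCat.ofHom (RingHom.ext fun b => ?_)
  rw [RingHom.comp_apply, hconst, hc]
  change u χ h (MonoidAlgebra.single 1 b) = h b
  rw [hu_of, map_one, mul_one]

/-- Trivial on the fibres implies trivial, over a scheme locally of finite type. -/
theorem CharAction.trivial_of_fibres [LocallyOfFiniteType q] (A : CharAction q G) (h0 : A.TrivialOnFibres)
    (C : Type u) [CommRing C] (χ : G →* C) (x : Spec (CommRingCat.of C) ⟶ X) : A.op C χ x = x := by
  have hpt : ∀ P : Spec (CommRingCat.of C), ∃ r : C, P ∈ PrimeSpectrum.basicOpen r ∧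
      Spec.map (CommRingCat.ofHom (algebraMap C (Localization.Away r))) ≫ A.op C χ x =
        Spec.map (CommRingCat.ofHom (algebraMap C (Localization.Away r))) ≫ x := by
    intro P
    obtain ⟨U₀, hU₀, hsU, -⟩ :=
      exists_isAffineOpen_mem_and_subset (show q.base (x.base P) ∈ (⊤ : S.Opens) from TopologicalSpace.Opens.mem_top _)
    set w := hU₀.fromSpec
    obtain ⟨s', hs'⟩ : q.base (x.base P) ∈ Set.range w.base := by rw [hU₀.range_fromSpec]; exact hsU
    have hmem : x.base P ∈ q ⁻¹ᵁ w.opensRange := ⟨s', hs'⟩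
    obtain ⟨V, hV, hPV, hVW⟩ := exists_isAffineOpen_mem_and_subset hmem
    obtain ⟨r, hPr, hrV⟩ : ∃ r : C, P ∈ PrimeSpectrum.basicOpen r ∧
        (PrimeSpectrum.basicOpen r : Set (PrimeSpectrum C)) ⊆ x.base ⁻¹' (V : Set X) := by
      obtain ⟨_, ⟨r, rfl⟩, h1, h2⟩ := PrimeSpectrum.isTopologicalBasis_basic_opens.exists_subset_of_mem_open
        (show P ∈ x.base ⁻¹' (V : Set X) from hPV) (V.isOpen.preimage x.base.hom.continuous)
      exact ⟨r, h1, h2⟩
    refine ⟨r, hPr, ?_⟩
    set ι := hV.fromSpec
    have hr2 : Set.range (Spec.map (CommRingCat.ofHom (algebraMap C (Localization.Away r))) ≫ x).base ⊆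
        Set.range ι.base := by
      rintro _ ⟨Q, rfl⟩
      rw [show Set.range ι.base = (V : Set X) from hV.range_fromSpec]
      refine hrV ?_
      have : (Spec.map (CommRingCat.ofHom (algebraMap C (Localization.Away r)))).base Q ∈
          Set.range (PrimeSpectrum.comap (algebraMap C (Localization.Away r))) := ⟨Q, rfl⟩
      rw [PrimeSpectrum.localization_away_comap_range (Localization.Away r) r] at this
      exact this
    set g := IsOpenImmersion.lift ι (Spec.map (CommRingCat.ofHom (algebraMap C (Localization.Away r))) ≫ x) hr2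
    have hg : Spec.map (CommRingCat.ofHom (Spec.preimage g).hom) ≫ ι =
        Spec.map (CommRingCat.ofHom (algebraMap C (Localization.Away r))) ≫ x := by
      rw [CommRingCat.ofHom_hom, Spec.map_preimage, IsOpenImmersion.lift_fac]
    have hwr : Set.range (ι ≫ q).base ⊆ Set.range w.base := by
      rintro _ ⟨z, rfl⟩
      have h1 : ι.base z ∈ (V : Set X) := by
        rw [← show Set.range ι.base = (V : Set X) from hV.range_fromSpec]; exact ⟨z, rfl⟩
      exact hVW h1
    set ρ := Spec.preimage (IsOpenImmersion.lift w (ι ≫ q) hwr)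
    letI : Algebra Γ(S, U₀) Γ(X, V) := ρ.hom.toAlgebra
    have hι : ι ≫ q = Spec.map (CommRingCat.ofHom (algebraMap Γ(S, U₀) Γ(X, V))) ≫ w := by
      change ι ≫ q = Spec.map (CommRingCat.ofHom ρ.hom) ≫ w
      rw [CommRingCat.ofHom_hom, Spec.map_preimage, IsOpenImmersion.lift_fac]
    haveI : Algebra.FiniteType Γ(S, U₀) Γ(X, V) := by
      have h : LocallyOfFiniteType (Spec.map ρ ≫ w) := by
        rw [Spec.map_preimage, IsOpenImmersion.lift_fac]; infer_instance
      haveI := h
      exact HasRingHomProperty.Spec_iff.mp (locallyOfFiniteType_of_comp (Spec.map ρ) w)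
    have h3 := A.trivial_on_chart_of_fibres w ι hι h0
      ((algebraMap C (Localization.Away r) : C →* Localization.Away r).comp χ) (Spec.preimage g).hom
    rw [hg, A.op_nat] at h3
    exact h3
  choose r hr1 hr2 using hpt
  have hspan : Ideal.span (Set.range r) = ⊤ := by
    rw [← PrimeSpectrum.iSup_basicOpen_eq_top_iff]
    exact eq_top_iff.mpr fun P _ => TopologicalSpace.Opens.mem_iSup.mpr ⟨P, hr1 P⟩
  let cover := (Scheme.affineOpenCoverOfSpanRangeEqTop (R := CommRingCat.of C) (ι := Spec (CommRingCat.of C)) r hspan).openCover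
  refine Scheme.Cover.hom_ext cover _ _ fun P => ?_
  exact hr2 P

end GrothLib.DiagGrp
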