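import Groth.Agent.Lib.DiagGrp.ActionTrivial
import Groth.Agent.Lib.DiagGrp.TrivialFibres
import Groth.Agent.Lib.DiagGrp.FibreMono

/-!
An action of a group of multiplicative type which is trivial on every fibre is trivial.
-/

universe u

open CategoryTheory MonoidalCategory CartesianMonoidalCategory MonObj GrpObj AlgebraicGeometry
open CategoryTheory.Limits

namespace GrothLib.DiagGrp

variable {S : Scheme.{u}} {G X : Over S} [GrpObj G]

/-- An action trivial on every fibre is trivial. -/
theorem action_trivial_of_fibres [LocallyOfFiniteType X.hom]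
    (hG : TwC.Locally S TwC.Topology.fpqc (fun S' f => ∃ (M : Type) (_ : AddCommGroup M),
      Nonempty (Grp.mk (Red.bc f G) ≅ Grp.mk (Red.DS S' M))))
    (a : AlgGrp.Action G X)
    (h0 : ∀ (s : S) (Y : Over S) (σ : Y.left ⟶ Spec (S.residueField s)), σ ≫ S.fromSpecResidueField s = Y.hom →
      ∀ (g : Y ⟶ G) (x : Y ⟶ X), lift g x ≫ a.act = x) :
    ∀ (Y : Over S) (g : Y ⟶ G) (x : Y ⟶ X), lift g x ≫ a.act = x := by
  obtain ⟨S', f, hflat, hsurj, -, hloc⟩ := hG
  intro Y g x
  haveI := hflat
  haveI := hsurj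
  apply Over.OverMorphism.ext
  haveI : Epi (pullback.fst Y.hom f) := Flat.epi_of_flat_of_surjective _
  rw [← cancel_epi (pullback.fst Y.hom f)]
  set Y' := pullback Y.hom f
  choose U hU M instM hMe using hloc
  refine Scheme.hom_ext_of_forall _ _ fun P => ?_
  set s' := (pullback.snd Y.hom f).base P
  obtain ⟨V, hV, hPV, hVU⟩ := exists_isAffineOpen_mem_and_subset
    (show P ∈ (pullback.snd Y.hom f) ⁻¹ᵁ U s' from hU s')
  refine ⟨V, hPV, ?_⟩
  haveI := hV.isoSpec
  rw [← cancel_epi hV.isoSpec.inv]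
  set C := Γ(Y', V)
  set v : Spec (CommRingCat.of C) ⟶ Y' := hV.fromSpec
  have hv : hV.isoSpec.inv ≫ V.ι = v := rfl
  rw [← Category.assoc, ← Category.assoc, ← Category.assoc, ← Category.assoc, hv]
  have hr : Set.range (v ≫ pullback.snd Y.hom f).base ⊆ Set.range (U s').ι.base := by
    rintro _ ⟨z, rfl⟩
    rw [show Set.range (U s').ι.base = (U s' : Set S') from (U s').range_ι]
    have h1 : v.base z ∈ (V : Set Y') := by
      rw [← show Set.range v.base = (V : Set Y') from hV.range_fromSpec]; exact ⟨z, rfl⟩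
    exact hVU h1
  set p : Spec (CommRingCat.of C) ⟶ (U s' : Scheme.{u}) := IsOpenImmersion.lift (U s').ι _ hr
  have hp : p ≫ (U s').ι = v ≫ pullback.snd Y.hom f := IsOpenImmersion.lift_fac _ _ _
  set F := (U s').ι ≫ f
  letI := instM s'
  obtain ⟨e⟩ := hMe s'
  set T := (Over.map F).obj (Over.mk p)
  let j : T ⟶ Y := Over.homMk (v ≫ pullback.fst Y.hom f) (by
    change (v ≫ pullback.fst Y.hom f) ≫ Y.hom = p ≫ F
    rw [Category.assoc, pullback.condition, ← Category.assoc, ← hp, Category.assoc])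
  suffices hs : lift (j ≫ g) (j ≫ x) ≫ a.act = j ≫ x by
    have h1 := congrArg (fun t : T ⟶ X => t.left) hs
    rw [← comp_lift, Category.assoc] at h1
    exact h1
  obtain ⟨χ, hχ⟩ := exists_ptG_eq F e p (j ≫ g)
  set y : Spec (CommRingCat.of C) ⟶ pullback X.hom F := pullback.lift (j ≫ x).left p (Over.w (j ≫ x))
  have hy : y ≫ pullback.snd X.hom F = p := pullback.lift_snd _ _ _
  have hxy : ptX F p y hy = j ≫ x := Over.OverMorphism.ext (pullback.lift_fst _ _ _)
  have htriv := (charAction F e a).trivial_of_fibres (fun L _ C' _ j' r χ' x' hx' => by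
    obtain ⟨s₀, σ, hσ⟩ := exists_residueField_factor (r ≫ F)
    apply pullback.hom_ext
    · change opAux F e a _ χ' x' rfl ≫ _ = _
      rw [opAux, pullback.lift_fst, h0 s₀ _ (Spec.map (CommRingCat.ofHom j') ≫ σ) (by
        change _ = (x' ≫ pullback.snd X.hom F) ≫ F
        rw [Category.assoc, hσ, hx', Category.assoc]) _ _]
      rfl
    · exact pullback.lift_snd _ _ _) C χ y
  have h2 : opAux F e a p χ y hy = y := by
    rw [← opAux_congr F e a hy χ y rfl]
    exact htriv
  have h3 := ptX_opAux F e a p χ y hy (by rw [h2]; exact hy)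
  rw [← hχ, ← hxy, ← h3]
  apply Over.OverMorphism.ext
  exact congrArg (· ≫ pullback.fst X.hom F) h2

end GrothLib.DiagGrp
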