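import Mathlib.Algebra.MonoidAlgebra.Lift
import Mathlib.Algebra.MonoidAlgebra.Basic
import Mathlib.RingTheory.Ideal.Quotient.Operations
import Mathlib.RingTheory.Ideal.Span
import Mathlib.GroupTheory.QuotientGroup.Defs
import Mathlib.Order.Zorn
import Mathlib.RingTheory.Ideal.Maximal

/-!
A free coaction of a group algebra is strongly graded: the algebra behind closed orbit maps.
-/

universe u

namespace GrothLib.DiagGrp

variable {B : Type u} [CommRing B] {G : Type} [CommGroup G]

/-- Evaluation of `B[G]` at a ring map and a character. -/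
noncomputable def evalAt {C : Type u} [CommRing C] (x : B →+* C) (χ : G →* C) : MonoidAlgebra B G →+* C :=
  MonoidAlgebra.liftNCRingHom x χ (fun _ _ => Commute.all _ _)

theorem evalAt_single {C : Type u} [CommRing C] (x : B →+* C) (χ : G →* C) (m : G) (b : B) :
    evalAt x χ (MonoidAlgebra.single m b) = x b * χ m :=
  MonoidAlgebra.liftNCRingHom_single ..

/-- A grading given by a coaction. -/
structure IsGrading (α : B →+* MonoidAlgebra B G) : Prop where
  sum_eq : ∀ b, (α b).coeff.sum (fun _ c => c) = b
  homog : ∀ b m, α ((α b).coeff m) = MonoidAlgebra.single m ((α b).coeff m)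

variable {α : B →+* MonoidAlgebra B G} (hα : IsGrading α)
include hα

/-- For a free coaction every degree generates the unit ideal. -/
theorem IsGrading.one_mem_span
    (hfree : ∀ (C : Type u) [CommRing C] (x : B →+* C) (χ : G →* C),
      (∀ b, evalAt x χ (α b) = x b) → χ = 1) (m : G) :
    (1 : B) ∈ Ideal.span (Set.range fun b => (α b).coeff m) := by
  classical
  by_contra h1
  -- ideals stable under the projections
  let fam : Set (Ideal B) := {P | (1 : B) ∉ P ∧ (∀ b ∈ P, ∀ n, (α b).coeff n ∈ P) ∧
    ∀ b, (α b).coeff m ∈ P}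
  have hI : Ideal.span (Set.range fun b => (α b).coeff m) ∈ fam := by
    refine ⟨h1, fun b hb n => ?_, fun b => Ideal.subset_span ⟨b, rfl⟩⟩
    induction hb using Submodule.span_induction generalizing n with
    | mem y hy =>
      obtain ⟨c, rfl⟩ := hy
      simp only [hα.homog, MonoidAlgebra.coeff_single, Finsupp.single_apply]
      split_ifs
      · exact Ideal.subset_span ⟨c, rfl⟩
      · exact zero_mem _
    | zero => simp
    | add y z _ _ hy hz => rw [map_add, MonoidAlgebra.coeff_add]; exact add_mem (hy n) (hz n)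
    | smul r y _ hy =>
      rw [smul_eq_mul, map_mul, MonoidAlgebra.coeff_mul, Finsupp.sum]
      refine Submodule.sum_mem _ fun i _ => ?_
      rw [Finsupp.sum]
      refine Submodule.sum_mem _ fun j _ => ?_
      split_ifs
      · exact Ideal.mul_mem_left _ _ (hy j)
      · exact zero_mem _
  obtain ⟨P, -, hP⟩ := zorn_le_nonempty₀ fam (fun c hc hchain y hy => by
    refine ⟨sSup c, ?_, fun z hz => le_sSup hz⟩
    have hmem := fun z : B => Submodule.mem_sSup_of_directed (s := c) (z := z) ⟨y, hy⟩ hchain.directedOn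
    refine ⟨fun h => ?_, fun b hb n => ?_, fun b => (hmem _).mpr ⟨y, hy, (hc hy).2.2 b⟩⟩
    · obtain ⟨z, hz, h'⟩ := (hmem _).mp h
      exact (hc hz).1 h'
    · obtain ⟨z, hz, h'⟩ := (hmem _).mp hb
      exact (hmem _).mpr ⟨z, hz, (hc hz).2.1 b h' n⟩) _ hI
  obtain ⟨⟨hP1, hPh, hPm⟩, hPmax⟩ := hP
  -- homogeneous elements outside `P` are units modulo `P`
  have hunit : ∀ n b, α b = MonoidAlgebra.single n b → b ∉ P →
      ∃ c, α c = MonoidAlgebra.single n⁻¹ c ∧ c * b - 1 ∈ P := by
    intro n b hb hbP
    by_contra hcon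
    push Not at hcon
    have hnot : (1 : B) ∉ P ⊔ Ideal.span {b} := by
      intro h
      obtain ⟨p, hp, q, hq, hpq⟩ := Submodule.mem_sup.mp h
      obtain ⟨c, rfl⟩ := Ideal.mem_span_singleton'.mp hq
      refine hcon ((α c).coeff n⁻¹) (hα.homog _ _) ?_
      have h' := congrArg (fun z => (α z).coeff 1) hpq
      have e1 : (α (1 : B)).coeff 1 = 1 := by rw [map_one α, MonoidAlgebra.one_def, MonoidAlgebra.coeff_single, Finsupp.single_eq_same]
      simp only [map_add, map_mul, hb, MonoidAlgebra.coeff_add, Finsupp.add_apply, e1] at h'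
      have e2 : (α c * MonoidAlgebra.single n b).coeff 1 = (α c).coeff n⁻¹ * b := by
        simpa using MonoidAlgebra.coeff_mul_single (x := α c) (r := b) (g := n) (h := 1)
      rw [e2] at h'
      rw [← h']
      simpa using hPh p hp 1
    have hmem : P ⊔ Ideal.span {b} ∈ fam := by
      refine ⟨hnot, fun z hz k => ?_, fun z => Ideal.mem_sup_left (hPm z)⟩
      obtain ⟨p, hp, q, hq, rfl⟩ := Submodule.mem_sup.mp hz
      obtain ⟨c, rfl⟩ := Ideal.mem_span_singleton'.mp hq
      rw [map_add, MonoidAlgebra.coeff_add, map_mul, hb]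
      refine add_mem (Ideal.mem_sup_left (hPh p hp k)) (Ideal.mem_sup_right ?_)
      rw [MonoidAlgebra.coeff_mul, Finsupp.sum]
      refine Submodule.sum_mem _ fun i _ => ?_
      rw [MonoidAlgebra.coeff_single, Finsupp.sum_single_index (by simp)]
      split_ifs
      · exact Ideal.mul_mem_left _ _ (Ideal.mem_span_singleton_self b)
      · exact zero_mem _
    have hle := hPmax hmem le_sup_left
    exact hbP (hle (Ideal.mem_sup_right (Ideal.mem_span_singleton_self b)))
  have hprod : ∀ b c n k, α b = MonoidAlgebra.single n b → b ∉ P →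
      α c = MonoidAlgebra.single k c → c ∉ P → b * c ∉ P := by
    intro b c n k hb hbP _ hcP hbc
    obtain ⟨b', -, hb'⟩ := hunit n b hb hbP
    refine hcP ?_
    have : c = b' * (b * c) - (b' * b - 1) * c := by ring
    rw [this]
    exact sub_mem (P.mul_mem_left _ hbc) (P.mul_mem_right _ hb')
  let N : Subgroup G :=
    { carrier := {n | ∃ b, α b = MonoidAlgebra.single n b ∧ b ∉ P}
      one_mem' := ⟨1, by rw [map_one, MonoidAlgebra.one_def], hP1⟩
      mul_mem' := by
        rintro n k ⟨b, hb, hbP⟩ ⟨c, hc, hcP⟩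
        exact ⟨b * c, by rw [map_mul, hb, hc, MonoidAlgebra.single_mul_single],
          hprod b c n k hb hbP hc hcP⟩
      inv_mem' := by
        rintro n ⟨b, hb, hbP⟩
        obtain ⟨c, hc, hc'⟩ := hunit n b hb hbP
        refine ⟨c, hc, fun hcP => hP1 ?_⟩
        have : (1 : B) = c * b - (c * b - 1) := by ring
        rw [this]
        exact sub_mem (P.mul_mem_right _ hcP) hc' }
  have hmN : m ∉ N := by
    rintro ⟨b, hb, hbP⟩
    apply hbP
    have := hPm b
    rwa [hb, MonoidAlgebra.coeff_single, Finsupp.single_eq_same] at this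
  let C := MonoidAlgebra (B ⧸ P) (G ⧸ N)
  let x : B →+* C := MonoidAlgebra.singleOneRingHom.comp (Ideal.Quotient.mk P)
  let χ : G →* C := (MonoidAlgebra.of (B ⧸ P) (G ⧸ N)).comp (QuotientGroup.mk' N)
  have hfix : ∀ b, evalAt x χ (α b) = x b := by
    intro b
    conv_rhs => rw [← hα.sum_eq b]
    conv_lhs => rw [← MonoidAlgebra.sum_coeff_single (α b)]
    rw [Finsupp.sum, Finsupp.sum, map_sum, map_sum]
    refine Finset.sum_congr rfl fun i _ => ?_
    rw [evalAt_single]
    by_cases hi : i ∈ N
    · have : χ i = 1 := by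
        change MonoidAlgebra.of (B ⧸ P) (G ⧸ N) ((QuotientGroup.mk' N) i) = 1
        rw [QuotientGroup.mk'_apply, (QuotientGroup.eq_one_iff i).mpr hi, map_one]
      rw [this, mul_one]
    · have : x ((α b).coeff i) = 0 := by
        change MonoidAlgebra.single 1 (Ideal.Quotient.mk P ((α b).coeff i)) = 0
        rw [Ideal.Quotient.eq_zero_iff_mem.mpr (by_contra fun h => hi ⟨_, hα.homog _ _, h⟩),
          MonoidAlgebra.single_zero]
      rw [this, zero_mul]
  have hχ := DFunLike.congr_fun (hfree C x χ hfix) m
  have : Nontrivial (B ⧸ P) := Ideal.Quotient.nontrivial_iff.mpr fun h => hP1 (h ▸ Submodule.mem_top)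
  exact hmN ((QuotientGroup.eq_one_iff m).mp (MonoidAlgebra.of_injective (hχ.trans (map_one _).symm)))

/-- For a free coaction the graph is surjective on functions. -/
theorem IsGrading.mem_of_free
    (hfree : ∀ (C : Type u) [CommRing C] (x : B →+* C) (χ : G →* C),
      (∀ b, evalAt x χ (α b) = x b) → χ = 1)
    (A : Subring (MonoidAlgebra B G)) (hA1 : ∀ b, α b ∈ A) (hA2 : ∀ b, MonoidAlgebra.single 1 b ∈ A)
    (y : MonoidAlgebra B G) : y ∈ A := by
  classical
  have hone : ∀ m, MonoidAlgebra.single m (1 : B) ∈ A := by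
    intro m
    have hspan : ∀ z ∈ Ideal.span (Set.range fun b => (α b).coeff m), MonoidAlgebra.single m z ∈ A := by
      intro z hz
      induction hz using Submodule.span_induction with
      | mem y hy =>
        obtain ⟨c, rfl⟩ := hy
        rw [← hα.homog]
        exact hA1 _
      | zero => rw [MonoidAlgebra.single_zero]; exact zero_mem _
      | add y z _ _ hy hz => rw [MonoidAlgebra.single_add]; exact add_mem hy hz
      | smul r y _ hy =>
        have : MonoidAlgebra.single m (r * y) = MonoidAlgebra.single 1 r * MonoidAlgebra.single m y := by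
          rw [MonoidAlgebra.single_mul_single, one_mul]
        rw [smul_eq_mul, this]
        exact mul_mem (hA2 r) hy
    exact hspan 1 (hα.one_mem_span hfree m)
  rw [← MonoidAlgebra.sum_coeff_single y, Finsupp.sum]
  refine sum_mem fun i _ => ?_
  have : MonoidAlgebra.single i (y.coeff i) = MonoidAlgebra.single 1 (y.coeff i) * MonoidAlgebra.single i (1 : B) := by
    rw [MonoidAlgebra.single_mul_single, one_mul, mul_one]
  rw [this]
  exact mul_mem (hA2 _) (hone i)

end GrothLib.DiagGrp
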