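import Groth.Agent.Lib.DiagGrp.Trivial
import Groth.Agent.Lib.DiagGrp.FreeGrading

/-!
The coaction attached to a system of operations of characters on an affine scheme.
-/

universe u

open CategoryTheory AlgebraicGeometry

namespace GrothLib.DiagGrp

variable {S X : Scheme.{u}} {q : X ⟶ S} {G : Type} [CommGroup G] (A : CharAction q G)
  {B : Type u} [CommRing B] (ι : Spec (CommRingCat.of B) ⟶ X) [IsIso ι]

/-- The coaction. -/
noncomputable def coact : B →+* MonoidAlgebra B G :=
  (Spec.preimage (A.op (MonoidAlgebra B G) (MonoidAlgebra.of B G)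
    (Spec.map (CommRingCat.ofHom (MonoidAlgebra.singleOneRingHom : B →+* MonoidAlgebra B G)) ≫ ι) ≫ inv ι)).hom

theorem op_eq {E : Type u} [CommRing E] (χ : G →* E) (g : B →+* E) :
    A.op E χ (Spec.map (CommRingCat.ofHom g) ≫ ι) =
      Spec.map (CommRingCat.ofHom ((evalAt g χ).comp (coact A ι))) ≫ ι := by
  set c : B →+* MonoidAlgebra B G := MonoidAlgebra.singleOneRingHom
  set χ₀ : G →* MonoidAlgebra B G := MonoidAlgebra.of B G
  have h0 : Spec.map (CommRingCat.ofHom (coact A ι)) ≫ ι = A.op _ χ₀ (Spec.map (CommRingCat.ofHom c) ≫ ι) := by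
    rw [coact, CommRingCat.ofHom_hom, Spec.map_preimage, Category.assoc, IsIso.inv_hom_id, Category.comp_id]
  have h1 := A.op_nat (MonoidAlgebra B G) E (evalAt g χ) χ₀ (Spec.map (CommRingCat.ofHom c) ≫ ι)
  have hχ : ((evalAt g χ : MonoidAlgebra B G →+* E) : MonoidAlgebra B G →* E).comp χ₀ = χ :=
    MonoidHom.ext fun m => by
      change evalAt g χ (MonoidAlgebra.single m 1) = χ m
      rw [evalAt_single, map_one, one_mul]
  have hg : (evalAt g χ).comp c = g := RingHom.ext fun b => by
    change evalAt g χ (MonoidAlgebra.single 1 b) = g b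
    rw [evalAt_single, map_one, mul_one]
  rw [← Category.assoc, ← Spec.map_comp, ← CommRingCat.ofHom_comp, hg, hχ, ← h0,
    ← Category.assoc, ← Spec.map_comp, ← CommRingCat.ofHom_comp] at h1
  exact h1

theorem hom_eq_of_point_eq {E : Type u} [CommRing E] (f g : B →+* E)
    (h : Spec.map (CommRingCat.ofHom f) ≫ ι = Spec.map (CommRingCat.ofHom g) ≫ ι) : f = g := by
  rw [cancel_mono] at h
  exact congrArg CommRingCat.Hom.hom (Spec.map_injective h)

theorem isGrading_coact : IsGrading (coact A ι) where
  sum_eq b := by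
    classical
    set α := coact A ι
    have h2 := op_eq A ι (1 : G →* B) (RingHom.id B)
    rw [A.op_one] at h2
    have h3 := RingHom.congr_fun (hom_eq_of_point_eq ι _ _ h2) b
    change b = evalAt (RingHom.id B) (1 : G →* B) (α b) at h3
    conv_rhs => rw [h3, ← MonoidAlgebra.sum_coeff_single (α b)]
    rw [Finsupp.sum, Finsupp.sum, map_sum]
    refine Finset.sum_congr rfl fun m _ => ?_
    rw [evalAt_single]
    simp
  homog b m := by
    classical
    set α := coact A ι
    let E := MonoidAlgebra B (G × G)
    let g : B →+* E := MonoidAlgebra.singleOneRingHom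
    let χ₁ : G →* E := (MonoidAlgebra.of B (G × G)).comp (MonoidHom.inl G G)
    let χ₂ : G →* E := (MonoidAlgebra.of B (G × G)).comp (MonoidHom.inr G G)
    have h4 := A.op_mul E χ₁ χ₂ (Spec.map (CommRingCat.ofHom g) ≫ ι)
    rw [op_eq A ι, op_eq A ι, op_eq A ι] at h4
    have h5 := RingHom.congr_fun (hom_eq_of_point_eq ι _ _ h4) b
    have e1 : ∀ y, evalAt g (χ₁ * χ₂) y = y.coeff.sum fun i x => MonoidAlgebra.single (i, i) x := fun y => by
      conv_lhs => rw [← MonoidAlgebra.sum_coeff_single y]
      rw [Finsupp.sum, map_sum]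
      refine Finset.sum_congr rfl fun i _ => ?_
      rw [evalAt_single]
      change (MonoidAlgebra.single (1 : G × G) (y.coeff i) : MonoidAlgebra B (G × G)) *
        (MonoidAlgebra.single (i, (1 : G)) 1 * MonoidAlgebra.single ((1 : G), i) 1) = MonoidAlgebra.single (i, i) (y.coeff i)
      simp [MonoidAlgebra.single_mul_single]
    have e2 : ∀ y, evalAt ((evalAt g χ₂).comp α) χ₁ y = y.coeff.sum fun i x =>
        (α x).coeff.sum fun j z => MonoidAlgebra.single (i, j) z := fun y => by
      conv_lhs => rw [← MonoidAlgebra.sum_coeff_single y]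
      rw [Finsupp.sum, map_sum]
      refine Finset.sum_congr rfl fun i _ => ?_
      rw [evalAt_single, RingHom.comp_apply]
      conv_lhs => rw [← MonoidAlgebra.sum_coeff_single (α (y.coeff i))]
      simp only [Finsupp.sum, map_sum, Finset.sum_mul]
      refine Finset.sum_congr rfl fun j _ => ?_
      rw [evalAt_single]
      change (MonoidAlgebra.single (1 : G × G) _ : MonoidAlgebra B (G × G)) * MonoidAlgebra.single ((1 : G), j) 1 *
        MonoidAlgebra.single (i, (1 : G)) 1 = MonoidAlgebra.single (i, j) ((α (y.coeff i)).coeff j)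
      rw [MonoidAlgebra.single_mul_single, MonoidAlgebra.single_mul_single]
      simp
    simp only [RingHom.comp_apply] at h5
    rw [e1, e2] at h5
    refine MonoidAlgebra.coeff_injective (Finsupp.ext fun n => ?_)
    have h6 := congrArg (fun z : E => z.coeff (m, n)) h5
    simp only [MonoidAlgebra.coeff_finsuppSum, Finsupp.sum_apply, MonoidAlgebra.coeff_single,
      Finsupp.single_apply, Prod.mk.injEq] at h6
    rw [Finsupp.sum, Finset.sum_eq_single m (fun i _ hi => by
        rw [if_neg (fun h => hi h.1)]) (fun hm => by simp [Finsupp.notMem_support_iff.mp hm])] at h6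
    rw [Finsupp.sum, Finset.sum_eq_single m (fun i _ hi => by
        rw [Finsupp.sum]; exact Finset.sum_eq_zero fun j _ => if_neg fun h => hi h.1)
      (fun hm => by simp [Finsupp.notMem_support_iff.mp hm])] at h6
    rw [Finsupp.sum, Finset.sum_eq_single n (fun j _ hj => if_neg fun h => hj h.2)
      (fun hn => by simp [Finsupp.notMem_support_iff.mp hn])] at h6
    simp only [true_and, and_self, if_true] at h6
    rw [MonoidAlgebra.coeff_single, Finsupp.single_apply, ← h6]

end GrothLib.DiagGrp
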