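import Groth.Agent.Lib.DiagGrp.KernelIdeal
import Groth.Agent.Lib.DiagGrp.CharHom
import Mathlib.RingTheory.Idempotents

/-!
Homomorphisms of diagonalisable groups over a ring as families of group-like elements, and their lifting
along nilpotent thickenings.
-/

universe u

open CategoryTheory MonoidalCategory CartesianMonoidalCategory MonObj GrpObj AlgebraicGeometry
open CategoryTheory.Limits

namespace GrothLib.DiagGrp

section Algebra

variable {A : Type u} [CommRing A] {G : Type} [CommGroup G]

/-- A group-like element of `A[G]`, phrased on exponents. -/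
structure IsGroupLikeFam (x : MonoidAlgebra A G) : Prop where
  diag : MonoidAlgebra.mapDomainRingHom A ((MonoidHom.id G).prod (MonoidHom.id G)) x =
    MonoidAlgebra.mapDomainRingHom A (MonoidHom.inl G G) x * MonoidAlgebra.mapDomainRingHom A (MonoidHom.inr G G) x
  aug : evalAt (RingHom.id A) (1 : G →* A) x = 1

theorem IsGroupLikeFam.one : IsGroupLikeFam (1 : MonoidAlgebra A G) :=
  ⟨by rw [map_one, map_one, map_one, _root_.one_mul], map_one _⟩

theorem IsGroupLikeFam.mul {x y : MonoidAlgebra A G} (hx : IsGroupLikeFam x) (hy : IsGroupLikeFam y) :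
    IsGroupLikeFam (x * y) :=
  ⟨by rw [map_mul, map_mul, map_mul, hx.diag, hy.diag, _root_.mul_mul_mul_comm],
    by rw [map_mul, hx.aug, hy.aug, _root_.mul_one]⟩

theorem isGroupLikeFam_iff (x : MonoidAlgebra A G) [DecidableEq G] :
    IsGroupLikeFam x ↔ (∀ a b, x.coeff a * x.coeff b = if a = b then x.coeff a else 0) ∧
      x.coeff.sum (fun _ c => c) = 1 := by
  have hdiag : ∀ a b, (MonoidAlgebra.mapDomainRingHom A ((MonoidHom.id G).prod (MonoidHom.id G)) x).coeff (a, b) =
      if a = b then x.coeff a else 0 := by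
    intro a b
    change (Finsupp.mapDomain (fun g : G => (g, g)) x.coeff) (a, b) = _
    split_ifs with h
    · subst h
      exact Finsupp.mapDomain_apply (f := fun g : G => (g, g)) (fun p q hpq => congrArg Prod.fst hpq) x.coeff a
    · refine Finsupp.mapDomain_notin_range _ _ ?_
      rintro ⟨g, hg⟩
      exact h ((congrArg Prod.fst hg).symm.trans (congrArg Prod.snd hg))
  have hprod : ∀ a b, (MonoidAlgebra.mapDomainRingHom A (MonoidHom.inl G G) x *
      MonoidAlgebra.mapDomainRingHom A (MonoidHom.inr G G) x).coeff (a, b) = x.coeff a * x.coeff b := by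
    intro a b
    have hl : MonoidAlgebra.mapDomainRingHom A (MonoidHom.inl G G) x =
        ∑ g ∈ x.coeff.support, MonoidAlgebra.single (g, (1 : G)) (x.coeff g) := by
      conv_lhs => rw [← MonoidAlgebra.sum_coeff_single x, Finsupp.sum, map_sum]
      exact Finset.sum_congr rfl fun g _ => MonoidAlgebra.mapDomain_single
    have hr : MonoidAlgebra.mapDomainRingHom A (MonoidHom.inr G G) x =
        ∑ g ∈ x.coeff.support, MonoidAlgebra.single ((1 : G), g) (x.coeff g) := by
      conv_lhs => rw [← MonoidAlgebra.sum_coeff_single x, Finsupp.sum, map_sum]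
      exact Finset.sum_congr rfl fun g _ => MonoidAlgebra.mapDomain_single
    rw [hl, hr, Finset.sum_mul_sum]
    simp only [MonoidAlgebra.single_mul_single, MonoidAlgebra.coeff_sum, Finset.sum_apply', Prod.mk_mul_mk,
      _root_.one_mul, _root_.mul_one, MonoidAlgebra.coeff_single]
    rw [Finset.sum_eq_single a, Finset.sum_eq_single b]
    · simp
    · intro c _ hc
      simp [hc]
    · intro hb
      simp [Finsupp.notMem_support_iff.mp hb]
    · intro c _ hc
      refine Finset.sum_eq_zero fun d _ => ?_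
      simp [hc]
    · intro ha
      refine Finset.sum_eq_zero fun d _ => ?_
      simp [Finsupp.notMem_support_iff.mp ha]
  have haug : evalAt (RingHom.id A) (1 : G →* A) x = x.coeff.sum (fun _ c => c) := by
    conv_lhs => rw [← MonoidAlgebra.sum_coeff_single x, Finsupp.sum, map_sum]
    exact Finset.sum_congr rfl fun g _ => by simp [evalAt_single]
  constructor
  · intro h
    refine ⟨fun a b => ?_, haug ▸ h.aug⟩
    rw [← hprod, ← h.diag, hdiag]
  · rintro ⟨h1, h2⟩
    refine ⟨MonoidAlgebra.coeff_injective (Finsupp.ext fun p => ?_), haug.trans h2⟩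
    rw [hdiag p.1 p.2, hprod p.1 p.2, h1]

theorem IsGroupLikeFam.isIdempotentElem_coeff {x : MonoidAlgebra A G} (hx : IsGroupLikeFam x) (a : G) :
    IsIdempotentElem (x.coeff a) := by
  classical
  change _ * _ = _
  simpa using ((isGroupLikeFam_iff x).mp hx).1 a a

/-- Group-like elements lift uniquely along surjections with nil kernel. -/
theorem existsUnique_groupLike_lift {B : Type u} [CommRing B] (π : A →+* B) (hπ : Function.Surjective π)
    (hnil : ∀ a ∈ RingHom.ker π, IsNilpotent a) (y : MonoidAlgebra B G) (hy : IsGroupLikeFam y) :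
    ∃! x : MonoidAlgebra A G, IsGroupLikeFam x ∧ MonoidAlgebra.mapRingHom G π x = y := by
  classical
  have hy' := (isGroupLikeFam_iff y).mp hy
  have huniq : ∀ {e e' : A}, IsIdempotentElem e → IsIdempotentElem e' → π e = π e' → e = e' := fun he he' h =>
    eq_of_isNilpotent_sub_of_isIdempotentElem he he' (hnil _ (by rw [RingHom.mem_ker, map_sub, h, sub_self]))
  choose e he hπe using fun g : G => (existsUnique_isIdempotentElem_eq_of_ker_isNilpotent π hnil (y.coeff g)
    (RingHom.mem_range.mpr (hπ _)) (hy.isIdempotentElem_coeff g)).exists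
  have hsupp : ∀ g, e g ≠ 0 → g ∈ y.coeff.support := fun g hg => Finsupp.mem_support_iff.mpr fun h0 =>
    hg (huniq (he g) IsIdempotentElem.zero (by rw [hπe, h0, map_zero]))
  have horth : ∀ a b, e a * e b = if a = b then e a else 0 := fun a b => by
    split_ifs with h
    · subst h; exact (he a).eq
    · refine huniq ((he a).mul (he b)) IsIdempotentElem.zero ?_
      rw [map_mul, hπe, hπe, hy'.1, if_neg h, map_zero]
  refine ⟨MonoidAlgebra.ofCoeff (Finsupp.onFinset y.coeff.support e hsupp), ⟨(isGroupLikeFam_iff _).mpr ⟨?_, ?_⟩, ?_⟩,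
    ?_⟩
  · intro a b
    simpa using horth a b
  · rw [Finsupp.sum_of_support_subset _ (s := y.coeff.support) (by intro g; simpa using hsupp g) _ (fun _ _ => rfl)]
    simp only [MonoidAlgebra.coeff_ofCoeff, Finsupp.onFinset_apply]
    refine huniq ?_ IsIdempotentElem.one ?_
    · rw [IsIdempotentElem, Finset.sum_mul_sum]
      refine Finset.sum_congr rfl fun a ha => ?_
      rw [Finset.sum_eq_single a (fun b _ hb => by rw [horth, if_neg (Ne.symm hb)]) (fun h => absurd ha h), (he a).eq]
    · rw [map_sum, map_one, ← hy'.2, Finsupp.sum]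
      exact Finset.sum_congr rfl fun g _ => hπe g
  · apply MonoidAlgebra.coeff_injective
    refine Finsupp.ext fun g => ?_
    simp [hπe]
  · rintro x ⟨hx, hxy⟩
    apply MonoidAlgebra.coeff_injective
    refine Finsupp.ext fun g => ?_
    simp only [MonoidAlgebra.coeff_ofCoeff, Finsupp.onFinset_apply]
    refine huniq (hx.isIdempotentElem_coeff g) (he g) ?_
    rw [hπe, ← hxy]
    simp

variable {N : Type} [CommGroup N]

/-- The character of `N` attached to a character of `G` by a family of group-like elements. -/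
noncomputable def charOf (x : N →* MonoidAlgebra A G) {C : Type u} [CommRing C] (h : A →+* C) (χ : G →* C) : N →* C :=
  (evalAt h χ : MonoidAlgebra A G →* C).comp x

theorem charOf_nat (x : N →* MonoidAlgebra A G) {C C' : Type u} [CommRing C] [CommRing C'] (h : A →+* C)
    (g : C →+* C') (χ : G →* C) : charOf x (g.comp h) ((g : C →* C').comp χ) = (g : C →* C').comp (charOf x h χ) :=
  MonoidHom.ext fun n => evalAt_comp g h χ (x n)

theorem charOf_mul (x : N →* MonoidAlgebra A G) (hx : ∀ n, IsGroupLikeFam (x n)) {C : Type u} [CommRing C]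
    (h : A →+* C) (χ χ' : G →* C) : charOf x h (χ * χ') = charOf x h χ * charOf x h χ' := by
  refine MonoidHom.ext fun n => ?_
  change evalAt h (χ * χ') (x n) = evalAt h χ (x n) * evalAt h χ' (x n)
  have e1 : χ * χ' = (χ.coprod χ').comp ((MonoidHom.id G).prod (MonoidHom.id G)) := MonoidHom.ext fun g => rfl
  have e2 : (χ.coprod χ').comp (MonoidHom.inl G G) = χ := MonoidHom.ext fun g => by simp
  have e3 : (χ.coprod χ').comp (MonoidHom.inr G G) = χ' := MonoidHom.ext fun g => by simp
  rw [e1, ← evalAt_mapDomain, (hx n).diag, map_mul, evalAt_mapDomain, evalAt_mapDomain, e2, e3]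

/-- A natural multiplicative family of maps on characters comes from group-like elements. -/
theorem exists_groupLike_of_family
    (Φ : ∀ (C : Type u) [CommRing C], (A →+* C) → (G →* C) → (N →* C))
    (hnat : ∀ (C C' : Type u) [CommRing C] [CommRing C'] (h : A →+* C) (g : C →+* C') (χ : G →* C),
      Φ C' (g.comp h) ((g : C →* C').comp χ) = (g : C →* C').comp (Φ C h χ))
    (hmul : ∀ (C : Type u) [CommRing C] (h : A →+* C) (χ χ' : G →* C), Φ C h (χ * χ') = Φ C h χ * Φ C h χ')
    (hone : ∀ (C : Type u) [CommRing C] (h : A →+* C), Φ C h 1 = 1) :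
    ∃ x : N →* MonoidAlgebra A G, (∀ n, IsGroupLikeFam (x n)) ∧
      ∀ (C : Type u) [CommRing C] (h : A →+* C) (χ : G →* C), Φ C h χ = charOf x h χ := by
  set D := MonoidAlgebra A G
  set D₂ := MonoidAlgebra A (G × G)
  set x := Φ D MonoidAlgebra.singleOneRingHom (MonoidAlgebra.of A G)
  have hprop : ∀ (C : Type u) [CommRing C] (h : A →+* C) (χ : G →* C), Φ C h χ = charOf x h χ := by
    intro C _ h χ
    have h1 : (evalAt h χ).comp MonoidAlgebra.singleOneRingHom = h := RingHom.ext fun a => by
      simp [evalAt_single]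
    have h2 : (evalAt h χ : D →* C).comp (MonoidAlgebra.of A G) = χ := MonoidHom.ext fun g => by
      change evalAt h χ (MonoidAlgebra.single g 1) = χ g
      rw [evalAt_single, map_one, _root_.one_mul]
    have h3 := hnat D C MonoidAlgebra.singleOneRingHom (evalAt h χ) (MonoidAlgebra.of A G)
    rw [h1, h2] at h3
    exact h3
  have hd : ∀ q : G →* G × G, Φ D₂ MonoidAlgebra.singleOneRingHom ((MonoidAlgebra.of A (G × G)).comp q) =
      (MonoidAlgebra.mapDomainRingHom A q : D →* D₂).comp x := by
    intro q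
    have h1 : (MonoidAlgebra.mapDomainRingHom A q).comp MonoidAlgebra.singleOneRingHom =
        (MonoidAlgebra.singleOneRingHom : A →+* D₂) := RingHom.ext fun a => by simp
    have h2 : (MonoidAlgebra.mapDomainRingHom A q : D →* D₂).comp (MonoidAlgebra.of A G) =
        (MonoidAlgebra.of A (G × G)).comp q := MonoidHom.ext fun g => MonoidAlgebra.mapDomain_single
    have h3 := hnat D D₂ MonoidAlgebra.singleOneRingHom (MonoidAlgebra.mapDomainRingHom A q) (MonoidAlgebra.of A G)
    rw [h1, h2] at h3
    exact h3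
  refine ⟨x, fun n => ⟨?_, ?_⟩, hprop⟩
  · have e1 : (MonoidAlgebra.of A (G × G)).comp ((MonoidHom.id G).prod (MonoidHom.id G)) =
        (MonoidAlgebra.of A (G × G)).comp (MonoidHom.inl G G) * (MonoidAlgebra.of A (G × G)).comp (MonoidHom.inr G G) := by
      refine MonoidHom.ext fun g => ?_
      change MonoidAlgebra.of A (G × G) (g, g) = MonoidAlgebra.of A (G × G) (g, 1) * MonoidAlgebra.of A (G × G) (1, g)
      rw [← map_mul, Prod.mk_mul_mk, _root_.mul_one, _root_.one_mul]
    have h1 := hd ((MonoidHom.id G).prod (MonoidHom.id G))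
    rw [e1, hmul, hd, hd] at h1
    exact (DFunLike.congr_fun h1 n).symm
  · exact (DFunLike.congr_fun (hprop A (RingHom.id A) 1) n).symm.trans (DFunLike.congr_fun (hone A (RingHom.id A)) n)

/-- Families of group-like elements lift along surjections with nil kernel. -/
theorem exists_groupLike_hom_lift {B : Type u} [CommRing B] (π : A →+* B) (hπ : Function.Surjective π)
    (hnil : ∀ a ∈ RingHom.ker π, IsNilpotent a) (y : N →* MonoidAlgebra B G) (hy : ∀ n, IsGroupLikeFam (y n)) :
    ∃ x : N →* MonoidAlgebra A G, (∀ n, IsGroupLikeFam (x n)) ∧ ∀ n, MonoidAlgebra.mapRingHom G π (x n) = y n := by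
  choose x hx hxu using fun n => existsUnique_groupLike_lift π hπ hnil (y n) (hy n)
  refine ⟨{ toFun := x, map_one' := (hxu 1 1 ⟨IsGroupLikeFam.one, by rw [map_one, map_one]⟩).symm,
            map_mul' := fun a b => (hxu (a * b) _ ⟨(hx a).1.mul (hx b).1, by rw [map_mul, (hx a).2, (hx b).2, map_mul]⟩).symm },
    fun n => (hx n).1, fun n => (hx n).2⟩

end Algebra

section Scheme

variable {A : Type u} [CommRing A] {M N : Type} [AddCommGroup M] [AddCommGroup N]

/-- A family of group-like elements gives a homomorphism of diagonalisable groups. -/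
theorem exists_hom_of_groupLike (x : Multiplicative N →* MonoidAlgebra A (Multiplicative M))
    (hx : ∀ n, IsGroupLikeFam (x n)) :
    ∃ v : Red.DS (Spec (CommRingCat.of A)) M ⟶ Red.DS (Spec (CommRingCat.of A)) N, IsMonHom v ∧
      ∀ (C : Type u) [CommRing C] (h : A →+* C) (χ : Multiplicative M →* C),
        dsPoint M (Spec.map (CommRingCat.ofHom h)) χ ≫ v =
          dsPoint N (Spec.map (CommRingCat.ofHom h)) (charOf x h χ) := by
  set W := Spec (CommRingCat.of A)
  have : IsAffine (Red.DS W M).left := by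
    have : IsAffine (Red.diag (ULift.{u} ℤ) M).left := inferInstanceAs (IsAffine (Spec _))
    exact inferInstanceAs (IsAffine (pullback (Red.diag (ULift.{u} ℤ) M).hom _))
  set X := (Red.DS W M).left
  set C₀ := Γ(X, ⊤)
  set h₀ : A →+* C₀ := (Spec.preimage (X.isoSpec.inv ≫ (Red.DS W M).hom)).hom
  have hh₀ : Spec.map (CommRingCat.ofHom h₀) = X.isoSpec.inv ≫ (Red.DS W M).hom := by
    rw [CommRingCat.ofHom_hom, Spec.map_preimage]
  let k : Over.mk (Spec.map (CommRingCat.ofHom h₀)) ⟶ Red.DS W M := Over.homMk X.isoSpec.inv hh₀.symm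
  set χ₀ := (dsPoint M (Spec.map (CommRingCat.ofHom h₀))).symm k
  set y := dsPoint N (Spec.map (CommRingCat.ofHom h₀)) (charOf x h₀ χ₀)
  let v : Red.DS W M ⟶ Red.DS W N := Over.homMk (X.isoSpec.hom ≫ y.left) (by
    rw [Category.assoc, Over.w y]
    change X.isoSpec.hom ≫ Spec.map (CommRingCat.ofHom h₀) = _
    rw [hh₀, Iso.hom_inv_id_assoc])
  have hv : ∀ (C : Type u) [CommRing C] (h : A →+* C) (χ : Multiplicative M →* C),
      dsPoint M (Spec.map (CommRingCat.ofHom h)) χ ≫ v =
        dsPoint N (Spec.map (CommRingCat.ofHom h)) (charOf x h χ) := by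
    intro C _ h χ
    set g := dsPoint M (Spec.map (CommRingCat.ofHom h)) χ
    set h' : C₀ →+* C := (Spec.preimage (g.left ≫ X.isoSpec.hom)).hom
    have hh' : Spec.map (CommRingCat.ofHom h') = g.left ≫ X.isoSpec.hom := by
      rw [CommRingCat.ofHom_hom, Spec.map_preimage]
    have hhh : h'.comp h₀ = h := by
      have h1 : Spec.map (CommRingCat.ofHom (h'.comp h₀)) = Spec.map (CommRingCat.ofHom h) := by
        rw [CommRingCat.ofHom_comp, Spec.map_comp, hh', hh₀, Category.assoc, Iso.hom_inv_id_assoc]
        exact Over.w g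
      exact congrArg CommRingCat.Hom.hom (Spec.map_injective h1)
    have hw : Spec.map (CommRingCat.ofHom h') ≫ Spec.map (CommRingCat.ofHom h₀) = Spec.map (CommRingCat.ofHom h) := by
      rw [← Spec.map_comp, ← CommRingCat.ofHom_comp, hhh]
    set j : Over.mk (Spec.map (CommRingCat.ofHom h)) ⟶ Over.mk (Spec.map (CommRingCat.ofHom h₀)) :=
      Over.homMk (Spec.map (CommRingCat.ofHom h')) hw
    have hjk : j ≫ k = g := by
      apply Over.OverMorphism.ext
      change Spec.map (CommRingCat.ofHom h') ≫ X.isoSpec.inv = g.left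
      rw [hh', Category.assoc, Iso.hom_inv_id, Category.comp_id]
    have hχ : (h' : C₀ →* C).comp χ₀ = χ := by
      apply (dsPoint M (Spec.map (CommRingCat.ofHom h))).injective
      rw [← dsPoint_comp _ _ h' χ₀ hw, MulEquiv.apply_symm_apply]
      exact hjk
    have hj : j ≫ y = dsPoint N (Spec.map (CommRingCat.ofHom h)) (charOf x h χ) := by
      rw [dsPoint_comp _ _ h' _ hw, ← charOf_nat, hhh, hχ]
    apply Over.OverMorphism.ext
    change g.left ≫ X.isoSpec.hom ≫ y.left = _
    rw [← hj, ← Category.assoc, ← hh']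
    rfl
  refine ⟨v, ?_, hv⟩
  apply GrothLib.GrpSchField.isMonHom_of_mul
  have key : ∀ (Y : Over W) (a b : Y ⟶ Red.DS W M), (a * b) ≫ v = (a ≫ v) * (b ≫ v) := by
    intro Y a b
    apply Over.OverMorphism.ext
    refine Scheme.hom_ext_of_forall _ _ fun P => ?_
    obtain ⟨V, hV, hPV, -⟩ := exists_isAffineOpen_mem_and_subset (TopologicalSpace.Opens.mem_top P)
    refine ⟨V, hPV, ?_⟩
    set h : A →+* Γ(Y.left, V) := (Spec.preimage (hV.fromSpec ≫ Y.hom)).hom
    have hh : Spec.map (CommRingCat.ofHom h) = hV.fromSpec ≫ Y.hom := by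
      rw [CommRingCat.ofHom_hom, Spec.map_preimage]
    let j : Over.mk (Spec.map (CommRingCat.ofHom h)) ⟶ Y := Over.homMk hV.fromSpec hh.symm
    obtain ⟨χ, hχ⟩ := (dsPoint M (Spec.map (CommRingCat.ofHom h))).surjective (j ≫ a)
    obtain ⟨χ', hχ'⟩ := (dsPoint M (Spec.map (CommRingCat.ofHom h))).surjective (j ≫ b)
    have h1 : j ≫ (a * b) ≫ v = j ≫ ((a ≫ v) * (b ≫ v)) := by
      rw [← Category.assoc, MonObj.comp_mul, MonObj.comp_mul, ← Category.assoc, ← Category.assoc, ← hχ, ← hχ',
        hv, hv, ← map_mul (dsPoint N _), ← charOf_mul x hx, ← hv]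
      exact congrArg (· ≫ v) (map_mul (dsPoint M (Spec.map (CommRingCat.ofHom h))) χ χ').symm
    have h2 : hV.fromSpec ≫ ((a * b) ≫ v).left = hV.fromSpec ≫ ((a ≫ v) * (b ≫ v)).left :=
      congrArg (fun t => t.left) h1
    rw [← IsAffineOpen.isoSpec_hom_fromSpec hV, Category.assoc, Category.assoc, h2]
  have h2 := key _ (fst _ _) (snd _ _)
  rw [Hom.mul_def, lift_fst_snd, Category.id_comp, Hom.mul_def, ← lift_map] at h2
  rw [h2, lift_fst_snd, Category.id_comp]

end Scheme

end GrothLib.DiagGrp
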