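import Mathlib.RingTheory.Flat.Basic
import Mathlib.RingTheory.Finiteness.Nakayama
import Mathlib.Algebra.MonoidAlgebra.Basic
import Mathlib.Algebra.MonoidAlgebra.MapDomain
import Mathlib.RingTheory.Nilpotent.Lemmas
import Mathlib.RingTheory.Finiteness.Ideal
import Mathlib.RingTheory.TensorProduct.Maps
import Mathlib.GroupTheory.QuotientGroup.Basic
import Mathlib.GroupTheory.Finiteness
import Mathlib.Tactic.LinearCombination
import Mathlib.Tactic.Abel

/-!
Coefficients along a nilpotent ideal in a flat algebra, and flat quotients of group algebras which are a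
group algebra modulo a nilpotent ideal.
-/

universe u

open scoped TensorProduct

namespace GrothLib.DiagGrp

variable {R : Type u} [CommRing R]

/-- For a flat module, a linear functional modulo `a` gives well-defined coefficients in `a ^ k / a ^ (k + 1)`. -/
theorem sum_mul_mem_pow_succ {B : Type u} [AddCommGroup B] [Module R B] [Module.Flat R B] (a : Ideal R)
    (θ : B →ₗ[R] R ⧸ a) (k : ℕ) {J : Type*} (s : Finset J) (r t : J → R) (b : J → B)
    (hr : ∀ j ∈ s, r j ∈ a ^ k) (ht : ∀ j ∈ s, Ideal.Quotient.mk a (t j) = θ (b j))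
    (hw : ∑ j ∈ s, r j • b j ∈ (a ^ (k + 1)) • (⊤ : Submodule R B)) :
    ∑ j ∈ s, r j * t j ∈ a ^ (k + 1) := by
  classical
  let P : ↥(a ^ k) →ₗ[R] (R ⧸ a) →ₗ[R] R ⧸ (a ^ (k + 1)) :=
    { toFun := fun r => (a : Submodule R R).liftQ ((LinearMap.toSpanSingleton R _ (Ideal.Quotient.mk _ (r : R))))
        (fun t ht => by
          rw [LinearMap.mem_ker, LinearMap.toSpanSingleton_apply, Algebra.smul_def, Ideal.Quotient.algebraMap_eq,
            ← map_mul, Ideal.Quotient.eq_zero_iff_mem, pow_succ']
          exact Ideal.mul_mem_mul ht r.2)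
      map_add' := fun r r' => Submodule.linearMap_qext _ (LinearMap.ext fun t => by
        change t • Ideal.Quotient.mk (a ^ (k + 1)) ((r + r' : ↥(a ^ k)) : R) =
          t • Ideal.Quotient.mk (a ^ (k + 1)) (r : R) + t • Ideal.Quotient.mk (a ^ (k + 1)) (r' : R)
        rw [Submodule.coe_add, map_add, smul_add])
      map_smul' := fun c r => Submodule.linearMap_qext _ (LinearMap.ext fun t => by
        change t • Ideal.Quotient.mk (a ^ (k + 1)) ((c • r : ↥(a ^ k)) : R) =
          c • t • Ideal.Quotient.mk (a ^ (k + 1)) (r : R)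
        simp only [Submodule.coe_smul, smul_eq_mul, map_mul, Algebra.smul_def, Ideal.Quotient.algebraMap_eq]
        ring) }
  have hP : ∀ (r : ↥(a ^ k)) (t : R), P r (Ideal.Quotient.mk a t) = Ideal.Quotient.mk _ ((r : R) * t) := fun r t => by
    change (LinearMap.toSpanSingleton R _ (Ideal.Quotient.mk _ (r : R))) t = _
    rw [LinearMap.toSpanSingleton_apply, Algebra.smul_def, Ideal.Quotient.algebraMap_eq, ← map_mul, mul_comm]
  let Φ : ↥(a ^ k) ⊗[R] B →ₗ[R] R ⧸ (a ^ (k + 1)) := TensorProduct.lift (P.compl₂ θ)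
  let μ' : ↥(a ^ k) ⊗[R] B →ₗ[R] B := (TensorProduct.lid R B).toLinearMap ∘ₗ
    LinearMap.rTensor B (a ^ k : Ideal R).subtype
  have hμ : Function.Injective μ' := (TensorProduct.lid R B).injective.comp
    (Module.Flat.rTensor_preserves_injective_linearMap _ Subtype.val_injective)
  have hμt : ∀ (r : ↥(a ^ k)) (y : B), μ' (r ⊗ₜ y) = (r : R) • y := fun r y => by simp [μ']
  have key : ∀ w ∈ (a ^ (k + 1)) • (⊤ : Submodule R B), ∃ ω, μ' ω = w ∧ Φ ω = 0 := by
    intro w hw
    refine Submodule.smul_induction_on hw (fun c hc y _ => ?_) ?_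
    · have hc' : c ∈ a ^ k := Ideal.pow_le_pow_right (Nat.le_succ k) hc
      refine ⟨⟨c, hc'⟩ ⊗ₜ y, hμt _ _, ?_⟩
      obtain ⟨t', ht'⟩ := Ideal.Quotient.mk_surjective (θ y)
      change P ⟨c, hc'⟩ (θ y) = 0
      rw [← ht', hP, Ideal.Quotient.eq_zero_iff_mem]
      exact Ideal.mul_mem_right _ _ hc
    · rintro x y ⟨ω, h1, h2⟩ ⟨ω', h3, h4⟩
      exact ⟨ω + ω', by rw [map_add, h1, h3], by rw [map_add, h2, h4, add_zero]⟩
  obtain ⟨ω, hω, hω0⟩ := key _ hw
  set ω' : ↥(a ^ k) ⊗[R] B := ∑ j ∈ s, (if h : r j ∈ a ^ k then (⟨r j, h⟩ : ↥(a ^ k)) else 0) ⊗ₜ b j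
  have h1 : μ' ω' = ∑ j ∈ s, r j • b j := by
    rw [map_sum]
    exact Finset.sum_congr rfl fun j hj => by rw [dif_pos (hr j hj), hμt]
  rw [← hμ (h1.trans hω.symm)] at hω0
  rw [← Ideal.Quotient.eq_zero_iff_mem, map_sum, ← hω0, map_sum]
  exact Finset.sum_congr rfl fun j hj => by
    rw [dif_pos (hr j hj)]
    change _ = P _ (θ (b j))
    rw [← ht j hj, hP]

/-- Modulo a prime containing all `x γ - 1`, hence modulo `a`. -/
theorem sub_one_mem_map_of_forall_prime {B : Type u} [CommRing B] [Algebra R B] {G : Type} [CommGroup G]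
    (Γ : Subgroup G) (hΓ : Γ.FG) (x : G →* B) (hgen : ∀ b : B, ∃ l : MonoidAlgebra R G, MonoidAlgebra.lift R B G x l = b)
    (a : Ideal R) (ha : a ≤ nilradical R) (hafg : a.FG)
    (θ : B →ₐ[R] MonoidAlgebra (R ⧸ a) (G ⧸ Γ))
    (hθ : ∀ g, θ (x g) = MonoidAlgebra.single (g : G ⧸ Γ) 1)
    (hfib : ∀ p : Ideal R, p.IsPrime → ∀ γ ∈ Γ, x γ - 1 ∈ p.map (algebraMap R B)) :
    ∀ γ ∈ Γ, x γ - 1 ∈ a.map (algebraMap R B) := by
  classical
  obtain ⟨F, hF⟩ := hΓ
  set aB := a.map (algebraMap R B)
  set K : Ideal B := aB ⊔ Ideal.span ((fun g => x g - 1) '' (F : Set G))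
  have hθa : ∀ z ∈ aB, θ z = 0 := fun z hz => by
    have hle : aB ≤ RingHom.ker θ := Ideal.map_le_iff_le_comap.mpr fun r hr => by
      rw [Ideal.mem_comap, RingHom.mem_ker, AlgHom.commutes, MonoidAlgebra.coe_algebraMap]
      simp [Ideal.Quotient.eq_zero_iff_mem.mpr hr]
    exact hle hz
  have hxΓ : ∀ γ ∈ Γ, x γ - 1 ∈ K := by
    intro γ hγ
    rw [← hF] at hγ
    induction hγ using Subgroup.closure_induction with
    | mem g hg => exact Ideal.mem_sup_right (Ideal.subset_span ⟨g, hg, rfl⟩)
    | one => simp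
    | mul g g' _ _ hg hg' =>
        have e : x (g * g') - 1 = x g * (x g' - 1) + (x g - 1) := by rw [map_mul]; ring
        rw [e]
        exact K.add_mem (K.mul_mem_left _ hg') hg
    | inv g _ hg =>
        have e : x g⁻¹ - 1 = (- x g⁻¹) * (x g - 1) := by
          have : x g⁻¹ * x g = 1 := by rw [← map_mul, inv_mul_cancel, map_one]
          linear_combination this
        rw [e]
        exact K.mul_mem_left _ hg
  have hKθ : ∀ z ∈ K, θ z = 0 := fun z hz => by
    have hle : K ≤ RingHom.ker θ := sup_le (fun y hy => hθa y hy) (Ideal.span_le.mpr (by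
      rintro _ ⟨g, hg, rfl⟩
      change θ (x g - 1) = 0
      rw [map_sub, map_one, hθ, (QuotientGroup.eq_one_iff g).mpr (hF ▸ Subgroup.subset_closure hg),
        MonoidAlgebra.one_def, sub_self]))
    exact hle hz
  let sec : G ⧸ Γ → G := Quotient.out
  have hrep : ∀ g : G, x g - x (sec (g : G ⧸ Γ)) ∈ K := fun g => by
    have hmem : (sec (g : G ⧸ Γ))⁻¹ * g ∈ Γ := QuotientGroup.eq.mp (QuotientGroup.out_eq' _)
    have e : x g - x (sec (g : G ⧸ Γ)) = x (sec (g : G ⧸ Γ)) * (x ((sec (g : G ⧸ Γ))⁻¹ * g) - 1) := by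
      rw [mul_sub, ← map_mul, mul_inv_cancel_left, _root_.mul_one]
    rw [e]
    exact K.mul_mem_left _ (hxΓ _ hmem)
  have hdec : ∀ b : B, ∃ l : MonoidAlgebra R (G ⧸ Γ), b - l.coeff.sum (fun c r => r • x (sec c)) ∈ K ∧
      MonoidAlgebra.mapRingHom _ (Ideal.Quotient.mk a) l = θ b := by
    intro b
    obtain ⟨y, rfl⟩ := hgen b
    induction y using MonoidAlgebra.induction_linear with
    | zero => exact ⟨0, by simp, by simp⟩
    | add y y' hy hy' =>
        obtain ⟨l, h1, h2⟩ := hy
        obtain ⟨l', h1', h2'⟩ := hy'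
        refine ⟨l + l', ?_, by rw [map_add, h2, h2', map_add, map_add]⟩
        rw [map_add, MonoidAlgebra.coeff_add, Finsupp.sum_add_index (by simp) (by intro c _ r r'; rw [add_smul]),
          add_sub_add_comm]
        exact K.add_mem h1 h1'
    | single g r =>
        refine ⟨MonoidAlgebra.single (g : G ⧸ Γ) r, ?_, ?_⟩
        · rw [MonoidAlgebra.lift_single, MonoidAlgebra.coeff_single, Finsupp.sum_single_index (by simp), ← smul_sub,
            Algebra.smul_def]
          exact K.mul_mem_left _ (hrep g)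
        · rw [MonoidAlgebra.lift_single, map_smul, hθ, MonoidAlgebra.smul_single]
          simp [Algebra.smul_def]
  have hkey : ∀ (p : Ideal R), p.IsPrime → K ≤ p.map (algebraMap R B) * K ⊔ aB := by
    intro p hp z hz
    have hpK : z ∈ (p • ⊤ : Submodule R B) := by
      rw [Ideal.smul_top_eq_map]
      have hle : K ≤ p.map (algebraMap R B) := sup_le (Ideal.map_mono (ha.trans (nilradical_le_prime p)))
        (Ideal.span_le.mpr (by
          rintro _ ⟨g, hg, rfl⟩
          exact hfib p hp g (hF ▸ Subgroup.subset_closure hg)))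
      exact hle hz
    -- `z` decomposes as a part in `p K` and a combination of representatives with coefficients in `a`
    have hsplit : ∀ w ∈ (p • ⊤ : Submodule R B), ∃ l : MonoidAlgebra R (G ⧸ Γ),
        w - l.coeff.sum (fun c r => r • x (sec c)) ∈ p.map (algebraMap R B) * K ∧
        MonoidAlgebra.mapRingHom _ (Ideal.Quotient.mk a) l = θ w := by
      intro w hw
      refine Submodule.smul_induction_on hw (fun r hr y _ => ?_) ?_
      · obtain ⟨l, h1, h2⟩ := hdec y
        refine ⟨r • l, ?_, ?_⟩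
        · rw [MonoidAlgebra.coeff_smul, Finsupp.sum_smul_index (by simp)]
          have e : r • y - (l.coeff.sum fun c s => (r * s) • x (sec c)) =
              algebraMap R B r * (y - l.coeff.sum fun c s => s • x (sec c)) := by
            rw [← Algebra.smul_def, smul_sub, Finsupp.smul_sum]
            simp [smul_smul]
          rw [e]
          exact Ideal.mul_mem_mul (Ideal.mem_map_of_mem _ hr) h1
        · rw [map_smul θ, ← h2, Algebra.smul_def, Algebra.smul_def, map_mul]
          congr 1
          simp [MonoidAlgebra.coe_algebraMap]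
      · rintro v v' ⟨l, h1, h2⟩ ⟨l', h1', h2'⟩
        refine ⟨l + l', ?_, by rw [map_add, h2, h2', map_add]⟩
        rw [MonoidAlgebra.coeff_add, Finsupp.sum_add_index (by simp) (by intro c _ r r'; rw [add_smul]),
          add_sub_add_comm]
        exact Ideal.add_mem _ h1 h1'
    obtain ⟨l, h1, h2⟩ := hsplit z hpK
    rw [hKθ z hz] at h2
    have h3 : l.coeff.sum (fun c r => r • x (sec c)) ∈ aB := by
      refine Submodule.sum_mem _ fun c _ => ?_
      dsimp only
      rw [Algebra.smul_def]
      refine aB.mul_mem_right _ (Ideal.mem_map_of_mem _ (Ideal.Quotient.eq_zero_iff_mem.mp ?_))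
      simpa using congrArg (fun w : MonoidAlgebra (R ⧸ a) (G ⧸ Γ) => w.coeff c) h2
    exact Submodule.mem_sup.mpr ⟨_, h1, _, h3, sub_add_cancel _ _⟩
  suffices hK : K ≤ aB from fun γ hγ => hK (hxΓ γ hγ)
  set m := Ideal.Quotient.mk aB
  have hfgK : (K.map m).FG :=
    Ideal.FG.map (Submodule.FG.sup (Ideal.FG.map hafg _) ⟨F.image (fun g => x g - 1), by rw [Finset.coe_image]⟩) m
  suffices hann : K.map m = ⊥ from fun z hz => Ideal.Quotient.eq_zero_iff_mem.mp
    (Ideal.mem_bot.mp (hann ▸ Ideal.mem_map_of_mem m hz))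
  by_contra hne
  obtain ⟨Q, hQ, hle⟩ := Ideal.exists_le_maximal (Submodule.annihilator (K.map m))
    (fun htop => hne (Submodule.annihilator_eq_top_iff.mp htop))
  let p : Ideal R := (Q.comap m).comap (algebraMap R B)
  have hsmul : K.map m ≤ Q • K.map m := by
    refine (Ideal.map_mono (hkey p (Ideal.IsPrime.comap _))).trans ?_
    rw [Ideal.map_sup, Ideal.map_mul, Ideal.map_quotient_self, sup_bot_eq, smul_eq_mul]
    refine Ideal.mul_mono_left ?_
    rw [Ideal.map_le_iff_le_comap]
    exact Ideal.map_le_iff_le_comap.mpr le_rfl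
  obtain ⟨r, hr, hr0⟩ := Submodule.exists_sub_one_mem_and_smul_eq_zero_of_fg_of_le_smul Q _ hfgK hsmul
  have hrQ : r ∈ Q := hle (Submodule.mem_annihilator.mpr hr0)
  exact hQ.ne_top ((Ideal.eq_top_iff_one Q).mpr (by simpa using Q.sub_mem hrQ hr))

/-- A flat algebra with a comultiplication on the `x g`, congruent to `(R ⧸ a)[G ⧸ Γ]` modulo a nilpotent ideal `a`
and killing `x γ - 1` there, is `R[G ⧸ Γ]`. -/
theorem eq_one_and_injective_of_const {B : Type u} [CommRing B] [Algebra R B] [Module.Flat R B] {G : Type}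
    [CommGroup G] (Γ : Subgroup G) (x : G →* B)
    (hgen : ∀ b : B, ∃ l : MonoidAlgebra R G, MonoidAlgebra.lift R B G x l = b)
    (Δ : B →ₐ[R] B ⊗[R] B) (hΔ : ∀ g, Δ (x g) = x g ⊗ₜ x g)
    (a : Ideal R) (ha : IsNilpotent a) (θ : B →ₐ[R] MonoidAlgebra (R ⧸ a) (G ⧸ Γ))
    (hθ : ∀ g, θ (x g) = MonoidAlgebra.single (g : G ⧸ Γ) 1)
    (hmod : ∀ γ ∈ Γ, x γ - 1 ∈ a.map (algebraMap R B)) :
    ∃ hx : Γ ≤ x.ker, Function.Injective (MonoidAlgebra.lift R B (G ⧸ Γ) (QuotientGroup.lift Γ x hx)) := by
  classical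
  obtain ⟨n, hn⟩ := ha
  let sec : G ⧸ Γ → G := Quotient.out
  have hsec : ∀ c, ((sec c : G) : G ⧸ Γ) = c := fun c => QuotientGroup.out_eq' c
  let cf : G ⧸ Γ → B →ₗ[R] R ⧸ a := fun c =>
    { toFun := fun b => (θ b).coeff c
      map_add' := fun b b' => by simp
      map_smul' := fun r b => by simp }
  have hcf : ∀ c g, cf c (x g) = if (g : G ⧸ Γ) = c then 1 else 0 := fun c g => by
    change (θ (x g)).coeff c = _
    rw [hθ, MonoidAlgebra.coeff_single, Finsupp.single_apply]
  have hdec : ∀ b : B, ∃ l : (G ⧸ Γ) →₀ R, b - l.sum (fun c r => r • x (sec c)) ∈ a • (⊤ : Submodule R B) := by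
    intro b
    obtain ⟨y, rfl⟩ := hgen b
    induction y using MonoidAlgebra.induction_linear with
    | zero => exact ⟨0, by simp⟩
    | add y y' hy hy' =>
        obtain ⟨l, h1⟩ := hy
        obtain ⟨l', h1'⟩ := hy'
        refine ⟨l + l', ?_⟩
        rw [map_add, Finsupp.sum_add_index (by simp) (by intro c _ r r'; rw [add_smul]), add_sub_add_comm]
        exact Submodule.add_mem _ h1 h1'
    | single g r =>
        refine ⟨Finsupp.single (g : G ⧸ Γ) r, ?_⟩
        have hmem : (sec (g : G ⧸ Γ))⁻¹ * g ∈ Γ := QuotientGroup.eq.mp (hsec _)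
        have e : x g - x (sec (g : G ⧸ Γ)) = x (sec (g : G ⧸ Γ)) * (x ((sec (g : G ⧸ Γ))⁻¹ * g) - 1) := by
          rw [mul_sub, ← map_mul, mul_inv_cancel_left, _root_.mul_one]
        rw [MonoidAlgebra.lift_single, Finsupp.sum_single_index (by simp), ← smul_sub, e]
        refine Submodule.smul_mem _ _ ?_
        rw [Ideal.smul_top_eq_map]
        exact Ideal.mul_mem_left _ _ (hmod _ hmem)
  have hdecPow : ∀ k, ∀ w ∈ (a ^ k) • (⊤ : Submodule R B), ∃ l : (G ⧸ Γ) →₀ R, (∀ c, l c ∈ a ^ k) ∧
      w - l.sum (fun c r => r • x (sec c)) ∈ (a ^ (k + 1)) • (⊤ : Submodule R B) := by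
    intro k w hw
    refine Submodule.smul_induction_on hw (fun r hr y _ => ?_) ?_
    · obtain ⟨l, h1⟩ := hdec y
      refine ⟨r • l, fun c => by simpa using Ideal.mul_mem_right _ _ hr, ?_⟩
      rw [Finsupp.sum_smul_index (by simp)]
      have e : r • y - (l.sum fun c s => (r * s) • x (sec c)) = r • (y - l.sum fun c s => s • x (sec c)) := by
        rw [smul_sub, Finsupp.smul_sum]
        simp [smul_smul]
      rw [e, pow_succ, ← smul_eq_mul, Submodule.smul_assoc]
      exact Submodule.smul_mem_smul hr h1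
    · rintro v v' ⟨l, h0, h1⟩ ⟨l', h0', h1'⟩
      refine ⟨l + l', fun c => by simpa using Ideal.add_mem _ (h0 c) (h0' c), ?_⟩
      rw [Finsupp.sum_add_index (by simp) (by intro c _ r r'; rw [add_smul]), add_sub_add_comm]
      exact Submodule.add_mem _ h1 h1'
  have hΔmem : ∀ (k : ℕ) w, w ∈ (a ^ k) • (⊤ : Submodule R B) → Δ w ∈ (a ^ k) • (⊤ : Submodule R (B ⊗[R] B)) := by
    intro k w hw
    refine Submodule.smul_induction_on hw (fun r hr y _ => ?_) (fun v v' h h' => ?_)
    · rw [map_smul]
      exact Submodule.smul_mem_smul hr trivial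
    · rw [map_add]
      exact Submodule.add_mem _ h h'
  have hone : ∀ γ ∈ Γ, x γ = 1 := by
    intro γ hγ
    suffices h : ∀ k, x γ - 1 ∈ (a ^ (k + 1)) • (⊤ : Submodule R B) by
      have h' : x γ - 1 ∈ (a ^ n) • (⊤ : Submodule R B) :=
        Submodule.smul_mono_left (Ideal.pow_le_pow_right (Nat.le_succ n)) (h n)
      rw [hn, Ideal.zero_eq_bot, Submodule.bot_smul, Submodule.mem_bot, sub_eq_zero] at h'
      exact h'
    intro k
    induction k with
    | zero =>
        rw [zero_add, pow_one, Ideal.smul_top_eq_map]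
        exact hmod γ hγ
    | succ k ih =>
        set w := x γ - 1
        obtain ⟨l, hl, hlw⟩ := hdecPow (k + 1) w ih
        set N := (a ^ (k + 2)) • (⊤ : Submodule R (B ⊗[R] B))
        set v := fun c => x (sec c) ⊗ₜ[R] x (sec c) - x (sec c) ⊗ₜ[R] (1 : B) - (1 : B) ⊗ₜ[R] x (sec c)
        have hww : w ⊗ₜ[R] w ∈ N := by
          have h1 : ∀ w' ∈ (a ^ (k + 1)) • (⊤ : Submodule R B), w' ⊗ₜ[R] w ∈ N := by
            intro w' hw'
            refine Submodule.smul_induction_on hw' (fun r hr y _ => ?_) (fun u u' h h' => ?_)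
            · refine Submodule.smul_induction_on ih (fun r' hr' y' _ => ?_) (fun u u' h h' => ?_)
              · rw [TensorProduct.tmul_smul, TensorProduct.smul_tmul', smul_smul, ← TensorProduct.smul_tmul']
                refine Submodule.smul_mem_smul ?_ trivial
                exact Ideal.pow_le_pow_right (by omega) (pow_add a (k + 1) (k + 1) ▸ Ideal.mul_mem_mul hr' hr)
              · rw [TensorProduct.tmul_add]
                exact Submodule.add_mem _ h h'
            · rw [TensorProduct.add_tmul]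
              exact Submodule.add_mem _ h h'
          exact h1 w ih
        have hΔw : Δ w = w ⊗ₜ[R] (1 : B) + (1 : B) ⊗ₜ[R] w + w ⊗ₜ[R] w := by
          have hxg : x γ = w + 1 := (sub_add_cancel _ _).symm
          have h1 : Δ w = x γ ⊗ₜ[R] x γ - (1 : B) ⊗ₜ[R] (1 : B) := by
            rw [map_sub, hΔ, map_one, Algebra.TensorProduct.one_def]
          rw [h1, hxg, TensorProduct.add_tmul, TensorProduct.tmul_add, TensorProduct.tmul_add]
          abel
        set D := w - l.sum fun c r => r • x (sec c)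
        have hw' : w = D + l.sum fun c r => r • x (sec c) := (sub_add_cancel _ _).symm
        have hD1 : D ⊗ₜ[R] (1 : B) ∈ N := by
          refine Submodule.smul_induction_on hlw (fun r hr y _ => ?_) (fun u u' h h' => ?_)
          · rw [← TensorProduct.smul_tmul']
            exact Submodule.smul_mem_smul hr trivial
          · rw [TensorProduct.add_tmul]
            exact Submodule.add_mem _ h h'
        have hD2 : (1 : B) ⊗ₜ[R] D ∈ N := by
          refine Submodule.smul_induction_on hlw (fun r hr y _ => ?_) (fun u u' h h' => ?_)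
          · rw [TensorProduct.tmul_smul]
            exact Submodule.smul_mem_smul hr trivial
          · rw [TensorProduct.tmul_add]
            exact Submodule.add_mem _ h h'
        have hsum : ∑ c ∈ l.support, l c • v c ∈ N := by
          have e1 : Δ (l.sum fun c r => r • x (sec c)) = ∑ c ∈ l.support, l c • (x (sec c) ⊗ₜ[R] x (sec c)) := by
            rw [Finsupp.sum, map_sum]
            exact Finset.sum_congr rfl fun c _ => by rw [map_smul, hΔ]
          have e2 : ∑ c ∈ l.support, l c • v c = w ⊗ₜ[R] w - Δ D + D ⊗ₜ[R] (1 : B) + (1 : B) ⊗ₜ[R] D := by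
            have e3 : ∑ c ∈ l.support, l c • v c = Δ (l.sum fun c r => r • x (sec c)) -
                (l.sum fun c r => r • x (sec c)) ⊗ₜ[R] (1 : B) - (1 : B) ⊗ₜ[R] (l.sum fun c r => r • x (sec c)) := by
              rw [e1, Finsupp.sum, TensorProduct.sum_tmul, TensorProduct.tmul_sum, ← Finset.sum_sub_distrib,
                ← Finset.sum_sub_distrib]
              exact Finset.sum_congr rfl fun c _ => by
                rw [TensorProduct.tmul_smul, ← TensorProduct.smul_tmul', smul_sub, smul_sub]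
            rw [e3]
            have e4 := hΔw
            rw [hw', map_add, TensorProduct.add_tmul, TensorProduct.tmul_add] at e4
            generalize Δ (l.sum fun c r => r • x (sec c)) = A1 at e4 ⊢
            generalize Δ D = A2 at e4 ⊢
            generalize (l.sum fun c r => r • x (sec c)) ⊗ₜ[R] (1 : B) = A3 at e4 ⊢
            generalize (1 : B) ⊗ₜ[R] (l.sum fun c r => r • x (sec c)) = A4 at e4 ⊢
            rw [← hw'] at e4
            have e5 : A1 = D ⊗ₜ[R] (1 : B) + A3 + ((1 : B) ⊗ₜ[R] D + A4) + w ⊗ₜ[R] w - A2 := eq_sub_of_add_eq' e4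
            rw [e5]
            abel
          rw [e2]
          exact N.add_mem (N.add_mem (N.sub_mem hww (hΔmem _ _ hlw)) hD1) hD2
        have hcoeff : ∀ c, l c ∈ a ^ (k + 2) := by
          intro c₀
          let θ₂ : B ⊗[R] B →ₗ[R] R ⧸ a :=
            LinearMap.mul' R (R ⧸ a) ∘ₗ TensorProduct.map (cf c₀) (cf c₀)
          have hθ₂ : ∀ g g' : G, θ₂ (x g ⊗ₜ[R] x g') =
              (if (g : G ⧸ Γ) = c₀ then 1 else 0) * (if (g' : G ⧸ Γ) = c₀ then 1 else 0) := fun g g' => by
            simp [θ₂, hcf]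
          let t : G ⧸ Γ → R := fun c => if c = c₀ then (if c₀ = 1 then -1 else 1) else 0
          have h := sum_mul_mem_pow_succ a θ₂ (k + 1) l.support (fun c => l c) t v (fun c _ => hl c) (fun c _ => by
            have h1 := hθ₂ 1 1
            rw [map_one] at h1
            have h2 := hθ₂ (sec c) 1
            rw [map_one] at h2
            have h3 := hθ₂ 1 (sec c)
            rw [map_one] at h3
            simp only [v, map_sub, hθ₂, h2, h3, hsec, QuotientGroup.mk_one, t]
            by_cases hc : c = c₀ <;> by_cases h0 : c₀ = 1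
            · subst hc h0; simp
            · subst hc; simp [h0, Ne.symm h0]
            · subst h0; simp [hc]
            · simp [hc]) hsum
          by_cases hc : c₀ ∈ l.support
          · rw [Finset.sum_eq_single c₀ (fun c _ hne => by simp [t, hne]) (fun hn => absurd hc hn)] at h
            by_cases h0 : c₀ = 1
            · simpa [t, h0] using h
            · simpa [t, h0] using h
          · rw [Finsupp.notMem_support_iff.mp hc]
            exact Ideal.zero_mem _
        rw [hw']
        refine Submodule.add_mem _ hlw (Submodule.sum_mem _ fun c _ => ?_)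
        exact Submodule.smul_mem_smul (hcoeff c) trivial
  refine ⟨fun γ hγ => hone γ hγ, ?_⟩
  rw [injective_iff_map_eq_zero]
  intro l hl0
  have hl : ∀ k, ∀ c, l.coeff c ∈ a ^ k := by
    intro k
    induction k with
    | zero => simp
    | succ k ih =>
        intro c₀
        have hx0 : ∀ c : G ⧸ Γ, QuotientGroup.lift Γ x (fun γ hγ => hone γ hγ) c = x (sec c) := fun c => by
          conv_lhs => rw [← hsec c]
          rfl
        rw [MonoidAlgebra.lift_apply, Finsupp.sum] at hl0
        simp only [hx0] at hl0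
        have h := sum_mul_mem_pow_succ a (cf c₀) k l.coeff.support (fun c => l.coeff c)
          (fun c => if c = c₀ then 1 else 0) (fun c => x (sec c)) (fun c _ => ih c)
          (fun c _ => by simp [hcf, hsec, apply_ite (Ideal.Quotient.mk a)]) (by rw [hl0]; exact Submodule.zero_mem _)
        by_cases hc : c₀ ∈ l.coeff.support
        · simpa [Finset.sum_ite_eq', hc] using h
        · rw [Finsupp.notMem_support_iff.mp hc]
          exact Ideal.zero_mem _
  refine MonoidAlgebra.coeff_injective (Finsupp.ext fun c => ?_)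
  have := hl n c
  rw [hn] at this
  simpa using this

end GrothLib.DiagGrp
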