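import Groth.Agent.Lib.DiagGrp.KernelIdeal
import Groth.Agent.Lib.DiagGrp.FlatSubgroupCoeff
import Mathlib.RingTheory.Flat.Stability
import Mathlib.RingTheory.Spectrum.Prime.ConstructibleSet
import Mathlib.RingTheory.LocalRing.ResidueField.Ideal
import Mathlib.RingTheory.Noetherian.Nilpotent

/-!
A flat subgroup of `D(G)` cut out by a finitely generated ideal is, locally on the base, `D(G/Γ)`.
-/

universe u

open scoped TensorProduct

namespace GrothLib.DiagGrp

variable {R : Type u} [CommRing R] {G : Type} [CommGroup G] (I : Ideal (MonoidAlgebra R G))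

/-- The universal character of the closed subscheme cut out by `I`. -/
noncomputable def univChar : G →* MonoidAlgebra R G ⧸ I :=
  (Ideal.Quotient.mk I : MonoidAlgebra R G →* MonoidAlgebra R G ⧸ I).comp (MonoidAlgebra.of R G)

theorem kills_iff_exists {C : Type u} [CommRing C] [Algebra R C] (χ : G →* C) :
    Kills I (algebraMap R C) χ ↔
      ∃ φ : (MonoidAlgebra R G ⧸ I) →ₐ[R] C, ∀ g, φ (univChar I g) = χ g := by
  constructor
  · intro h
    refine ⟨Ideal.Quotient.liftₐ I (MonoidAlgebra.lift R C G χ)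
      (fun z hz => by rw [← evalAt_eq_lift]; exact h z hz), fun g => ?_⟩
    change MonoidAlgebra.lift R C G χ (MonoidAlgebra.of R G g) = χ g
    exact MonoidAlgebra.lift_of _ _
  · rintro ⟨φ, hφ⟩ z hz
    have e : MonoidAlgebra.lift R C G χ = φ.comp (Ideal.Quotient.mkₐ R I) := by
      apply (MonoidAlgebra.lift R C G).symm.injective
      rw [Equiv.symm_apply_apply]
      exact MonoidHom.ext fun g => (hφ g).symm
    rw [evalAt_eq_lift, e, AlgHom.comp_apply, Ideal.Quotient.mkₐ_eq_mk, Ideal.Quotient.eq_zero_iff_mem.mpr hz,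
      map_zero]

theorem lift_univChar_surjective :
    Function.Surjective (MonoidAlgebra.lift R (MonoidAlgebra R G ⧸ I) G (univChar I)) := by
  have e : MonoidAlgebra.lift R (MonoidAlgebra R G ⧸ I) G (univChar I) = Ideal.Quotient.mkₐ R I := by
    apply (MonoidAlgebra.lift R (MonoidAlgebra R G ⧸ I) G).symm.injective
    rw [Equiv.symm_apply_apply]
    rfl
  rw [e]
  exact Ideal.Quotient.mk_surjective

section Abstract

variable {A : Type u} [CommRing A] [Algebra R A] [Module.Flat R A] (u : G →* A)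
  (hu : ∀ (C : Type u) [CommRing C] [Algebra R C] (χ : G →* C),
    Kills I (algebraMap R C) χ ↔ ∃ φ : A →ₐ[R] C, ∀ g, φ (u g) = χ g)

theorem tensor_map_injective {D K : Type u} [CommRing D] [CommRing K] [Algebra R D] [Algebra R K] (i : D →ₐ[R] K)
    (hi : Function.Injective i) :
    Function.Injective (Algebra.TensorProduct.map i (AlgHom.id R A)) := by
  have e : (Algebra.TensorProduct.map i (AlgHom.id R A)).toLinearMap = LinearMap.rTensor A i.toLinearMap :=
    TensorProduct.ext' fun a b => rfl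
  have h := Module.Flat.rTensor_preserves_injective_linearMap (M := A) i.toLinearMap hi
  rw [← e] at h
  exact h

include hu in
/-- A field point describing the fibre at `p` describes the subscheme over everything killed by `p`. -/
theorem kills_iff_of_le_ker (p : Ideal R) [p.IsPrime] (Γ : Subgroup G)
    (hΓ : ∀ (C : Type u) [CommRing C] (h : p.ResidueField →+* C) (χ : G →* C),
      Kills I (h.comp (algebraMap R p.ResidueField)) χ ↔ ∀ γ ∈ Γ, χ γ = 1)
    {C : Type u} [CommRing C] (σ : R →+* C) (hσ : p ≤ RingHom.ker σ) (χ : G →* C) :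
    Kills I σ χ ↔ ∀ γ ∈ Γ, χ γ = 1 := by
  classical
  letI : Algebra R C := σ.toAlgebra
  have hinj : Function.Injective (algebraMap (R ⧸ p) p.ResidueField) := Ideal.injective_algebraMap_quotient_residueField p
  let ι₀ : (R ⧸ p) →ₐ[R] p.ResidueField := IsScalarTower.toAlgHom R (R ⧸ p) p.ResidueField
  let σ' : (R ⧸ p) →ₐ[R] C := Ideal.Quotient.liftₐ p (Algebra.ofId R C) (fun r hr => hσ hr)
  constructor
  · intro h γ hγ
    obtain ⟨φ, hφ⟩ := (hu C χ).mp h
    let xK : G →* p.ResidueField ⊗[R] A :=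
      ((Algebra.TensorProduct.includeRight : A →ₐ[R] p.ResidueField ⊗[R] A) : A →* p.ResidueField ⊗[R] A).comp u
    have hK : Kills I (algebraMap R (p.ResidueField ⊗[R] A)) xK :=
      (hu _ xK).mpr ⟨Algebra.TensorProduct.includeRight, fun g => rfl⟩
    have h1 : xK γ = 1 := by
      refine (hΓ _ (algebraMap p.ResidueField (p.ResidueField ⊗[R] A)) xK).mp ?_ γ hγ
      rwa [← IsScalarTower.algebraMap_eq]
    have h2 : (1 : R ⧸ p) ⊗ₜ[R] u γ = 1 := by
      apply tensor_map_injective ι₀ hinj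
      rw [map_one, Algebra.TensorProduct.map_tmul, map_one, AlgHom.id_apply]
      exact h1
    have h3 := congrArg (Algebra.TensorProduct.lift σ' φ (fun _ _ => Commute.all _ _)) h2
    rw [Algebra.TensorProduct.lift_tmul, map_one, map_one, one_mul, hφ] at h3
    exact h3
  · intro hχ
    set q : G →* G ⧸ Γ := QuotientGroup.mk' Γ
    let C₀ := MonoidAlgebra (R ⧸ p) (G ⧸ Γ)
    let x₀ : G →* C₀ := (MonoidAlgebra.of (R ⧸ p) _).comp q
    let K₀ := MonoidAlgebra p.ResidueField (G ⧸ Γ)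
    let m : C₀ →+* K₀ := MonoidAlgebra.mapRingHom _ (algebraMap (R ⧸ p) p.ResidueField)
    have hm : Function.Injective m := by
      intro a b hab
      refine MonoidAlgebra.coeff_injective (Finsupp.ext fun c => hinj ?_)
      have h := congrArg (fun w : K₀ => w.coeff c) hab
      simp only [m] at h
      rwa [MonoidAlgebra.coeff_mapRingHom, MonoidAlgebra.coeff_mapRingHom] at h
    let s₀ : R →+* C₀ := MonoidAlgebra.singleOneRingHom.comp (Ideal.Quotient.mk p)
    have hK : Kills I ((MonoidAlgebra.singleOneRingHom : p.ResidueField →+* K₀).comp (algebraMap R p.ResidueField))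
        ((m : C₀ →* K₀).comp x₀) := (hΓ _ _ _).mpr fun γ hγ => by
      have e : q γ = 1 := (QuotientGroup.eq_one_iff γ).mpr hγ
      change m (x₀ γ) = 1
      rw [show x₀ γ = 1 from (congrArg (MonoidAlgebra.of (R ⧸ p) (G ⧸ Γ)) e).trans (map_one _), map_one]
    have h0 : Kills I s₀ x₀ := by
      intro z hz
      apply hm
      rw [map_zero, ← evalAt_comp]
      have e : m.comp s₀ =
          (MonoidAlgebra.singleOneRingHom : p.ResidueField →+* K₀).comp (algebraMap R p.ResidueField) := by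
        refine RingHom.ext fun r => ?_
        change m (MonoidAlgebra.single 1 (Ideal.Quotient.mk p r)) = MonoidAlgebra.single 1 _
        rw [MonoidAlgebra.mapRingHom_single]
        rfl
      rw [e]
      exact hK z hz
    let χ' : G ⧸ Γ →* C := QuotientGroup.lift Γ χ fun g hg => hχ g hg
    let f : C₀ →+* C := evalAt (σ' : (R ⧸ p) →+* C) χ'
    intro z hz
    have e1 : f.comp s₀ = σ := by
      refine RingHom.ext fun r => ?_
      change evalAt (σ' : (R ⧸ p) →+* C) χ' (MonoidAlgebra.single 1 (Ideal.Quotient.mk p r)) = σ r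
      rw [evalAt_single, map_one χ', mul_one]
      exact RingHom.congr_fun (Ideal.Quotient.lift_comp_mk p σ fun r hr => hσ hr) r
    have e2 : (f : C₀ →* C).comp x₀ = χ := by
      ext g
      change evalAt (σ' : (R ⧸ p) →+* C) χ' (MonoidAlgebra.single (q g) 1) = χ g
      rw [evalAt_single, map_one, one_mul]
      rfl
    have := evalAt_comp f s₀ x₀ z
    rw [e1, e2, h0 z hz, map_zero] at this
    exact this

variable (hs : Function.Surjective (MonoidAlgebra.lift R A G u))

include hu hs in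
/-- Where the fibres are constantly `D(G/Δ₀)`, so is the subgroup. -/
theorem kills_iff_of_const (hI : IsSubgrpIdeal I) [Group.FG G] (R' : Type u) [CommRing R'] [Algebra R R']
    (Δ₀ : Subgroup G)
    (hker : ∀ P : Ideal R', P.IsPrime → ∀ (C : Type u) [CommRing C] (σ : R →+* C),
      P.comap (algebraMap R R') ≤ RingHom.ker σ → ∀ χ : G →* C, Kills I σ χ ↔ ∀ γ ∈ Δ₀, χ γ = 1)
    (a : Ideal R) (ha : a.FG)
    (haC : ∀ (C : Type u) [CommRing C] (σ : R →+* C), (∀ r ∈ a, σ r = 0) ↔
      ∀ (C' : Type u) [CommRing C'] (h : C →+* C') (χ : G →* C'), (∀ γ ∈ Δ₀, χ γ = 1) → Kills I (h.comp σ) χ)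
    (hle : ∀ P : Ideal R', P.IsPrime → a ≤ P.comap (algebraMap R R'))
    {C : Type u} [CommRing C] [Algebra R C] [Algebra R' C] [IsScalarTower R R' C] (χ : G →* C) :
    Kills I (algebraMap R C) χ ↔ ∀ γ ∈ Δ₀, χ γ = 1 := by
  classical
  let x : G →* (R' ⊗[R] A) := ((Algebra.TensorProduct.includeRight : A →ₐ[R] (R' ⊗[R] A)) : A →* (R' ⊗[R] A)).comp u
  have hgen : ∀ b : (R' ⊗[R] A), ∃ l : MonoidAlgebra R' G, MonoidAlgebra.lift R' (R' ⊗[R] A) G x l = b := by
    intro b
    induction b using TensorProduct.induction_on with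
    | zero => exact ⟨0, map_zero _⟩
    | add y y' h h' =>
        obtain ⟨l, hl⟩ := h
        obtain ⟨l', hl'⟩ := h'
        exact ⟨l + l', by rw [map_add, hl, hl']⟩
    | tmul r y =>
        obtain ⟨l, rfl⟩ := hs y
        induction l using MonoidAlgebra.induction_linear with
        | zero => exact ⟨0, by simp⟩
        | add y y' h h' =>
            obtain ⟨l, hl⟩ := h
            obtain ⟨l', hl'⟩ := h'
            exact ⟨l + l', by rw [map_add, hl, hl', map_add, TensorProduct.tmul_add]⟩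
        | single g s =>
            refine ⟨MonoidAlgebra.single g (r * algebraMap R R' s), ?_⟩
            rw [MonoidAlgebra.lift_single, MonoidAlgebra.lift_single, Algebra.smul_def,
              Algebra.TensorProduct.algebraMap_apply]
            simp only [x, MonoidHom.comp_apply]
            change (r * algebraMap R R' s) ⊗ₜ[R] (1 : A) * (1 : R') ⊗ₜ[R] u g = _
            rw [Algebra.TensorProduct.tmul_mul_tmul, mul_one, one_mul, TensorProduct.tmul_smul,
              TensorProduct.smul_tmul', Algebra.smul_def, mul_comm r]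
  -- comultiplication
  let x2 : G →* (R' ⊗[R] A) ⊗[R'] (R' ⊗[R] A) :=
    ((Algebra.TensorProduct.includeLeft : (R' ⊗[R] A) →ₐ[R'] (R' ⊗[R] A) ⊗[R'] (R' ⊗[R] A)) : (R' ⊗[R] A) →* (R' ⊗[R] A) ⊗[R'] (R' ⊗[R] A)).comp x *
    ((Algebra.TensorProduct.includeRight : (R' ⊗[R] A) →ₐ[R'] (R' ⊗[R] A) ⊗[R'] (R' ⊗[R] A)) : (R' ⊗[R] A) →* (R' ⊗[R] A) ⊗[R'] (R' ⊗[R] A)).comp x
  have hx2 : Kills I (algebraMap R ((R' ⊗[R] A) ⊗[R'] (R' ⊗[R] A))) x2 := hI.mul _ _ _ _
    ((hu _ _).mpr ⟨((Algebra.TensorProduct.includeLeft : (R' ⊗[R] A) →ₐ[R'] (R' ⊗[R] A) ⊗[R'] (R' ⊗[R] A)).restrictScalars R).comp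
      Algebra.TensorProduct.includeRight, fun g => rfl⟩)
    ((hu _ _).mpr ⟨((Algebra.TensorProduct.includeRight : (R' ⊗[R] A) →ₐ[R'] (R' ⊗[R] A) ⊗[R'] (R' ⊗[R] A)).restrictScalars R).comp
      Algebra.TensorProduct.includeRight, fun g => rfl⟩)
  obtain ⟨φ2, hφ2⟩ := (hu _ _).mp hx2
  let Δm : (R' ⊗[R] A) →ₐ[R'] (R' ⊗[R] A) ⊗[R'] (R' ⊗[R] A) :=
    Algebra.TensorProduct.lift (Algebra.ofId R' _) φ2 (fun _ _ => Commute.all _ _)
  have hΔm : ∀ g, Δm (x g) = x g ⊗ₜ[R'] x g := fun g => by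
    change Algebra.TensorProduct.lift (Algebra.ofId R' _) φ2 _ ((1 : R') ⊗ₜ[R] u g) = _
    rw [Algebra.TensorProduct.lift_tmul, map_one, one_mul, hφ2]
    simp [x2, Algebra.TensorProduct.tmul_mul_tmul]
  -- congruence modulo a nilpotent ideal
  set a' := a.map (algebraMap R R')
  have ha'fg : a'.FG := Ideal.FG.map ha _
  have ha'le : a' ≤ nilradical R' := fun r hr => by
    rw [nilradical_eq_sInf, Submodule.mem_sInf]
    intro P hP
    exact (Ideal.map_le_iff_le_comap.mpr (hle P hP)) hr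
  let C₁ := MonoidAlgebra (R' ⧸ a') (G ⧸ Δ₀)
  let x1 : G →* C₁ := (MonoidAlgebra.of (R' ⧸ a') _).comp (QuotientGroup.mk' Δ₀)
  have hx1 : Kills I (algebraMap R C₁) x1 := by
    have h := (haC (R' ⧸ a') (algebraMap R (R' ⧸ a'))).mp (fun r hr => by
      rw [IsScalarTower.algebraMap_apply R R' (R' ⧸ a'), Ideal.Quotient.algebraMap_eq,
        Ideal.Quotient.eq_zero_iff_mem]
      exact Ideal.mem_map_of_mem _ hr) C₁ (algebraMap (R' ⧸ a') C₁) x1 (fun γ hγ => by
        rw [MonoidHom.comp_apply, show QuotientGroup.mk' Δ₀ γ = 1 from (QuotientGroup.eq_one_iff γ).mpr hγ, map_one])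
    rwa [← IsScalarTower.algebraMap_eq] at h
  obtain ⟨φ1, hφ1⟩ := (hu _ _).mp hx1
  let θ : (R' ⊗[R] A) →ₐ[R'] C₁ := Algebra.TensorProduct.lift (Algebra.ofId R' _) φ1 (fun _ _ => Commute.all _ _)
  have hθ : ∀ g, θ (x g) = MonoidAlgebra.single (g : G ⧸ Δ₀) 1 := fun g => by
    change Algebra.TensorProduct.lift (Algebra.ofId R' _) φ1 _ ((1 : R') ⊗ₜ[R] u g) = _
    rw [Algebra.TensorProduct.lift_tmul, map_one, one_mul, hφ1]
    rfl
  have hfib : ∀ P : Ideal R', P.IsPrime → ∀ γ ∈ Δ₀, x γ - 1 ∈ P.map (algebraMap R' (R' ⊗[R] A)) := by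
    intro P hP γ hγ
    rw [← Ideal.Quotient.eq_zero_iff_mem, map_sub, map_one, sub_eq_zero]
    let Q := (R' ⊗[R] A) ⧸ P.map (algebraMap R' (R' ⊗[R] A))
    let xq : G →* Q := (Ideal.Quotient.mk (P.map (algebraMap R' (R' ⊗[R] A))) : (R' ⊗[R] A) →* Q).comp x
    have hkq : P.comap (algebraMap R R') ≤ RingHom.ker (algebraMap R Q) := fun r hr => by
      rw [RingHom.mem_ker, IsScalarTower.algebraMap_apply R (R' ⊗[R] A) Q, Ideal.Quotient.algebraMap_eq,
        Ideal.Quotient.eq_zero_iff_mem, IsScalarTower.algebraMap_apply R R' (R' ⊗[R] A)]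
      exact Ideal.mem_map_of_mem _ hr
    exact (hker P hP Q (algebraMap R Q) hkq xq).mp
      ((hu _ xq).mpr ⟨(Ideal.Quotient.mkₐ R _).comp Algebra.TensorProduct.includeRight, fun g => rfl⟩)
      γ hγ
  have hΔfg : Δ₀.FG := by
    have : IsNoetherian ℤ (Additive G) := isNoetherian_of_isNoetherianRing_of_finite ℤ (Additive G)
    rw [Subgroup.fg_iff_add_fg, ← AddSubgroup.toIntSubmodule_toAddSubgroup Δ₀.toAddSubgroup,
      ← Submodule.fg_iff_addSubgroup_fg]
    exact IsNoetherian.noetherian _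
  obtain ⟨hxΔ, hinj⟩ := eq_one_and_injective_of_const Δ₀ x hgen Δm hΔm a'
    ((Ideal.FG.isNilpotent_iff_le_nilradical ha'fg).mpr ha'le) θ hθ
    (sub_one_mem_map_of_forall_prime Δ₀ hΔfg x hgen a' ha'le ha'fg θ hθ hfib)
  constructor
  · intro hk γ hγ
    obtain ⟨φ, hφ⟩ := (hu C χ).mp hk
    let ψ : (R' ⊗[R] A) →ₐ[R'] C := Algebra.TensorProduct.lift (Algebra.ofId R' C) φ (fun _ _ => Commute.all _ _)
    have h1 := congrArg ψ (hxΔ hγ : x γ = 1)
    change Algebra.TensorProduct.lift (Algebra.ofId R' C) φ _ ((1 : R') ⊗ₜ[R] u γ) = _ at h1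
    rwa [Algebra.TensorProduct.lift_tmul, map_one, one_mul, hφ, map_one] at h1
  · intro hχ
    set L := MonoidAlgebra.lift R' (R' ⊗[R] A) (G ⧸ Δ₀) (QuotientGroup.lift Δ₀ x hxΔ)
    have hsurj : Function.Surjective L := fun b => by
      obtain ⟨l, rfl⟩ := hgen b
      induction l using MonoidAlgebra.induction_linear with
      | zero => exact ⟨0, by simp⟩
      | add y y' h h' =>
          obtain ⟨l, hl⟩ := h
          obtain ⟨l', hl'⟩ := h'
          exact ⟨l + l', by rw [map_add, hl, hl', map_add]⟩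
      | single g s =>
          refine ⟨MonoidAlgebra.single (g : G ⧸ Δ₀) s, ?_⟩
          rw [MonoidAlgebra.lift_single, MonoidAlgebra.lift_single]
          rfl
    let e := AlgEquiv.ofBijective L ⟨hinj, hsurj⟩
    let Φ : (R' ⊗[R] A) →ₐ[R'] C := (MonoidAlgebra.lift R' C (G ⧸ Δ₀) (QuotientGroup.lift Δ₀ χ fun g hg => hχ g hg)).comp
      e.symm.toAlgHom
    refine (hu C χ).mpr ⟨(Φ.restrictScalars R).comp Algebra.TensorProduct.includeRight, fun g => ?_⟩
    have hxg : e (MonoidAlgebra.of R' _ (g : G ⧸ Δ₀)) = x g := MonoidAlgebra.lift_of _ _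
    change (MonoidAlgebra.lift R' C (G ⧸ Δ₀) _) (e.symm (x g)) = χ g
    rw [← hxg, AlgEquiv.symm_apply_apply, MonoidAlgebra.lift_of]
    rfl

end Abstract

/-- Locally on the base a flat subgroup of `D(G)` cut out by a finitely generated ideal is `D(G/Γ)`. -/
theorem exists_flat_subgroup_eq (hI : IsSubgrpIdeal I) (hfg : I.FG) [Module.Flat R (MonoidAlgebra R G ⧸ I)]
    [Group.FG G] (p₀ : PrimeSpectrum R) :
    ∃ f : R, f ∉ p₀.asIdeal ∧ ∃ Γ : Subgroup G, ∀ (C : Type u) [CommRing C] (σ : R →+* C) (χ : G →* C),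
      IsUnit (σ f) → (Kills I σ χ ↔ ∀ γ ∈ Γ, χ γ = 1) := by
  classical
  obtain ⟨T, hT, hTk⟩ := exists_finite_subgroups I hI hfg
  choose Γ hΓT hΓ using fun q : PrimeSpectrum R => hTk q.asIdeal.ResidueField (algebraMap R q.asIdeal.ResidueField)
  haveI : Module.Flat R (MonoidAlgebra R G ⧸ I) := inferInstance
  have hker : ∀ q : PrimeSpectrum R, ∀ {C : Type u} [CommRing C] (σ : R →+* C), q.asIdeal ≤ RingHom.ker σ →
      ∀ χ : G →* C, Kills I σ χ ↔ ∀ γ ∈ Γ q, χ γ = 1 :=
    fun q => kills_iff_of_le_ker I (univChar I) (fun C _ _ χ => kills_iff_exists I χ) q.asIdeal (Γ q) (hΓ q)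
  have hsub : ∀ (Δ : Subgroup G) (q : PrimeSpectrum R),
      (∀ (C : Type u) [CommRing C] (h : q.asIdeal.ResidueField →+* C) (χ : G →* C), (∀ γ ∈ Δ, χ γ = 1) →
        Kills I (h.comp (algebraMap R q.asIdeal.ResidueField)) χ) ↔ Γ q ≤ Δ := by
    intro Δ q
    refine ⟨fun h γ hγ => ?_, fun h C _ k χ hχ => (hΓ q C k χ).mpr fun γ hγ => hχ γ (h hγ)⟩
    let K := MonoidAlgebra q.asIdeal.ResidueField (G ⧸ Δ)
    have h1 := (hΓ q K MonoidAlgebra.singleOneRingHom ((MonoidAlgebra.of _ _).comp (QuotientGroup.mk' Δ))).mp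
      (h K _ _ fun δ hδ => by
        rw [MonoidHom.comp_apply, show QuotientGroup.mk' Δ δ = 1 from (QuotientGroup.eq_one_iff δ).mpr hδ, map_one])
      γ hγ
    exact (QuotientGroup.eq_one_iff γ).mp (MonoidAlgebra.of_injective (h1.trans (map_one _).symm))
  have hspec : ∀ q q' : PrimeSpectrum R, q.asIdeal ≤ q'.asIdeal → Γ q = Γ q' := by
    intro q q' hle
    have h1 : ∀ Δ : Subgroup G, Γ q' ≤ Δ ↔ ∀ (C : Type u) [CommRing C] (h : q'.asIdeal.ResidueField →+* C)
        (χ : G →* C), (∀ γ ∈ Δ, χ γ = 1) → ∀ γ ∈ Γ q, χ γ = 1 := fun Δ => by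
      rw [← hsub Δ q']
      have hk : ∀ (C : Type u) [CommRing C] (h : q'.asIdeal.ResidueField →+* C),
          q.asIdeal ≤ RingHom.ker (h.comp (algebraMap R q'.asIdeal.ResidueField)) := fun C _ h r hr => by
        rw [RingHom.mem_ker, RingHom.comp_apply, Ideal.algebraMap_residueField_eq_zero.mpr (hle hr), map_zero]
      exact forall_congr' fun C => forall_congr' fun _ => forall_congr' fun h => forall_congr' fun χ =>
        imp_congr_right fun _ => hker q _ (hk C h) χ
    refine le_antisymm ?_ ((h1 _).mpr fun C _ h χ hχ => hχ)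
    intro γ hγ
    let K := MonoidAlgebra q'.asIdeal.ResidueField (G ⧸ Γ q')
    have h2 := (h1 (Γ q')).mp le_rfl K MonoidAlgebra.singleOneRingHom
      ((MonoidAlgebra.of _ _).comp (QuotientGroup.mk' (Γ q'))) (fun δ hδ => by
        rw [MonoidHom.comp_apply, show QuotientGroup.mk' (Γ q') δ = 1 from (QuotientGroup.eq_one_iff δ).mpr hδ,
          map_one]) γ hγ
    exact (QuotientGroup.eq_one_iff γ).mp (MonoidAlgebra.of_injective (h2.trans (map_one _).symm))
  choose a ha haC using exists_classSum_ideal I hfg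
  have hV : ∀ Δ, PrimeSpectrum.zeroLocus (a Δ : Set R) = {q | Γ q ≤ Δ} := fun Δ => by
    ext q
    rw [PrimeSpectrum.mem_zeroLocus, Set.mem_setOf_eq, ← hsub Δ q, ← haC Δ]
    exact forall₂_congr fun r _ => Ideal.algebraMap_residueField_eq_zero.symm
  have hcl : ∀ Δ, IsClopen (PrimeSpectrum.zeroLocus (a Δ : Set R)) := fun Δ => by
    refine ⟨PrimeSpectrum.isClosed_zeroLocus _, ?_⟩
    refine PrimeSpectrum.isOpen_of_stableUnderGeneralization_of_isConstructible ?_ ?_
    · intro q' q h hq'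
      rw [hV] at hq' ⊢
      exact (hspec q q' ((PrimeSpectrum.le_iff_specializes q q').mpr h)).le.trans hq'
    · obtain ⟨t, ht⟩ := ha Δ
      rw [← ht, PrimeSpectrum.zeroLocus_span, ← Topology.isConstructible_compl]
      exact (PrimeSpectrum.isRetrocompact_zeroLocus_compl t.finite_toSet).isConstructible
        (PrimeSpectrum.isClosed_zeroLocus _).isOpen_compl
  let U : Set (PrimeSpectrum R) := PrimeSpectrum.zeroLocus (a (Γ p₀) : Set R) \
    ⋃ Δ ∈ {Δ ∈ T | ¬ Γ p₀ ≤ Δ}, PrimeSpectrum.zeroLocus (a Δ : Set R)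
  have hU : IsOpen U := (hcl _).isOpen.sdiff
    ((hT.subset fun _ h => h.1).isClosed_biUnion fun Δ _ => (hcl Δ).isClosed)
  have hp₀U : p₀ ∈ U := ⟨by rw [hV]; exact le_refl (Γ p₀), fun h => by
    simp only [Set.mem_iUnion] at h
    obtain ⟨Δ, hΔ, h'⟩ := h
    rw [hV] at h'
    exact hΔ.2 h'⟩
  have hconst : ∀ q ∈ U, Γ q = Γ p₀ := fun q hq => by
    have h1 : Γ q ≤ Γ p₀ := by
      have := hq.1
      rw [hV] at this
      exact this
    refine le_antisymm h1 (not_not.mp fun hne => hq.2 (Set.mem_biUnion ⟨hΓT q, hne⟩ ?_))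
    rw [hV]
    exact le_refl (Γ q)
  obtain ⟨_, ⟨f, rfl⟩, hpf, hfU⟩ := PrimeSpectrum.isTopologicalBasis_basic_opens.exists_subset_of_mem_open hp₀U hU
  refine ⟨f, hpf, Γ p₀, fun C _ σ χ hσ => ?_⟩
  set Δ₀ := Γ p₀
  have hprime : ∀ P : Ideal (Localization.Away f), ∀ _ : P.IsPrime,
      (⟨P.comap (algebraMap R (Localization.Away f)), Ideal.IsPrime.comap _⟩ : PrimeSpectrum R) ∈ U :=
    fun P hP => hfU (by
      change f ∉ P.comap (algebraMap R (Localization.Away f))
      exact fun h => hP.ne_top (Ideal.eq_top_of_isUnit_mem _ h (IsLocalization.Away.algebraMap_isUnit f)))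
  letI : Algebra R C := σ.toAlgebra
  let σ' : Localization.Away f →+* C := IsLocalization.Away.lift f hσ
  letI : Algebra (Localization.Away f) C := σ'.toAlgebra
  haveI : IsScalarTower R (Localization.Away f) C :=
    IsScalarTower.of_algebraMap_eq fun r => (IsLocalization.Away.lift_eq f hσ r).symm
  exact kills_iff_of_const I (univChar I) (fun C _ _ χ => kills_iff_exists I χ) (lift_univChar_surjective I) hI
    (Localization.Away f) Δ₀
    (fun P hP C _ σ hσ χ => by
      rw [← show Γ ⟨P.comap (algebraMap R (Localization.Away f)), Ideal.IsPrime.comap _⟩ = Δ₀ from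
        hconst _ (hprime P hP)]
      exact hker ⟨_, Ideal.IsPrime.comap _⟩ σ hσ χ)
    (a Δ₀) (ha Δ₀) (haC Δ₀)
    (fun P hP => by
      have h : (⟨P.comap (algebraMap R (Localization.Away f)), Ideal.IsPrime.comap _⟩ : PrimeSpectrum R) ∈
          PrimeSpectrum.zeroLocus (a Δ₀ : Set R) := by
        rw [hV]
        exact (hconst _ (hprime P hP)).le
      exact h)
    χ

end GrothLib.DiagGrp
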