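import Groth.Agent.Lib.DiagGrp.FreeGrading
import Mathlib.RingTheory.Flat.Domain
import Mathlib.LinearAlgebra.Dimension.Free
import Mathlib.RingTheory.TensorProduct.Maps
import Mathlib.Algebra.MonoidAlgebra.MapDomain
import Mathlib.GroupTheory.Finiteness

/-!
A finitely generated ideal of a group algebra cutting out a subgroup of `D(G)` is, at every field point, the
ideal of `D(G/Γ)` for one of finitely many subgroups `Γ`.
-/

universe u

open scoped TensorProduct

namespace GrothLib.DiagGrp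

variable {R : Type u} [CommRing R] {G : Type} [CommGroup G]

/-- The character `χ` over `σ` lies in the closed subscheme cut out by `I`. -/
def Kills (I : Ideal (MonoidAlgebra R G)) {C : Type u} [CommRing C] (σ : R →+* C) (χ : G →* C) : Prop :=
  ∀ x ∈ I, evalAt σ χ x = 0

/-- The closed subscheme cut out by `I` is stable under the group law. -/
structure IsSubgrpIdeal (I : Ideal (MonoidAlgebra R G)) : Prop where
  one : ∀ (C : Type u) [CommRing C] (σ : R →+* C), Kills I σ (1 : G →* C)
  mul : ∀ (C : Type u) [CommRing C] (σ : R →+* C) (χ χ' : G →* C), Kills I σ χ → Kills I σ χ' → Kills I σ (χ * χ')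

theorem evalAt_comp {C C' : Type u} [CommRing C] [CommRing C'] (h : C →+* C') (σ : R →+* C) (χ : G →* C)
    (y : MonoidAlgebra R G) : evalAt (h.comp σ) ((h : C →* C').comp χ) y = h (evalAt σ χ y) := by
  have : evalAt (h.comp σ) ((h : C →* C').comp χ) = h.comp (evalAt σ χ) := by
    refine MonoidAlgebra.ringHom_ext (fun r => ?_) fun m => ?_
    · simp [evalAt_single]
    · simp [evalAt_single]
  rw [this, RingHom.comp_apply]

theorem evalAt_mapRange {C C' : Type u} [CommRing C] [CommRing C'] (σ : R →+* C) (h : C →+* C') (χ : G →* C')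
    (y : MonoidAlgebra R G) : evalAt h χ (MonoidAlgebra.mapRingHom G σ y) = evalAt (h.comp σ) χ y := by
  have : (evalAt h χ).comp (MonoidAlgebra.mapRingHom G σ) = evalAt (h.comp σ) χ := by
    refine MonoidAlgebra.ringHom_ext (fun r => ?_) fun m => ?_
    · simp [evalAt_single]
    · simp [evalAt_single]
  rw [← this, RingHom.comp_apply]

theorem evalAt_mapDomain {H : Type} [CommGroup H] (q : G →* H) {C : Type u} [CommRing C] (σ : R →+* C)
    (χ : H →* C) (y : MonoidAlgebra R G) :
    evalAt σ χ (MonoidAlgebra.mapDomainRingHom R q y) = evalAt σ (χ.comp q) y := by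
  have : (evalAt σ χ).comp (MonoidAlgebra.mapDomainRingHom R q) = evalAt σ (χ.comp q) := by
    refine MonoidAlgebra.ringHom_ext (fun r => ?_) fun m => ?_
    · simp [evalAt_single]
    · simp [evalAt_single]
  rw [← this, RingHom.comp_apply]

theorem evalAt_eq_lift {L C : Type u} [CommRing L] [CommRing C] [Algebra L C] (χ : G →* C) (y : MonoidAlgebra L G) :
    evalAt (algebraMap L C) χ y = MonoidAlgebra.lift L C G χ y := by
  have : evalAt (algebraMap L C) χ = (MonoidAlgebra.lift L C G χ).toRingHom := by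
    refine MonoidAlgebra.ringHom_ext (fun r => ?_) fun m => ?_
    · simp [evalAt_single, Algebra.smul_def]
    · simp [evalAt_single]
  rw [this]
  rfl

section Field

variable {L : Type u} [Field L]

/-- Elements with `Δ x = x ⊗ x` and `ε x = 1` are linearly independent. -/
theorem linearIndepOn_of_comul {C : Type u} [CommRing C] [Algebra L C] (Δ : C →ₗ[L] C ⊗[L] C) (ε : C →ₗ[L] L)
    (X : Set C) (hΔ : ∀ a ∈ X, Δ a = a ⊗ₜ[L] a) (hε : ∀ a ∈ X, ε a = 1) : LinearIndepOn L id X := by
  classical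
  obtain ⟨b, hbX, hspan, hb⟩ := exists_linearIndependent L X
  suffices h : X ⊆ b by
    rw [Set.Subset.antisymm h hbX]
    exact hb
  intro a ha
  have hav : a ∈ Submodule.span L (Set.range (Subtype.val : b → C)) := by
    rw [Subtype.range_coe, hspan]
    exact Submodule.subset_span ha
  obtain ⟨c, hc⟩ := Finsupp.mem_span_range_iff_exists_finsupp.mp hav
  rw [Finsupp.sum] at hc
  set v : b → C := Subtype.val
  have hbb : LinearIndependent L fun p : b × b => v p.1 ⊗ₜ[L] v p.2 := hb.tmul_of_isDomain hb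
  have h1 : ∑ p ∈ c.support ×ˢ c.support,
      (c p.1 * c p.2 - if p.1 = p.2 then c p.1 else 0) • (v p.1 ⊗ₜ[L] v p.2) = 0 := by
    rw [Finset.sum_product]
    simp only [sub_smul, Finset.sum_sub_distrib, sub_eq_zero]
    have hl : ∑ i ∈ c.support, ∑ j ∈ c.support, (c i * c j) • (v i ⊗ₜ[L] v j) = a ⊗ₜ[L] a := by
      conv_rhs => rw [← hc]
      rw [TensorProduct.sum_tmul]
      refine Finset.sum_congr rfl fun i _ => ?_
      rw [TensorProduct.tmul_sum]
      refine Finset.sum_congr rfl fun j _ => ?_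
      rw [TensorProduct.tmul_smul, ← TensorProduct.smul_tmul', smul_smul, mul_comm]
    have hr : ∑ i ∈ c.support, ∑ j ∈ c.support, (if i = j then c i else 0) • (v i ⊗ₜ[L] v j) = Δ a := by
      rw [← hc, map_sum]
      refine Finset.sum_congr rfl fun i hi => ?_
      rw [Finset.sum_eq_single i (fun j _ hj => by rw [if_neg (Ne.symm hj), zero_smul]) (fun h => absurd hi h),
        if_pos rfl, map_smul, hΔ _ (hbX i.2)]
    rw [hl, hr, hΔ a ha]
  have h2 := linearIndependent_iff'.mp hbb _ _ h1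
  by_cases hs : c.support = ∅
  · have : a = 0 := by rw [← hc, hs, Finset.sum_empty]
    have h0 := hε a ha
    rw [this, map_zero] at h0
    exact absurd h0 zero_ne_one
  · obtain ⟨i, hi⟩ := Finset.nonempty_iff_ne_empty.mpr hs
    have hci : c i ≠ 0 := Finsupp.mem_support_iff.mp hi
    have hsupp : c.support = {i} := by
      refine Finset.eq_singleton_iff_unique_mem.mpr ⟨hi, fun j hj => ?_⟩
      by_contra hji
      have := h2 (j, i) (Finset.mem_product.mpr ⟨hj, hi⟩)
      simp only [if_neg hji, sub_zero, mul_eq_zero] at this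
      exact this.elim (Finsupp.mem_support_iff.mp hj) hci
    have h3 := h2 (i, i) (Finset.mem_product.mpr ⟨hi, hi⟩)
    simp only [if_true, sub_eq_zero, mul_eq_left₀ hci] at h3
    rw [← hc, hsupp, Finset.sum_singleton, h3, one_smul]
    exact i.2

/-- For a subgroup quotient of `L[G]`, the images of the exponents are independent. -/
theorem indep_of_subgroup {G : Type} [CommGroup G] {A : Type u} [CommRing A] [Algebra L A]
    (π : MonoidAlgebra L G →ₐ[L] A) (hsurj : Function.Surjective π)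
    (h1 : ∀ y, π y = 0 → MonoidAlgebra.lift L L G 1 y = 0)
    (h2 : ∀ (C : Type u) [CommRing C] [Algebra L C] (f f' : A →ₐ[L] C) (y : MonoidAlgebra L G), π y = 0 →
      MonoidAlgebra.lift L C G ((f : A →* C).comp ((π : MonoidAlgebra L G →* A).comp (MonoidAlgebra.of L G)) *
        (f' : A →* C).comp ((π : MonoidAlgebra L G →* A).comp (MonoidAlgebra.of L G))) y = 0) :
    LinearIndepOn L id (Set.range ((π : MonoidAlgebra L G →* A).comp (MonoidAlgebra.of L G))) := by
  set x : G →* A := (π : MonoidAlgebra L G →* A).comp (MonoidAlgebra.of L G)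
  let l : A →ₐ[L] A ⊗[L] A := Algebra.TensorProduct.includeLeft
  let r : A →ₐ[L] A ⊗[L] A := Algebra.TensorProduct.includeRight
  let g₂ : MonoidAlgebra L G →ₐ[L] A ⊗[L] A :=
    MonoidAlgebra.lift L (A ⊗[L] A) G ((l : A →* A ⊗[L] A).comp x * (r : A →* A ⊗[L] A).comp x)
  let Δ : A →ₐ[L] A ⊗[L] A := AlgHom.liftOfSurjective π hsurj g₂ fun y hy => h2 _ l r y hy
  let ε : A →ₐ[L] L := AlgHom.liftOfSurjective π hsurj (MonoidAlgebra.lift L L G 1) fun y hy => h1 y hy
  refine linearIndepOn_of_comul Δ.toLinearMap ε.toLinearMap _ ?_ ?_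
  · rintro _ ⟨g, rfl⟩
    change Δ (π (MonoidAlgebra.single g 1)) = _
    rw [AlgHom.liftOfSurjective_apply]
    change MonoidAlgebra.lift L (A ⊗[L] A) G _ (MonoidAlgebra.single g 1) = _
    rw [MonoidAlgebra.lift_single, one_smul]
    change l (x g) * r (x g) = _
    simp [l, r, Algebra.TensorProduct.tmul_mul_tmul]
  · rintro _ ⟨g, rfl⟩
    change ε (π (MonoidAlgebra.single g 1)) = 1
    rw [AlgHom.liftOfSurjective_apply]
    simp

variable [DecidableEq G] (I : Ideal (MonoidAlgebra R G)) (σ : R →+* L)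

/-- Over a field, a subgroup of `D(G)` is `D(G/Γ)`, and `Γ` is generated by quotients of exponents occurring
in generators of the ideal. -/
theorem exists_subgroup_of_field (hI : IsSubgrpIdeal I) (s : Set (MonoidAlgebra R G)) (hs : Ideal.span s = I)
    (F : Set G) (hF : ∀ y ∈ s, ∀ g, y.coeff g ≠ 0 → g ∈ F) :
    ∃ Γ : Subgroup G, (∀ (C : Type u) [CommRing C] (h : L →+* C) (χ : G →* C),
      Kills I (h.comp σ) χ ↔ ∀ γ ∈ Γ, χ γ = 1) ∧
      Γ = Subgroup.closure {g | g ∈ Γ ∧ ∃ a ∈ F, ∃ b ∈ F, g = a / b} := by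
  classical
  set m := MonoidAlgebra.mapRingHom G σ
  set J : Ideal (MonoidAlgebra L G) := I.map m
  have hkill : ∀ {C : Type u} [CommRing C] [Algebra L C] (χ : G →* C),
      Kills I ((algebraMap L C).comp σ) χ ↔ ∀ y ∈ J, MonoidAlgebra.lift L C G χ y = 0 := by
    intro C _ _ χ
    refine ⟨fun h => ?_, fun h x hx => ?_⟩
    · have : J ≤ RingHom.ker (MonoidAlgebra.lift L C G χ).toRingHom := Ideal.map_le_iff_le_comap.mpr fun x hx => by
        change MonoidAlgebra.lift L C G χ (m x) = 0
        rw [← evalAt_eq_lift, evalAt_mapRange]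
        exact h x hx
      exact fun y hy => this hy
    · rw [← evalAt_mapRange, evalAt_eq_lift]
      exact h _ (Ideal.mem_map_of_mem _ hx)
  set C₀ := MonoidAlgebra L G ⧸ J
  set π : MonoidAlgebra L G →ₐ[L] C₀ := Ideal.Quotient.mkₐ L J
  set x : G →* C₀ := (π : MonoidAlgebra L G →* C₀).comp (MonoidAlgebra.of L G)
  have hπ : MonoidAlgebra.lift L C₀ G x = π := (MonoidAlgebra.lift L C₀ G).apply_symm_apply π
  have huniv : Kills I ((algebraMap L C₀).comp σ) x := (hkill x).mpr fun y hy => by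
    rw [hπ]
    exact Ideal.Quotient.eq_zero_iff_mem.mpr hy
  have hindep : LinearIndepOn L id (Set.range x) := by
    refine indep_of_subgroup π Ideal.Quotient.mk_surjective
      (fun y hy => (hkill (C := L) 1).mp (hI.one L _) y (Ideal.Quotient.eq_zero_iff_mem.mp hy))
      fun C _ _ f f' y hy => ?_
    have hf : ∀ f : C₀ →ₐ[L] C, Kills I ((algebraMap L C).comp σ) ((f : C₀ →* C).comp x) := fun f =>
      (hkill _).mpr fun z hz => by
        rw [show MonoidAlgebra.lift L C G ((f : C₀ →* C).comp x) = f.comp π from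
          (MonoidAlgebra.lift L _ G).apply_symm_apply (f.comp π), AlgHom.comp_apply]
        exact (congrArg f (Ideal.Quotient.eq_zero_iff_mem.mpr hz)).trans (map_zero f)
    exact (hkill _).mp (hI.mul _ _ _ _ (hf f) (hf f')) y (Ideal.Quotient.eq_zero_iff_mem.mp hy)
  set Γ := x.ker
  set q : G →* G ⧸ Γ := QuotientGroup.mk' Γ
  set x' : G ⧸ Γ →* C₀ := QuotientGroup.lift Γ x fun g hg => hg
  have hx'inj : Function.Injective x' := by
    intro a b hab
    obtain ⟨a, rfl⟩ := QuotientGroup.mk'_surjective Γ a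
    obtain ⟨b, rfl⟩ := QuotientGroup.mk'_surjective Γ b
    refine QuotientGroup.eq.mpr ?_
    change x (a⁻¹ * b) = 1
    have hab' : x a = x b := hab
    rw [map_mul, ← hab', ← map_mul, inv_mul_cancel, map_one]
  have hli : LinearIndependent L (x' : G ⧸ Γ → C₀) := by
    have := hindep.linearIndependent.comp
      (fun a => (⟨x' a, by
        obtain ⟨a, rfl⟩ := QuotientGroup.mk'_surjective Γ a
        exact ⟨a, rfl⟩⟩ : Set.range x)) (fun a b h => hx'inj (congrArg Subtype.val h))
    exact this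
  have hzero : ∀ y ∈ J, MonoidAlgebra.mapDomainRingHom L q y = 0 := by
    intro y hy
    have h1 : MonoidAlgebra.lift L C₀ (G ⧸ Γ) x' (MonoidAlgebra.mapDomainRingHom L q y) = 0 := by
      rw [← evalAt_eq_lift, evalAt_mapDomain, evalAt_eq_lift, show x'.comp q = x from rfl, hπ]
      exact Ideal.Quotient.eq_zero_iff_mem.mpr hy
    rw [MonoidAlgebra.lift_apply] at h1
    have h2 := linearIndependent_iff.mp hli (MonoidAlgebra.mapDomainRingHom L q y).coeff
      (by rw [Finsupp.linearCombination_apply]; exact h1)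
    exact MonoidAlgebra.coeff_injective (by rw [h2]; rfl)
  have hiff : ∀ (C : Type u) [CommRing C] (h : L →+* C) (χ : G →* C),
      Kills I (h.comp σ) χ ↔ ∀ γ ∈ Γ, χ γ = 1 := by
    intro C _ h χ
    letI := h.toAlgebra
    refine (hkill χ).trans ⟨fun hχ γ hγ => ?_, fun hχ y hy => ?_⟩
    · let f : C₀ →ₐ[L] C := Ideal.Quotient.liftₐ J (MonoidAlgebra.lift L C G χ) hχ
      have hf : ∀ g, f (x g) = χ g := fun g => by
        change MonoidAlgebra.lift L C G χ (MonoidAlgebra.single g 1) = χ g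
        simp
      rw [← hf γ, show x γ = 1 from hγ, map_one]
    · have h1 : χ = (QuotientGroup.lift Γ χ fun g hg => hχ g hg).comp q := rfl
      rw [h1, ← evalAt_eq_lift, ← evalAt_mapDomain, hzero y hy, map_zero]
  refine ⟨Γ, hiff, ?_⟩
  set D : Set G := {g | g ∈ Γ ∧ ∃ a ∈ F, ∃ b ∈ F, g = a / b}
  refine le_antisymm ?_ ((Subgroup.closure_le _).mpr fun g hg => hg.1)
  set Γ' := Subgroup.closure D
  have hle : Γ' ≤ Γ := (Subgroup.closure_le _).mpr fun g hg => hg.1
  set q' : G →* G ⧸ Γ' := QuotientGroup.mk' Γ'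
  let χ' : G →* MonoidAlgebra L (G ⧸ Γ') := (MonoidAlgebra.of L _).comp q'
  have hk : Kills I ((algebraMap L (MonoidAlgebra L (G ⧸ Γ'))).comp σ) χ' := by
    have hsub : I ≤ RingHom.ker (evalAt ((algebraMap L (MonoidAlgebra L (G ⧸ Γ'))).comp σ) χ') := by
      rw [← hs]
      refine Ideal.span_le.mpr fun y hy => ?_
      change evalAt _ χ' y = 0
      rw [← evalAt_mapRange, evalAt_eq_lift]
      set y' := m y
      have h1 : MonoidAlgebra.mapDomainRingHom L q y' = 0 :=
        hzero y' (Ideal.mem_map_of_mem _ (hs ▸ Ideal.subset_span hy))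
      have h2 : MonoidAlgebra.lift L _ G χ' y' = MonoidAlgebra.mapDomainRingHom L q' y' := by
        rw [← evalAt_eq_lift, ← evalAt_mapDomain, evalAt_eq_lift]
        change MonoidAlgebra.lift L _ _ (MonoidAlgebra.of L (G ⧸ Γ')) _ = _
        rw [show MonoidAlgebra.lift L _ _ (MonoidAlgebra.of L (G ⧸ Γ')) = AlgHom.id L _ from
          (MonoidAlgebra.lift L _ _).apply_symm_apply (AlgHom.id L _)]
        rfl
      rw [h2]
      set p : G ⧸ Γ' → G ⧸ Γ := ⇑(QuotientGroup.map Γ' Γ (MonoidHom.id G) (by simpa using hle))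
      have hsupp : ∀ g, y'.coeff g ≠ 0 → g ∈ F := fun g hg => hF y hy g fun h0 => hg (by simp [y', m, h0])
      have hinj : Set.InjOn p (q' '' F) := by
        rintro _ ⟨a, ha, rfl⟩ _ ⟨b, hb, rfl⟩ hab
        have hab' : (a : G ⧸ Γ) = (b : G ⧸ Γ) := hab
        have hmem : a / b ∈ D :=
          ⟨(QuotientGroup.eq_iff_div_mem).mp hab', a, ha, b, hb, rfl⟩
        exact (QuotientGroup.eq_iff_div_mem).mpr (Subgroup.subset_closure hmem)
      apply MonoidAlgebra.coeff_injective
      rw [MonoidAlgebra.coeff_zero]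
      refine Finsupp.mapDomain_injOn (q' '' F) hinj ?_ (by simp) ?_
      · intro z hz
        have hz' := Finsupp.mapDomain_support (by simpa [MonoidAlgebra.mapDomainRingHom_apply] using hz)
        obtain ⟨g, hg, rfl⟩ := Finset.mem_image.mp hz'
        exact ⟨g, hsupp g (Finsupp.mem_support_iff.mp hg), rfl⟩
      · rw [Finsupp.mapDomain_zero]
        have h3 : Finsupp.mapDomain p (MonoidAlgebra.mapDomainRingHom L q' y').coeff =
            (MonoidAlgebra.mapDomainRingHom L q y').coeff := by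
          simp only [MonoidAlgebra.mapDomainRingHom_apply, MonoidAlgebra.coeff_mapDomain, ← Finsupp.mapDomain_comp]
          rfl
        rw [h3, h1, MonoidAlgebra.coeff_zero]
    exact fun y hy => hsub hy
  intro γ hγ
  have h1 := (hiff _ _ χ').mp hk γ hγ
  have h2 := MonoidAlgebra.of_injective (h1.trans (map_one (MonoidAlgebra.of L (G ⧸ Γ'))).symm)
  exact (QuotientGroup.eq_one_iff γ).mp h2

end Field

/-- Finitely many subgroups occur at the field points. -/
theorem exists_finite_subgroups (I : Ideal (MonoidAlgebra R G)) (hI : IsSubgrpIdeal I) (hfg : I.FG) :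
    ∃ T : Set (Subgroup G), T.Finite ∧ ∀ (L : Type u) [Field L] (σ : R →+* L), ∃ Γ ∈ T,
      ∀ (C : Type u) [CommRing C] (h : L →+* C) (χ : G →* C), Kills I (h.comp σ) χ ↔ ∀ γ ∈ Γ, χ γ = 1 := by
  classical
  obtain ⟨s, hs⟩ := hfg
  let F : Finset G := s.biUnion fun y => y.coeff.support
  let E : Finset G := (F ×ˢ F).image fun p => p.1 / p.2
  refine ⟨(fun D : Finset G => Subgroup.closure (D : Set G)) '' ↑E.powerset,
    (Finset.finite_toSet _).image _, fun L _ σ => ?_⟩
  obtain ⟨Γ, hΓ, hgen⟩ := exists_subgroup_of_field I σ hI (s : Set (MonoidAlgebra R G)) hs (F : Set G) fun y hy g hg =>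
    Finset.mem_biUnion.mpr ⟨y, hy, Finsupp.mem_support_iff.mpr hg⟩
  refine ⟨Γ, ⟨E.filter (· ∈ Γ), Finset.mem_powerset.mpr (Finset.filter_subset _ _), ?_⟩, hΓ⟩
  refine Eq.trans (congrArg Subgroup.closure ?_) hgen.symm
  ext g
  simp only [Finset.coe_filter, Set.mem_setOf_eq, E, Finset.mem_image, Finset.mem_product, Finset.mem_coe]
  constructor
  · rintro ⟨⟨p, ⟨hp1, hp2⟩, rfl⟩, hg⟩
    exact ⟨hg, p.1, hp1, p.2, hp2, rfl⟩
  · rintro ⟨hg, a, ha, b, hb, rfl⟩
    exact ⟨⟨(a, b), ⟨ha, hb⟩, rfl⟩, hg⟩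

/-- For a given subgroup `Γ`, containing `D(G/Γ)` is cut out by a finitely generated ideal of the base. -/
theorem exists_classSum_ideal (I : Ideal (MonoidAlgebra R G)) (hfg : I.FG) (Γ : Subgroup G) :
    ∃ a : Ideal R, a.FG ∧ ∀ (C : Type u) [CommRing C] (σ : R →+* C), (∀ r ∈ a, σ r = 0) ↔
      ∀ (C' : Type u) [CommRing C'] (h : C →+* C') (χ : G →* C'), (∀ γ ∈ Γ, χ γ = 1) → Kills I (h.comp σ) χ := by
  classical
  obtain ⟨s, hs⟩ := hfg
  set q : G →* G ⧸ Γ := QuotientGroup.mk' Γ
  refine ⟨Ideal.span (↑(s.biUnion fun y => ((MonoidAlgebra.mapDomainRingHom R q y).coeff.support.image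
    (MonoidAlgebra.mapDomainRingHom R q y).coeff)) : Set R), ⟨_, rfl⟩, fun C _ σ => ⟨fun hσ => ?_, fun h => ?_⟩⟩
  · intro C' _ h χ hχ
    have h1 : χ = (QuotientGroup.lift Γ χ fun g hg => hχ g hg).comp q := rfl
    have hle : I ≤ RingHom.ker (evalAt (h.comp σ) χ) := by
      rw [← hs]
      refine Ideal.span_le.mpr fun y hy => ?_
      change evalAt (h.comp σ) χ y = 0
      rw [h1, ← evalAt_mapDomain, ← MonoidAlgebra.sum_coeff_single (MonoidAlgebra.mapDomainRingHom R q y),
        Finsupp.sum, map_sum]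
      refine Finset.sum_eq_zero fun g hg => ?_
      rw [evalAt_single, RingHom.comp_apply,
        hσ _ (Ideal.subset_span (Finset.mem_biUnion.mpr ⟨y, hy, Finset.mem_image_of_mem _ hg⟩)), map_zero, zero_mul]
    exact fun y hy => hle hy
  · set C' := MonoidAlgebra C (G ⧸ Γ)
    have h1 := h C' MonoidAlgebra.singleOneRingHom ((MonoidAlgebra.of C _).comp q) (fun γ hγ => by
      change MonoidAlgebra.of C (G ⧸ Γ) (γ : G ⧸ Γ) = 1
      rw [(QuotientGroup.eq_one_iff γ).mpr hγ, map_one])
    have hkey : ∀ z : MonoidAlgebra R (G ⧸ Γ),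
        evalAt ((MonoidAlgebra.singleOneRingHom : C →+* C').comp σ) (MonoidAlgebra.of C _) z =
          MonoidAlgebra.mapRingHom _ σ z := fun z => by
      have : evalAt ((MonoidAlgebra.singleOneRingHom : C →+* C').comp σ) (MonoidAlgebra.of C _) =
          MonoidAlgebra.mapRingHom _ σ := by
        refine MonoidAlgebra.ringHom_ext (fun r => ?_) fun m => ?_
        · simp [evalAt_single, MonoidAlgebra.of]
        · simp [evalAt_single, MonoidAlgebra.of]
      rw [this]
    intro r hr
    refine Submodule.span_induction (p := fun x _ => σ x = 0) ?_ (map_zero σ)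
      (fun x y _ _ hx hy => by rw [map_add, hx, hy, add_zero])
      (fun a x _ hx => by rw [smul_eq_mul, map_mul, hx, mul_zero]) hr
    intro x hx
    obtain ⟨y, hy, hx⟩ := Finset.mem_biUnion.mp hx
    obtain ⟨g, -, rfl⟩ := Finset.mem_image.mp hx
    have h2 := h1 y (hs ▸ Ideal.subset_span hy)
    rw [← evalAt_mapDomain, hkey] at h2
    simpa using congrArg (fun z : C' => z.coeff g) h2

end GrothLib.DiagGrp
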