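import Groth.Agent.Lib.DiagGrp.CharLift
import Groth.Agent.Lib.DiagGrp.SubgroupEq

/-!
Central subgroups of multiplicative type which agree modulo a nilpotent ideal agree.
-/

universe u

open CategoryTheory MonoidalCategory CartesianMonoidalCategory MonObj GrpObj AlgebraicGeometry
open CategoryTheory.Limits

namespace GrothLib.DiagGrp

variable {A : Type u} [CommRing A] {M M' : Type} [AddCommGroup M] [AddCommGroup M']
  {G : Over (Spec (CommRingCat.of A))} [GrpObj G]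

/-- An inclusion modulo a nilpotent ideal is induced by a homomorphism over the whole base. -/
theorem exists_hom_of_factor_mod (i₁ : Red.DS (Spec (CommRingCat.of A)) M ⟶ G)
    (i₂ : Red.DS (Spec (CommRingCat.of A)) M' ⟶ G) [IsMonHom i₁] [IsMonHom i₂] [Mono i₂]
    (I : Ideal A) (hI : IsNilpotent I) (hf : Factor i₁ i₂ (Spec.map (CommRingCat.ofHom (Ideal.Quotient.mk I)))) :
    ∃ v : Red.DS (Spec (CommRingCat.of A)) M ⟶ Red.DS (Spec (CommRingCat.of A)) M', IsMonHom v ∧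
      ∀ (C : Type u) [CommRing C] (t : Spec (CommRingCat.of C) ⟶ Spec (CommRingCat.of (A ⧸ I)))
        (g : Over.mk (t ≫ Spec.map (CommRingCat.ofHom (Ideal.Quotient.mk I))) ⟶ Red.DS (Spec (CommRingCat.of A)) M),
        (g ≫ v) ≫ i₂ = g ≫ i₁ := by
  set π := Ideal.Quotient.mk I
  let p : ∀ {C : Type u} [CommRing C], (A ⧸ I →+* C) → (Spec (CommRingCat.of C) ⟶ Spec (CommRingCat.of A)) :=
    fun h => Spec.map (CommRingCat.ofHom (h.comp π))
  have hp : ∀ (C : Type u) [CommRing C] (h : A ⧸ I →+* C),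
      Spec.map (CommRingCat.ofHom h) ≫ Spec.map (CommRingCat.ofHom π) = p h := fun C _ h => by
    rw [← Spec.map_comp, ← CommRingCat.ofHom_comp]
  have hex : ∀ (C : Type u) [CommRing C] (h : A ⧸ I →+* C) (χ : Multiplicative M →* C),
      ∃ ξ : Multiplicative M' →* C, dsPoint M' (p h) ξ ≫ i₂ = dsPoint M (p h) χ ≫ i₁ := fun C _ h χ => by
    obtain ⟨y, hy⟩ := hf (Over.mk (p h)) (Spec.map (CommRingCat.ofHom h)) (hp C h) (dsPoint M (p h) χ)
    exact ⟨(dsPoint M' (p h)).symm y, by rw [MulEquiv.apply_symm_apply, hy]⟩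
  choose Φ hΦ using hex
  have huniq : ∀ (C : Type u) [CommRing C] (h : A ⧸ I →+* C) (χ : Multiplicative M →* C)
      (ξ : Multiplicative M' →* C), dsPoint M' (p h) ξ ≫ i₂ = dsPoint M (p h) χ ≫ i₁ → ξ = Φ C h χ :=
    fun C _ h χ ξ hξ => (dsPoint M' (p h)).injective ((cancel_mono i₂).mp (hξ.trans (hΦ C h χ).symm))
  obtain ⟨y, hy, hyΦ⟩ := exists_groupLike_of_family (A := A ⧸ I) (G := Multiplicative M)
    (N := Multiplicative M') Φ
    (fun C C' _ _ h g χ => by
      refine (huniq C' (g.comp h) _ _ ?_).symm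
      have hg : Spec.map (CommRingCat.ofHom g) ≫ p h = p (g.comp h) := by
        rw [← Spec.map_comp, ← CommRingCat.ofHom_comp]
      rw [← dsPoint_comp (p h) _ g _ hg, ← dsPoint_comp (p h) _ g _ hg, Category.assoc, Category.assoc, hΦ])
    (fun C _ h χ χ' => by
      refine (huniq C h _ _ ?_).symm
      rw [map_mul, map_mul, MonObj.mul_comp, MonObj.mul_comp, hΦ, hΦ])
    (fun C _ h => by
      refine (huniq C h _ _ ?_).symm
      rw [map_one, map_one, MonObj.one_comp, MonObj.one_comp])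
  obtain ⟨x, hx, hxy⟩ := exists_groupLike_hom_lift π Ideal.Quotient.mk_surjective (fun a ha => by
    obtain ⟨n, hn⟩ := hI
    exact ⟨n, by
      rw [← Ideal.mem_bot, ← Ideal.zero_eq_bot, ← hn]
      exact Ideal.pow_mem_pow (by rwa [Ideal.mk_ker] at ha) n⟩) y hy
  obtain ⟨v, hv, hvx⟩ := exists_hom_of_groupLike x hx
  refine ⟨v, hv, fun C _ t g => ?_⟩
  set h : A ⧸ I →+* C := (Spec.preimage t).hom
  have ht : Spec.map (CommRingCat.ofHom h) = t := by rw [CommRingCat.ofHom_hom, Spec.map_preimage]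
  have key : ∀ (q : Spec (CommRingCat.of C) ⟶ Spec (CommRingCat.of A)), q = p h →
      ∀ g : Over.mk q ⟶ Red.DS (Spec (CommRingCat.of A)) M, (g ≫ v) ≫ i₂ = g ≫ i₁ := by
    intro q hq
    subst hq
    intro g
    obtain ⟨χ, rfl⟩ := (dsPoint M (p h)).surjective g
    rw [hvx, ← hΦ C h χ, hyΦ]
    congr 1
    refine congrArg _ (MonoidHom.ext fun n => ?_)
    change evalAt (h.comp π) χ (x n) = evalAt h χ (y n)
    rw [← hxy, evalAt_mapRange]
  exact key _ (by rw [← ht, hp]) g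

/-- Rigidity: equality modulo a nilpotent ideal is equality, if the first subgroup is central. -/
theorem factor_of_factor_mod (i₁ : Red.DS (Spec (CommRingCat.of A)) M ⟶ G)
    (i₂ : Red.DS (Spec (CommRingCat.of A)) M' ⟶ G) [IsMonHom i₁] [IsMonHom i₂] [Mono i₁] [Mono i₂]
    (hc : ∀ (X : Over (Spec (CommRingCat.of A))) (g : X ⟶ G) (h : X ⟶ Red.DS (Spec (CommRingCat.of A)) M),
      g * (h ≫ i₁) = (h ≫ i₁) * g)
    (I : Ideal A) (hI : IsNilpotent I) (h : Factor i₁ i₂ (Spec.map (CommRingCat.ofHom (Ideal.Quotient.mk I))))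
    (h' : Factor i₂ i₁ (Spec.map (CommRingCat.ofHom (Ideal.Quotient.mk I)))) :
    Factor i₁ i₂ (𝟙 _) ∧ Factor i₂ i₁ (𝟙 _) := by
  set W := Spec (CommRingCat.of A)
  let e : ∀ (N : Type) [AddCommGroup N], Grp.mk (Red.bc (𝟙 W) (Red.DS W N)) ≅ Grp.mk (Red.DS W N) := fun N _ =>
    (bcGrpComp (Red.diag (ULift.{u} ℤ) N) (Limits.IsTerminal.from specULiftZIsTerminal W) (𝟙 W)
      (Limits.IsTerminal.from specULiftZIsTerminal W) (Category.id_comp _).symm).symm
  obtain ⟨v, hv, hvt⟩ := exists_hom_of_factor_mod i₁ i₂ I hI h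
  obtain ⟨v', hv', hvt'⟩ := exists_hom_of_factor_mod i₂ i₁ I hI h'
  haveI : IsMonHom ((v ≫ i₂) * i₁⁻¹) := isMonHom_mul_inv_central (v ≫ i₂) i₁ hc
  haveI : IsMonHom (i₂ * (v' ≫ i₁)⁻¹) := isMonHom_mul_inv_central i₂ (v' ≫ i₁) fun Y g k => by
    rw [← Category.assoc]
    exact hc Y g _
  have hw : TrivOver ((v ≫ i₂) * i₁⁻¹) (𝟙 W) := trivOver_of_nilpotent (𝟙 W) (e M) _ I hI (by
    rw [Category.comp_id]
    refine trivOver_of_affine _ _ fun C _ t g => ?_
    rw [MonObj.comp_mul, GrpObj.comp_inv, mul_inv_eq_one, ← Category.assoc]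
    exact hvt C t g)
  have hw' : TrivOver (i₂ * (v' ≫ i₁)⁻¹) (𝟙 W) := trivOver_of_nilpotent (𝟙 W) (e M') _ I hI (by
    rw [Category.comp_id]
    refine trivOver_of_affine _ _ fun C _ t g => ?_
    rw [MonObj.comp_mul, GrpObj.comp_inv, mul_inv_eq_one, ← Category.assoc]
    exact (hvt' C t g).symm)
  refine ⟨fun Y τ hτ g => ⟨g ≫ v, ?_⟩, fun Y τ hτ g => ⟨g ≫ v', ?_⟩⟩
  · have h1 := hw Y τ hτ g
    rw [MonObj.comp_mul, GrpObj.comp_inv, mul_inv_eq_one, ← Category.assoc] at h1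
    exact h1
  · have h1 := hw' Y τ hτ g
    rw [MonObj.comp_mul, GrpObj.comp_inv, mul_inv_eq_one, ← Category.assoc] at h1
    exact h1.symm

end GrothLib.DiagGrp
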